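/-
Frames: a family of invertible maps indexed by an elementary abelian 2-group, multiplicative up to scalars, with a
nondegenerate commutator sign, whose size is the square of the dimension (the Pauli operators of a symplectic-type
2-group). Linear independence, scalar commutant, and the averaging identity.
-/
import Mathlib

set_option autoImplicit false
set_option linter.unusedSectionVars false

namespace Cfsg.Agent.Classical.Frame

open Module

universe u v w

variable {F : Type u} [Field F] {V : Type v} [AddCommGroup V] [Module F V] [FiniteDimensional F V]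
  {A : Type w} [AddCommGroup A] [Finite A]

/-- `g = c • h` as maps. -/
def Prop' (g h : V ≃ₗ[F] V) : Prop := ∃ c : F, ∀ v, g v = c • h v

/-- The frame. -/
structure Data (F : Type u) [Field F] (V : Type v) [AddCommGroup V] [Module F V] (A : Type w) [AddCommGroup A] where
  u : A → V ≃ₗ[F] V
  sg : A → A → F
  two : (2 : F) ≠ 0
  elem : ∀ a : A, a + a = 0
  mul : ∀ a b, ∃ c : F, ∀ v, u a (u b v) = c • u (a + b) v
  sign : ∀ a b, sg a b = 1 ∨ sg a b = -1
  comm : ∀ a b v, u a (u b v) = sg a b • u b (u a v)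
  nd : ∀ a, a ≠ 0 → ∃ b, sg a b = -1
  dim : finrank F V ^ 2 = Nat.card A

variable (Φ : Data F V A)

namespace Data

include Φ

theorem one_ne_neg : (1 : F) ≠ -1 := fun h => Φ.two (by linear_combination h)

theorem card_pos : 0 < Nat.card A := Nat.card_pos

theorem dim_pos : 0 < finrank F V := by
  rcases Nat.eq_zero_or_pos (finrank F V) with h | h
  · have h' := Φ.dim; rw [h] at h'; have := Nat.card_pos (α := A); simp at h'; omega
  · exact h

theorem nontrivial : Nontrivial V := Module.nontrivial_of_finrank_pos Φ.dim_pos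

theorem exists_ne : ∃ v : V, v ≠ 0 := by
  haveI := Φ.nontrivial
  exact _root_.exists_ne 0

theorem smul_inj {a : A} {c d : F} (h : ∀ v, c • Φ.u a v = d • Φ.u a v) : c = d := by
  obtain ⟨v, hv⟩ := Φ.exists_ne
  exact smul_left_injective F (fun e => hv ((Φ.u a).map_eq_zero_iff.mp e)) (h v)

theorem mul_ne {a b : A} {c : F} (h : ∀ v, Φ.u a (Φ.u b v) = c • Φ.u (a + b) v) : c ≠ 0 := by
  intro hc
  obtain ⟨v, hv⟩ := Φ.exists_ne
  have := h v
  rw [hc, zero_smul] at this
  exact hv ((Φ.u b).map_eq_zero_iff.mp ((Φ.u a).map_eq_zero_iff.mp this))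

theorem neg_eq (a : A) : -a = a := neg_eq_of_add_eq_zero_left (Φ.elem a)

theorem sub_eq (a b : A) : a - b = a + b := by rw [sub_eq_add_neg, Φ.neg_eq]

theorem sg_sq (a b : A) : Φ.sg a b * Φ.sg a b = 1 := by
  rcases Φ.sign a b with h | h <;> simp [h]

theorem sg_ne (a b : A) : Φ.sg a b ≠ 0 := fun h => by simpa [h] using Φ.sg_sq a b

theorem sg_self (a : A) : Φ.sg a a = 1 :=
  (Φ.smul_inj (a := a) (c := 1) (d := Φ.sg a a) fun v => by
    obtain ⟨w, rfl⟩ := (Φ.u a).surjective v
    rw [one_smul]; exact Φ.comm a a w).symm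

theorem sg_symm (a b : A) : Φ.sg b a = Φ.sg a b := by
  have h : Φ.sg a b * Φ.sg b a = 1 :=
    Φ.smul_inj (a := a) fun v => by
      obtain ⟨w, rfl⟩ := (Φ.u b).surjective v
      rw [one_smul]
      conv_rhs => rw [Φ.comm a b w, Φ.comm b a w]
      rw [smul_smul]
  calc Φ.sg b a = (Φ.sg a b * Φ.sg a b) * Φ.sg b a := by rw [Φ.sg_sq, one_mul]
    _ = Φ.sg a b := by rw [mul_assoc, h, mul_one]

theorem sg_add (a b c : A) : Φ.sg a (b + c) = Φ.sg a b * Φ.sg a c := by
  obtain ⟨d, hd⟩ := Φ.mul b c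
  have hd0 := Φ.mul_ne hd
  refine Φ.smul_inj (a := b + c) fun v => ?_
  obtain ⟨w, rfl⟩ := (Φ.u a).surjective v
  rw [← Φ.comm a (b + c) w]
  apply smul_right_injective V hd0
  show d • Φ.u a (Φ.u (b + c) w) = d • ((Φ.sg a b * Φ.sg a c) • Φ.u (b + c) (Φ.u a w))
  rw [← map_smul, ← hd w, Φ.comm a b (Φ.u c w), Φ.comm a c w, map_smul, hd, smul_comm d, smul_smul, smul_smul]

theorem sg_zero (a : A) : Φ.sg a 0 = 1 := by
  have h := Φ.sg_add a 0 0
  rw [add_zero] at h
  calc Φ.sg a 0 = Φ.sg a 0 * Φ.sg a 0 := h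
    _ = 1 := Φ.sg_sq a 0

theorem sg_add_left (a b c : A) : Φ.sg (a + b) c = Φ.sg a c * Φ.sg b c := by
  rw [Φ.sg_symm c, Φ.sg_add, ← Φ.sg_symm a c, ← Φ.sg_symm b c]

theorem u_zero : ∃ c : F, c ≠ 0 ∧ ∀ v, Φ.u 0 v = c • v := by
  obtain ⟨c, hc⟩ := Φ.mul 0 0
  refine ⟨c, Φ.mul_ne hc, fun v => (Φ.u 0).injective ?_⟩
  rw [hc v, add_zero, map_smul]

theorem sq (a : A) : ∃ c : F, c ≠ 0 ∧ ∀ v, Φ.u a (Φ.u a v) = c • v := by
  obtain ⟨c, hc⟩ := Φ.mul a a
  obtain ⟨d, hd0, hd⟩ := Φ.u_zero
  refine ⟨c * d, mul_ne_zero (Φ.mul_ne hc) hd0, fun v => ?_⟩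
  rw [hc v, Φ.elem, hd, smul_smul]

theorem symm_eq (a : A) : ∃ c : F, c ≠ 0 ∧ ∀ v, (Φ.u a).symm v = c • Φ.u a v := by
  obtain ⟨c, hc0, hc⟩ := Φ.sq a
  refine ⟨c⁻¹, inv_ne_zero hc0, fun v => (Φ.u a).injective ?_⟩
  rw [LinearEquiv.apply_symm_apply, map_smul, hc, inv_smul_smul₀ hc0]

/-- The maps as endomorphisms. -/
def m (a : A) : End F V := (Φ.u a).toLinearMap

theorem trace_zero {a : A} (ha : a ≠ 0) : LinearMap.trace F V (Φ.m a) = 0 := by
  obtain ⟨b, hb⟩ := Φ.nd a ha
  have e : (Φ.u b).conj (Φ.m a) = -Φ.m a := by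
    refine LinearMap.ext fun v => ?_
    rw [LinearEquiv.conj_apply_apply, LinearMap.neg_apply]
    show Φ.u b (Φ.u a ((Φ.u b).symm v)) = -Φ.u a v
    rw [Φ.comm b a, LinearEquiv.apply_symm_apply, Φ.sg_symm a b, hb, neg_one_smul]
  have h := LinearMap.trace_conj' (Φ.m a) (Φ.u b)
  rw [e, map_neg] at h
  exact (mul_eq_zero.mp (show (2 : F) * LinearMap.trace F V (Φ.m a) = 0 by linear_combination -h)).resolve_left Φ.two

theorem natCast_dim_ne : (finrank F V : F) ≠ 0 := by
  obtain ⟨k, hk⟩ : ∃ k, Nat.card A = 2 ^ k := by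
    have hp : IsPGroup 2 (Multiplicative A) := fun g =>
      ⟨1, by rw [pow_one, pow_two]; exact congrArg Multiplicative.ofAdd (Φ.elem g.toAdd)⟩
    obtain ⟨k, hk⟩ := IsPGroup.iff_card.mp hp
    exact ⟨k, by rw [← hk]; rfl⟩
  intro h
  have h' : ((finrank F V ^ 2 : ℕ) : F) = 0 := by push_cast; rw [h]; ring
  rw [Φ.dim, hk] at h'
  push_cast at h'
  exact Φ.two (eq_zero_of_pow_eq_zero h')

theorem indep : LinearIndependent F Φ.m := by
  haveI := Fintype.ofFinite A
  classical
  rw [Fintype.linearIndependent_iff]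
  intro g hg b
  have h : LinearMap.trace F V (Φ.m b * ∑ a, g a • Φ.m a) = 0 := by rw [hg, mul_zero, map_zero]
  rw [Finset.mul_sum, map_sum, Finset.sum_eq_single b] at h
  · obtain ⟨c, hc0, hc⟩ := Φ.sq b
    rw [mul_smul_comm, map_smul,
      show Φ.m b * Φ.m b = c • (1 : End F V) from LinearMap.ext fun v => hc v, map_smul, LinearMap.trace_one] at h
    simpa [smul_eq_mul, hc0, Φ.natCast_dim_ne] using h
  · intro a _ hab
    obtain ⟨c, hc⟩ := Φ.mul b a
    rw [mul_smul_comm, map_smul, show Φ.m b * Φ.m a = c • Φ.m (b + a) from LinearMap.ext fun v => hc v, map_smul,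
      Φ.trace_zero (fun e => hab ?_), smul_zero, smul_zero]
    rwa [← Φ.sub_eq, sub_eq_zero, eq_comm] at e
  · exact fun h => absurd (Finset.mem_univ b) h

theorem span_top : Submodule.span F (Set.range Φ.m) = ⊤ := by
  haveI := Fintype.ofFinite A
  refine Φ.indep.span_eq_top_of_card_eq_finrank' ?_
  rw [Module.finrank_linearMap, ← pow_two, Φ.dim, Nat.card_eq_fintype_card]

/-- An endomorphism commuting with the frame is a scalar. -/
theorem commutant (M : End F V) (h : ∀ a v, M (Φ.u a v) = Φ.u a (M v)) : ∃ c : F, ∀ v, M v = c • v := by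
  have hc : M ∈ Subalgebra.center F (End F V) := by
    refine Subalgebra.mem_center_iff.mpr fun N => ?_
    have hN : N ∈ Submodule.span F (Set.range Φ.m) := Φ.span_top ▸ Submodule.mem_top
    induction hN using Submodule.span_induction with
    | mem N hN => obtain ⟨a, rfl⟩ := hN; exact LinearMap.ext fun v => (h a v).symm
    | zero => simp
    | add N N' _ _ h1 h2 => rw [add_mul, mul_add, h1, h2]
    | smul c N _ h1 => rw [smul_mul_assoc, mul_smul_comm, h1]
  rw [Algebra.IsCentral.center_eq_bot, Algebra.mem_bot] at hc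
  obtain ⟨c, rfl⟩ := hc
  exact ⟨c, fun v => rfl⟩

/-- Equal multiples of frame maps have equal indices. -/
theorem index_unique {a b : A} {c d : F} (hc : c ≠ 0) (h : ∀ v, c • Φ.u a v = d • Φ.u b v) : a = b ∧ c = d := by
  classical
  rcases eq_or_ne a b with rfl | hab
  · exact ⟨rfl, Φ.smul_inj h⟩
  · exfalso
    haveI := Fintype.ofFinite A
    have h' := (Fintype.linearIndependent_iff.mp Φ.indep)
      (fun x => (if x = a then c else 0) - if x = b then d else 0) ?_ a
    · simp [hab, hc] at h'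
    · simp only [sub_smul, ite_smul, zero_smul, Finset.sum_sub_distrib, Finset.sum_ite_eq', Finset.mem_univ, if_true]
      exact sub_eq_zero.mpr (LinearMap.ext fun v => h v)

/-- Averaging a map over the frame gives the dimension times its trace. -/
theorem average [Fintype A] (M : End F V) :
    ∑ a : A, (Φ.u a).conj M = ((finrank F V : F) * LinearMap.trace F V M) • (1 : End F V) := by
  obtain ⟨c, hc⟩ := Φ.commutant (∑ a : A, (Φ.u a).conj M) fun b v => by
    simp only [LinearMap.sum_apply, LinearEquiv.conj_apply_apply, map_sum]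
    refine Fintype.sum_equiv (Equiv.addRight b) _ _ fun a => ?_
    simp only [Equiv.coe_addRight]
    obtain ⟨d, hd⟩ := Φ.mul b (a + b)
    have hd0 := Φ.mul_ne hd
    have e : ∀ w, Φ.u a w = d⁻¹ • Φ.u b (Φ.u (a + b) w) := fun w => by
      rw [hd w, inv_smul_smul₀ hd0, add_comm a b, ← add_assoc, Φ.elem, zero_add]
    rw [e]
    have e' : (Φ.u a).symm (Φ.u b v) = d • (Φ.u (a + b)).symm v := (Φ.u a).injective (by
      rw [LinearEquiv.apply_symm_apply, map_smul, e, LinearEquiv.apply_symm_apply, smul_inv_smul₀ hd0])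
    rw [e', map_smul, map_smul, map_smul, inv_smul_smul₀ hd0]
  have hs : ∑ a : A, (Φ.u a).conj M = c • (1 : End F V) := LinearMap.ext hc
  have ht := congrArg (LinearMap.trace F V) hs
  simp only [map_sum, LinearMap.trace_conj', Finset.sum_const, Finset.card_univ, map_smul, LinearMap.trace_one,
    nsmul_eq_mul, smul_eq_mul, ← Nat.card_eq_fintype_card] at ht
  rw [hs]
  congr 1
  rw [← Φ.dim] at ht
  push_cast at ht
  apply mul_right_cancel₀ Φ.natCast_dim_ne
  linear_combination -ht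

end Data

end Cfsg.Agent.Classical.Frame
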