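/-
The commutator sign of a frame as a nondegenerate pairing: perpendicular subgroups and prescribed patterns.
-/
import Cfsg.Agent.Lib.Classical.Frame.Basic

set_option autoImplicit false
set_option linter.unusedSectionVars false

namespace Cfsg.Agent.Classical.Frame

open Module

universe u v w

variable {F : Type u} [Field F] {V : Type v} [AddCommGroup V] [Module F V] [FiniteDimensional F V]
  {A : Type w} [AddCommGroup A] [Finite A] (Φ : Data F V A)

/-- A family of characters of a finite monoid has at most as many members as the monoid has elements. -/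
theorem card_chars_le {X : Type*} [Monoid X] [Finite X] {Y : Type*} [Finite Y] (φ : Y → (X →* F))
    (hφ : Function.Injective φ) : Nat.card Y ≤ Nat.card X := by
  classical
  haveI := Fintype.ofFinite X
  haveI := Fintype.ofFinite Y
  have := ((linearIndependent_monoidHom X F).comp φ hφ).fintype_card_le_finrank
  rwa [Module.finrank_fintype_fun_eq_card, ← Nat.card_eq_fintype_card, ← Nat.card_eq_fintype_card] at this

namespace Data

include Φ

theorem sg_cases {a b : A} (h : Φ.sg a b ≠ 1) : Φ.sg a b = -1 := (Φ.sign a b).resolve_left h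

theorem sg_eq_one_or {a b : A} : Φ.sg a b = 1 ∨ Φ.sg a b = -1 := Φ.sign a b

theorem add_self_cancel (a b : A) : a + b + b = a := by rw [add_assoc, Φ.elem, add_zero]

theorem eq_of_add_eq_zero {a b : A} (h : a + b = 0) : a = b := by
  rw [← Φ.add_self_cancel a b, h, zero_add]

theorem add_ne_zero {a b : A} (h : a ≠ b) : a + b ≠ 0 := fun e => h (Φ.eq_of_add_eq_zero e)

theorem eq_zero_of_sg {a : A} (h : ∀ b, Φ.sg a b = 1) : a = 0 := by
  by_contra ha
  obtain ⟨b, hb⟩ := Φ.nd a ha
  exact Φ.one_ne_neg ((h b).symm.trans hb)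

/-- The elements pairing trivially with a subgroup. -/
def perp (S : AddSubgroup A) : AddSubgroup A where
  carrier := {a | ∀ s ∈ S, Φ.sg a s = 1}
  zero_mem' := fun s _ => by rw [Φ.sg_symm, Φ.sg_zero]
  add_mem' := fun ha hb s hs => by rw [Φ.sg_add_left, ha s hs, hb s hs, one_mul]
  neg_mem' := fun ha s hs => by rw [Φ.neg_eq]; exact ha s hs

theorem mem_perp {S : AddSubgroup A} {a : A} : a ∈ Φ.perp S ↔ ∀ s ∈ S, Φ.sg a s = 1 := Iff.rfl

theorem le_perp_perp (S : AddSubgroup A) : S ≤ Φ.perp (Φ.perp S) := fun s hs a ha => by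
  rw [Φ.sg_symm]; exact ha s hs

/-- The character of a subgroup given by an index. -/
def chi (S : AddSubgroup A) (a : A) : Multiplicative S →* F where
  toFun s := Φ.sg a (s.toAdd : S)
  map_one' := Φ.sg_zero a
  map_mul' s t := Φ.sg_add a _ _

theorem chi_eq_iff {S : AddSubgroup A} {a b : A} : Φ.chi S a = Φ.chi S b ↔ a + b ∈ Φ.perp S := by
  constructor
  · intro h s hs
    have h1 : Φ.sg a s = Φ.sg b s := DFunLike.congr_fun h (Multiplicative.ofAdd ⟨s, hs⟩)
    rw [Φ.sg_add_left, h1, Φ.sg_sq]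
  · intro h
    refine MonoidHom.ext fun s => ?_
    have h1 := h _ (s.toAdd : S).2
    rw [Φ.sg_add_left] at h1
    show Φ.sg a _ = Φ.sg b _
    calc Φ.sg a (s.toAdd : S).1
        = Φ.sg a (s.toAdd : S).1 * (Φ.sg b (s.toAdd : S).1 * Φ.sg b (s.toAdd : S).1) := by rw [Φ.sg_sq, mul_one]
      _ = Φ.sg b (s.toAdd : S).1 := by rw [← mul_assoc, h1, one_mul]

theorem chi_factor (S : AddSubgroup A) : ∃ φ : A ⧸ Φ.perp S → (Multiplicative S →* F),
    Function.Injective φ ∧ ∀ a : A, φ (a : A ⧸ Φ.perp S) = Φ.chi S a := by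
  refine ⟨fun q => Quotient.liftOn' q (Φ.chi S) fun a b hab => Φ.chi_eq_iff.mpr ?_, ?_, fun a => rfl⟩
  · rw [QuotientAddGroup.leftRel_apply, Φ.neg_eq] at hab
    exact hab
  · intro q r
    induction q using QuotientAddGroup.induction_on with
    | H a =>
      induction r using QuotientAddGroup.induction_on with
      | H b =>
        intro h
        rw [QuotientAddGroup.eq, Φ.neg_eq]
        exact Φ.chi_eq_iff.mp h

theorem card_le_mul_perp (S : AddSubgroup A) : Nat.card A ≤ Nat.card S * Nat.card (Φ.perp S) := by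
  obtain ⟨φ, hφ, -⟩ := Φ.chi_factor S
  rw [AddSubgroup.card_eq_card_quotient_mul_card_addSubgroup (Φ.perp S)]
  exact Nat.mul_le_mul_right _ ((card_chars_le φ hφ).trans_eq (Nat.card_congr Multiplicative.toAdd))

theorem mul_perp_le (S : AddSubgroup A) : Nat.card S * Nat.card (Φ.perp S) ≤ Nat.card A := by
  let ψ : Φ.perp S → (Multiplicative (A ⧸ S) →* F) := fun c =>
    { toFun := fun q => Quotient.liftOn' (Multiplicative.toAdd q : A ⧸ S) (Φ.sg c.1) fun a b hab => by
        rw [QuotientAddGroup.leftRel_apply, Φ.neg_eq] at hab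
        have h := c.2 _ hab
        rw [Φ.sg_add] at h
        calc Φ.sg c.1 a = Φ.sg c.1 a * (Φ.sg c.1 b * Φ.sg c.1 b) := by rw [Φ.sg_sq, mul_one]
          _ = Φ.sg c.1 b := by rw [← mul_assoc, h, one_mul]
      map_one' := Φ.sg_zero c.1
      map_mul' := fun q r => by
        obtain ⟨a, ha⟩ := QuotientAddGroup.mk_surjective (Multiplicative.toAdd q : A ⧸ S)
        obtain ⟨b, hb⟩ := QuotientAddGroup.mk_surjective (Multiplicative.toAdd r : A ⧸ S)
        rw [toAdd_mul, ← ha, ← hb, ← QuotientAddGroup.mk_add]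
        exact Φ.sg_add c.1 a b }
  have hψ : Function.Injective ψ := fun c d h => Subtype.ext (Φ.eq_of_add_eq_zero (Φ.eq_zero_of_sg fun a => by
    have h1 : Φ.sg c.1 a = Φ.sg d.1 a := DFunLike.congr_fun h (Multiplicative.ofAdd (a : A ⧸ S))
    rw [Φ.sg_add_left, h1, Φ.sg_sq]))
  have h1 := card_chars_le ψ hψ
  rw [AddSubgroup.card_eq_card_quotient_mul_card_addSubgroup S, mul_comm]
  exact Nat.mul_le_mul_right _ (h1.trans_eq (Nat.card_congr Multiplicative.toAdd))

theorem card_perp (S : AddSubgroup A) : Nat.card S * Nat.card (Φ.perp S) = Nat.card A :=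
  le_antisymm (Φ.mul_perp_le S) (Φ.card_le_mul_perp S)

theorem perp_perp (S : AddSubgroup A) : Φ.perp (Φ.perp S) = S := by
  refine (AddSubgroup.eq_of_le_of_card_ge (Φ.le_perp_perp S) ?_).symm
  have h1 := Φ.card_perp S
  have h2 := Φ.card_perp (Φ.perp S)
  rw [mul_comm] at h1
  exact (Nat.eq_of_mul_eq_mul_left Nat.card_pos (h2.trans h1.symm)).le

/-- Every sign pattern on a subgroup is realised by an index. -/
theorem exists_pattern (S : AddSubgroup A) (χ : A → F) (hadd : ∀ a ∈ S, ∀ b ∈ S, χ (a + b) = χ a * χ b)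
    (h0 : χ 0 = 1) : ∃ c, ∀ s ∈ S, Φ.sg c s = χ s := by
  classical
  obtain ⟨φ, hφ, hφ'⟩ := Φ.chi_factor S
  let X : Multiplicative S →* F :=
    { toFun := fun s => χ (s.toAdd : S)
      map_one' := h0
      map_mul' := fun s t => hadd _ (s.toAdd : S).2 _ (t.toAdd : S).2 }
  by_contra hc
  push Not at hc
  have hX : ∀ q, φ q ≠ X := by
    intro q
    induction q using QuotientAddGroup.induction_on with
    | H a =>
      intro e
      obtain ⟨s, hs, hne⟩ := hc a
      exact hne (DFunLike.congr_fun ((hφ' a).symm.trans e) (Multiplicative.ofAdd ⟨s, hs⟩))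
  have h1 := card_chars_le (Option.elim' X φ) (by
    intro p q h
    rcases p with _ | p <;> rcases q with _ | q
    · rfl
    · exact absurd h.symm (hX q)
    · exact absurd h (hX p)
    · exact congrArg some (hφ h))
  rw [Finite.card_option, Nat.card_congr Multiplicative.toAdd] at h1
  have h2 := Φ.card_perp S
  rw [AddSubgroup.card_eq_card_quotient_mul_card_addSubgroup (Φ.perp S)] at h2
  have h3 := Nat.eq_of_mul_eq_mul_right Nat.card_pos h2
  omega

/-- Two indices that are nontrivial on a subgroup are simultaneously nontrivial somewhere on it. -/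
theorem exists_neg_both {S : AddSubgroup A} {a b : A} (ha : a ∉ Φ.perp S) (hb : b ∉ Φ.perp S) :
    ∃ c ∈ S, Φ.sg a c = -1 ∧ Φ.sg b c = -1 := by
  simp only [mem_perp, not_forall] at ha hb
  obtain ⟨c1, hc1, h1⟩ := ha
  obtain ⟨c2, hc2, h2⟩ := hb
  rcases Φ.sign b c1 with e1 | e1
  · rcases Φ.sign a c2 with e2 | e2
    · exact ⟨c1 + c2, S.add_mem hc1 hc2, by rw [Φ.sg_add, Φ.sg_cases h1, e2, mul_one],
        by rw [Φ.sg_add, Φ.sg_cases h2, e1, one_mul]⟩
    · exact ⟨c2, hc2, e2, Φ.sg_cases h2⟩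
  · exact ⟨c1, hc1, Φ.sg_cases h1, e1⟩

/-- Two nonzero indices have a common anticommuting index. -/
theorem exists_neg_two {a b : A} (ha : a ≠ 0) (hb : b ≠ 0) : ∃ c, Φ.sg a c = -1 ∧ Φ.sg b c = -1 := by
  have h : ∀ x : A, x ≠ 0 → x ∉ Φ.perp ⊤ := fun x hx hm => hx (Φ.eq_zero_of_sg fun y => hm y trivial)
  obtain ⟨c, -, hc⟩ := Φ.exists_neg_both (S := ⊤) (h a ha) (h b hb)
  exact ⟨c, hc⟩

end Data

end Cfsg.Agent.Classical.Frame
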