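/-
The projective group of a space, the image of a frame, and its normaliser.
-/
import Cfsg.Agent.Lib.Classical.Frame.Basic

set_option autoImplicit false
set_option linter.unusedSectionVars false

namespace Cfsg.Agent.Classical.Frame

open Module

universe u v w

section PG

variable (F : Type u) [Field F] (V : Type v) [AddCommGroup V] [Module F V]

/-- The scalar maps. -/
def scal : Subgroup (V ≃ₗ[F] V) where
  carrier := {g | ∃ c : F, ∀ v, g v = c • v}
  one_mem' := ⟨1, fun v => by rw [one_smul]; rfl⟩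
  mul_mem' := by
    rintro g h ⟨c, hc⟩ ⟨d, hd⟩
    exact ⟨c * d, fun v => by rw [LinearEquiv.mul_apply, hd, hc, smul_smul]⟩
  inv_mem' := by
    rintro g ⟨c, hc⟩
    refine ⟨c⁻¹, fun v => ?_⟩
    rcases eq_or_ne c 0 with rfl | hc0
    · have hv : v = 0 := g.injective (by rw [hc, zero_smul, map_zero])
      rw [hv, map_zero, smul_zero]
    · exact g.injective (by
        rw [← LinearEquiv.mul_apply, mul_inv_cancel, map_smul, hc, inv_smul_smul₀ hc0]
        rfl)

instance scal_normal : (scal F V).Normal :=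
  ⟨fun z ⟨c, hc⟩ g => ⟨c, fun v => by
    rw [LinearEquiv.mul_apply, LinearEquiv.mul_apply, hc, map_smul, ← LinearEquiv.mul_apply g g⁻¹, mul_inv_cancel]
    rfl⟩⟩

/-- The projective group. -/
abbrev PG := (V ≃ₗ[F] V) ⧸ scal F V

/-- The projection. -/
def pr : (V ≃ₗ[F] V) →* PG F V := QuotientGroup.mk' (scal F V)

variable {F V}

theorem pr_surjective : Function.Surjective (pr F V) := QuotientGroup.mk'_surjective _

theorem pr_eq_pr {g h : V ≃ₗ[F] V} : pr F V g = pr F V h ↔ ∃ c : F, ∀ v, h v = c • g v := by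
  rw [pr, QuotientGroup.mk'_eq_mk']
  constructor
  · rintro ⟨z, ⟨c, hc⟩, rfl⟩
    exact ⟨c, fun v => by rw [LinearEquiv.mul_apply, hc, map_smul]⟩
  · rintro ⟨c, hc⟩
    exact ⟨g⁻¹ * h, ⟨c, fun v => g.injective (by
      rw [← LinearEquiv.mul_apply, mul_inv_cancel_left, hc, map_smul])⟩, mul_inv_cancel_left _ _⟩

theorem pr_eq_one {g : V ≃ₗ[F] V} : pr F V g = 1 ↔ ∃ c : F, ∀ v, g v = c • v := by
  rw [← MonoidHom.mem_ker, pr, QuotientGroup.ker_mk']
  exact Iff.rfl

theorem pr_commute {g h : V ≃ₗ[F] V} :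
    pr F V g * pr F V h = pr F V h * pr F V g ↔ ∃ c : F, ∀ v, g (h v) = c • h (g v) := by
  rw [← map_mul, ← map_mul, eq_comm, pr_eq_pr]
  exact Iff.rfl

theorem pr_conj {g h k : V ≃ₗ[F] V} :
    pr F V g * pr F V h * (pr F V g)⁻¹ = pr F V k ↔ ∃ c : F, ∀ v, g (h v) = c • k (g v) := by
  rw [mul_inv_eq_iff_eq_mul, ← map_mul, ← map_mul, eq_comm, pr_eq_pr]
  exact Iff.rfl

instance [Finite F] [FiniteDimensional F V] : Finite (V ≃ₗ[F] V) := by
  haveI : Finite V := Module.finite_of_finite F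
  exact Finite.of_injective (fun g => (g : V → V)) DFunLike.coe_injective

end PG

variable {F : Type u} [Field F] {V : Type v} [AddCommGroup V] [Module F V] [FiniteDimensional F V]
  {A : Type w} [AddCommGroup A] [Finite A] (Φ : Data F V A)

namespace Data

/-- The frame in the projective group. -/
def e (a : A) : PG F V := pr F V (Φ.u a)

theorem e_add (a b : A) : Φ.e (a + b) = Φ.e a * Φ.e b := by
  obtain ⟨c, hc⟩ := Φ.mul a b
  rw [e, e, e, ← map_mul, pr_eq_pr]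
  exact ⟨c, hc⟩

theorem e_zero : Φ.e 0 = 1 := by
  obtain ⟨c, -, hc⟩ := Φ.u_zero
  exact pr_eq_one.mpr ⟨c, hc⟩

theorem e_sq (a : A) : Φ.e a * Φ.e a = 1 := by rw [← Φ.e_add, Φ.elem, Φ.e_zero]

theorem e_inv (a : A) : (Φ.e a)⁻¹ = Φ.e a := inv_eq_of_mul_eq_one_right (Φ.e_sq a)

theorem e_comm (a b : A) : Φ.e a * Φ.e b = Φ.e b * Φ.e a := by rw [← Φ.e_add, ← Φ.e_add, add_comm]

theorem e_injective : Function.Injective Φ.e := fun a b h => by
  obtain ⟨c, hc⟩ := pr_eq_pr.mp h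
  exact ((Φ.index_unique (a := b) (b := a) (c := 1) (d := c) one_ne_zero fun v => by rw [one_smul, hc]).1).symm

theorem e_eq_one {a : A} : Φ.e a = 1 ↔ a = 0 :=
  ⟨fun h => Φ.e_injective (h.trans Φ.e_zero.symm), fun h => h ▸ Φ.e_zero⟩

/-- The projective frame group. -/
def E : Subgroup (PG F V) where
  carrier := Set.range Φ.e
  one_mem' := ⟨0, Φ.e_zero⟩
  mul_mem' := by rintro _ _ ⟨a, rfl⟩ ⟨b, rfl⟩; exact ⟨a + b, Φ.e_add a b⟩
  inv_mem' := by rintro _ ⟨a, rfl⟩; exact ⟨a, (Φ.e_inv a).symm⟩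

theorem e_mem (a : A) : Φ.e a ∈ Φ.E := ⟨a, rfl⟩

theorem mem_E {x : PG F V} : x ∈ Φ.E ↔ ∃ a, Φ.e a = x := Iff.rfl

/-- The normaliser of the frame. -/
def N : Subgroup (PG F V) := Subgroup.normalizer (Φ.E : Set (PG F V))

theorem E_le_N : Φ.E ≤ Φ.N := Subgroup.le_normalizer

theorem mem_N_of {g : PG F V} (h : ∀ a, ∃ b, g * Φ.e a * g⁻¹ = Φ.e b) : g ∈ Φ.N := by
  classical
  choose f hf using h
  have hinj : Function.Injective f := fun a b hab => Φ.e_injective (mul_left_cancel (mul_right_cancel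
    (show g * Φ.e a * g⁻¹ = g * Φ.e b * g⁻¹ by rw [hf, hf, hab])))
  obtain ⟨_, hsurj⟩ := Finite.injective_iff_bijective.mp hinj
  refine Subgroup.mem_normalizer_iff.mpr fun x => ⟨?_, ?_⟩
  · rintro ⟨a, rfl⟩; exact ⟨f a, (hf a).symm⟩
  · rintro ⟨b, hb⟩
    obtain ⟨a, rfl⟩ := hsurj b
    exact ⟨a, mul_left_cancel (mul_right_cancel ((hf a).trans hb))⟩

theorem conj_of_mem_N {g : PG F V} (hg : g ∈ Φ.N) (a : A) : ∃ b, g * Φ.e a * g⁻¹ = Φ.e b := by
  obtain ⟨b, hb⟩ := ((Subgroup.mem_normalizer_iff.mp hg) (Φ.e a)).mp (Φ.e_mem a)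
  exact ⟨b, hb.symm⟩

/-- The permutation of the indices induced by an element of the normaliser. -/
noncomputable def act (g : Φ.N) (a : A) : A := Classical.choose (Φ.conj_of_mem_N g.2 a)

theorem act_spec (g : Φ.N) (a : A) : (g : PG F V) * Φ.e a * (g : PG F V)⁻¹ = Φ.e (Φ.act g a) :=
  Classical.choose_spec (Φ.conj_of_mem_N g.2 a)

theorem act_add (g : Φ.N) (a b : A) : Φ.act g (a + b) = Φ.act g a + Φ.act g b := by
  apply Φ.e_injective
  rw [← act_spec, Φ.e_add, Φ.e_add, ← act_spec, ← act_spec]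
  group

theorem act_zero (g : Φ.N) : Φ.act g 0 = 0 := by
  apply Φ.e_injective
  rw [← act_spec, Φ.e_zero]
  group

theorem act_injective (g : Φ.N) : Function.Injective (Φ.act g) := fun a b h => Φ.e_injective
  (mul_left_cancel (mul_right_cancel ((Φ.act_spec g a).trans (h ▸ (Φ.act_spec g b).symm))))

theorem exists_smul {g : V ≃ₗ[F] V} {a b : A} (h : pr F V g * Φ.e a * (pr F V g)⁻¹ = Φ.e b) :
    ∃ c : F, c ≠ 0 ∧ ∀ v, g (Φ.u a v) = c • Φ.u b (g v) := by
  obtain ⟨c, hc⟩ := pr_conj.mp h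
  refine ⟨c, ?_, hc⟩
  rintro rfl
  obtain ⟨v, hv⟩ := Φ.exists_ne
  exact hv ((Φ.u a).map_eq_zero_iff.mp (g.map_eq_zero_iff.mp ((hc v).trans (zero_smul F _))))

theorem act_sg (g : Φ.N) (a b : A) : Φ.sg (Φ.act g a) (Φ.act g b) = Φ.sg a b := by
  obtain ⟨h, hh⟩ := pr_surjective (g : PG F V)
  have key : ∀ a, pr F V h * Φ.e a * (pr F V h)⁻¹ = Φ.e (Φ.act g a) := fun a => by rw [hh]; exact Φ.act_spec g a
  obtain ⟨c, hc0, hc⟩ := Φ.exists_smul (key a)
  obtain ⟨d, hd0, hd⟩ := Φ.exists_smul (key b)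
  obtain ⟨v, hv⟩ := Φ.exists_ne
  have h1 := congrArg h (Φ.comm a b v)
  rw [hc, hd, map_smul, map_smul, hd, hc, map_smul, Φ.comm] at h1
  simp only [smul_smul] at h1
  have hne : Φ.u (Φ.act g b) (Φ.u (Φ.act g a) (h v)) ≠ 0 := fun e => hv (h.map_eq_zero_iff.mp
    ((Φ.u _).map_eq_zero_iff.mp ((Φ.u _).map_eq_zero_iff.mp e)))
  exact mul_left_cancel₀ (mul_ne_zero hc0 hd0) (by linear_combination smul_left_injective F hne h1)

/-- A map commuting up to given scalars with every frame map is a multiple of a frame map. -/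
theorem eq_u_of_scalars (M : End F V) (hM : M ≠ 0) (f : A → F) (h : ∀ a v, M (Φ.u a v) = f a • Φ.u a (M v)) :
    ∃ (b : A) (c : F), c ≠ 0 ∧ (∀ a, f a = Φ.sg b a) ∧ ∀ v, M v = c • Φ.u b v := by
  classical
  haveI := Fintype.ofFinite A
  obtain ⟨g, hg⟩ : ∃ g : A → F, ∑ b, g b • Φ.m b = M :=
    (Submodule.mem_span_range_iff_exists_fun F).mp (Φ.span_top ▸ Submodule.mem_top)
  have hMv : ∀ v, M v = ∑ b, g b • Φ.u b v := fun v => by rw [← hg]; simp [Data.m, LinearMap.sum_apply]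
  have key : ∀ a b, g b * Φ.sg b a = f a * g b := by
    intro a
    have e0 : ∀ v, ∑ b, (g b * Φ.sg b a - f a * g b) • Φ.u b v = 0 := fun v => (Φ.u a).injective (by
      have h1 : ∑ b, g b • Φ.u b (Φ.u a v) = f a • Φ.u a (∑ b, g b • Φ.u b v) := by
        rw [← hMv, ← hMv]; exact h a v
      rw [map_sum, Finset.smul_sum] at h1
      rw [map_sum, map_zero, ← sub_eq_zero.mpr h1, ← Finset.sum_sub_distrib]
      refine Finset.sum_congr rfl fun b _ => ?_
      rw [map_smul, sub_smul, map_smul, Φ.comm b a, smul_smul, smul_smul])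
    have e : ∑ b, (g b * Φ.sg b a - f a * g b) • Φ.m b = 0 := LinearMap.ext fun v => by
      rw [LinearMap.sum_apply]; exact e0 v
    exact fun b => sub_eq_zero.mp (Fintype.linearIndependent_iff.mp Φ.indep _ e b)
  obtain ⟨b, hb⟩ : ∃ b, g b ≠ 0 := by
    by_contra hc
    push Not at hc
    exact hM (LinearMap.ext fun v => by rw [hMv]; simp [hc])
  have hf : ∀ a, f a = Φ.sg b a := fun a => mul_right_cancel₀ hb (by linear_combination -key a b)
  refine ⟨b, g b, hb, hf, fun v => ?_⟩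
  rw [hMv, Finset.sum_eq_single b]
  · intro x _ hxb
    have hz : g x = 0 := by
      by_contra hx
      obtain ⟨a, ha⟩ := Φ.nd (x + b) (fun e => hxb (by rwa [← Φ.sub_eq, sub_eq_zero] at e))
      have h1 : Φ.sg x a = Φ.sg b a := by rw [← hf a]; exact mul_left_cancel₀ hx (by linear_combination key a x)
      rw [Φ.sg_add_left, h1, Φ.sg_sq] at ha
      exact Φ.one_ne_neg ha
    rw [hz, zero_smul]
  · exact fun h => absurd (Finset.mem_univ b) h

theorem mem_E_of_act {g : Φ.N} (h : ∀ a, Φ.act g a = a) : (g : PG F V) ∈ Φ.E := by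
  obtain ⟨k, hk⟩ := pr_surjective (g : PG F V)
  choose c hc0 hc using fun a => Φ.exists_smul (g := k) (a := a) (b := a)
    (by have := Φ.act_spec g a; rw [h a] at this; rw [hk]; exact this)
  obtain ⟨v0, hv⟩ := Φ.exists_ne
  obtain ⟨b, d, -, -, hd⟩ := Φ.eq_u_of_scalars k.toLinearMap
    (fun e => hv (k.injective ((LinearMap.congr_fun e v0).trans (map_zero k).symm))) c hc
  exact ⟨b, by rw [← hk]; exact pr_eq_pr.mpr ⟨d, hd⟩⟩

theorem centralizer_E {g : PG F V} (h : ∀ a, g * Φ.e a = Φ.e a * g) : g ∈ Φ.E := by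
  have hN : g ∈ Φ.N := Φ.mem_N_of fun a => ⟨a, by rw [h a, mul_inv_cancel_right]⟩
  refine Φ.mem_E_of_act (g := ⟨g, hN⟩) fun a => Φ.e_injective ?_
  rw [← Φ.act_spec]
  exact by rw [h a, mul_inv_cancel_right]

end Data

end Cfsg.Agent.Classical.Frame
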