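/-
Lifts of transvections and their action on the frame.
-/
import Cfsg.Agent.Lib.Classical.Frame.Perp
import Cfsg.Agent.Lib.Classical.Frame.Proj

set_option autoImplicit false
set_option linter.unusedSectionVars false

namespace Cfsg.Agent.Classical.Frame

open Module

universe u v w

variable {F : Type u} [Field F] {V : Type v} [AddCommGroup V] [Module F V] [FiniteDimensional F V]
  {A : Type w} [AddCommGroup A] [Finite A] (Φ : Data F V A)

namespace Data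

/-- `t` is `1 + ζ u z` with `(ζ u z)² = -1`. -/
def Tz (z : A) (t : V ≃ₗ[F] V) : Prop :=
  ∃ ζ : F, (∀ v, ζ • Φ.u z (ζ • Φ.u z v) = -v) ∧ ∀ v, t v = v + ζ • Φ.u z v

/-- The lift of the transvection of `z` lies in `G`. -/
def Single (G : Subgroup (PG F V)) (z : A) : Prop := ∃ t, Φ.Tz z t ∧ pr F V t ∈ G

/-- The product of the lifts of the transvections of `z` and `z'` lies in `G`. -/
def Pair (G : Subgroup (PG F V)) (z z' : A) : Prop :=
  ∃ t t', Φ.Tz z t ∧ Φ.Tz z' t' ∧ pr F V t * pr F V t' ∈ G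

/-- The transvection of `z` on the indices. -/
noncomputable def tau (z a : A) : A :=
  @ite A (Φ.sg z a = 1) (_root_.Classical.propDecidable _) a (a + z)

theorem tau_of_one {z a : A} (h : Φ.sg z a = 1) : Φ.tau z a = a := by rw [tau, if_pos h]

theorem tau_of_neg {z a : A} (h : Φ.sg z a = -1) : Φ.tau z a = a + z := by
  rw [tau, if_neg]; rw [h]; exact fun e => Φ.one_ne_neg e.symm

theorem tau_add (z a b : A) : Φ.tau z (a + b) = Φ.tau z a + Φ.tau z b := by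
  have e : a + z + (b + z) = a + b := by rw [add_add_add_comm, Φ.elem, add_zero]
  rcases Φ.sign z a with ha | ha <;> rcases Φ.sign z b with hb | hb
  · rw [Φ.tau_of_one ha, Φ.tau_of_one hb, Φ.tau_of_one (by rw [Φ.sg_add, ha, hb, one_mul])]
  · rw [Φ.tau_of_one ha, Φ.tau_of_neg hb, Φ.tau_of_neg (by rw [Φ.sg_add, ha, hb, one_mul]), add_assoc]
  · rw [Φ.tau_of_neg ha, Φ.tau_of_one hb, Φ.tau_of_neg (by rw [Φ.sg_add, ha, hb, mul_one]), add_right_comm]
  · rw [Φ.tau_of_neg ha, Φ.tau_of_neg hb, Φ.tau_of_one (by rw [Φ.sg_add, ha, hb, neg_one_mul, neg_neg]), e]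

theorem tau_zero (z : A) : Φ.tau z 0 = 0 := Φ.tau_of_one (Φ.sg_zero z)

theorem tau_self (z : A) : Φ.tau z z = z := Φ.tau_of_one (Φ.sg_self z)

theorem tau_sub_mem {S : AddSubgroup A} {z : A} (hz : z ∈ S) (a : A) : Φ.tau z a + a ∈ S := by
  rcases Φ.sign z a with h | h
  · rw [Φ.tau_of_one h, Φ.elem]; exact S.zero_mem
  · rw [Φ.tau_of_neg h, add_comm (a + z), ← add_assoc, Φ.elem, zero_add]; exact hz

/-- `g` permutes the frame by `f`. -/
def Acts (g : PG F V) (f : A → A) : Prop := ∀ a, g * Φ.e a * g⁻¹ = Φ.e (f a)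

variable {Φ}

theorem Acts.mem_N {g : PG F V} {f : A → A} (h : Φ.Acts g f) : g ∈ Φ.N := Φ.mem_N_of fun a => ⟨f a, h a⟩

theorem Acts.mul {g g' : PG F V} {f f' : A → A} (h : Φ.Acts g f) (h' : Φ.Acts g' f') :
    Φ.Acts (g * g') (f ∘ f') := fun a => by
  rw [Function.comp_apply, ← h, ← h']; group

theorem Acts.eq {g : PG F V} {f f' : A → A} (h : Φ.Acts g f) (h' : Φ.Acts g f') : f = f' :=
  funext fun a => Φ.e_injective ((h a).symm.trans (h' a))

theorem Acts.add {g : PG F V} {f : A → A} (h : Φ.Acts g f) (a b : A) : f (a + b) = f a + f b := by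
  apply Φ.e_injective
  rw [← h, Φ.e_add, Φ.e_add, ← h, ← h]
  group

theorem Acts.zero {g : PG F V} {f : A → A} (h : Φ.Acts g f) : f 0 = 0 := by
  apply Φ.e_injective
  rw [← h, Φ.e_zero]
  group

theorem Acts.commute_iff {g : PG F V} {f : A → A} (h : Φ.Acts g f) (a : A) :
    g * Φ.e a = Φ.e a * g ↔ f a = a := by
  rw [← mul_inv_eq_iff_eq_mul, h]
  exact ⟨fun e => Φ.e_injective e, fun e => by rw [e]⟩

theorem Acts.sg {g : PG F V} {f : A → A} (h : Φ.Acts g f) (a b : A) : Φ.sg (f a) (f b) = Φ.sg a b := by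
  have e : f = Φ.act ⟨g, h.mem_N⟩ := funext fun c => Φ.e_injective ((h c).symm.trans (Φ.act_spec ⟨g, h.mem_N⟩ c))
  rw [e]
  exact Φ.act_sg _ a b

theorem Acts.injective {g : PG F V} {f : A → A} (h : Φ.Acts g f) : Function.Injective f := fun a b e =>
  Φ.e_injective (mul_left_cancel (mul_right_cancel (show g * Φ.e a * g⁻¹ = g * Φ.e b * g⁻¹ by rw [h, h, e])))

theorem Acts.mem_E {g : PG F V} (h : Φ.Acts g id) : g ∈ Φ.E :=
  Φ.centralizer_E fun a => (h.commute_iff a).mpr rfl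

theorem acts_e (b : A) : Φ.Acts (Φ.e b) id := fun a => by rw [Φ.e_comm, mul_inv_cancel_right]; rfl

variable (Φ)

theorem acts_act {g : PG F V} (hg : g ∈ Φ.N) : Φ.Acts g (Φ.act ⟨g, hg⟩) := fun a => Φ.act_spec ⟨g, hg⟩ a

variable {Φ}

theorem Tz.apply_sq {z : A} {t : V ≃ₗ[F] V} (h : Φ.Tz z t) :
    ∃ ζ : F, ζ ≠ 0 ∧ (∀ v, Φ.u z (Φ.u z v) = (-(ζ * ζ)⁻¹) • v) ∧ ∀ v, t v = v + ζ • Φ.u z v := by
  obtain ⟨ζ, h1, h2⟩ := h
  have hζ : ζ ≠ 0 := by
    rintro rfl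
    obtain ⟨v, hv⟩ := Φ.exists_ne
    exact hv (neg_eq_zero.mp (by rw [← h1 v, zero_smul]))
  refine ⟨ζ, hζ, fun v => ?_, h2⟩
  apply smul_right_injective V (mul_ne_zero hζ hζ)
  have h3 := h1 v
  rw [map_smul, smul_smul] at h3
  simp only
  rw [h3, smul_smul, mul_neg, mul_inv_cancel₀ (mul_ne_zero hζ hζ), neg_one_smul]

theorem Tz.comm {z a : A} {t : V ≃ₗ[F] V} (h : Φ.Tz z t) (hs : Φ.sg z a = 1) (v : V) :
    t (Φ.u a v) = Φ.u a (t v) := by
  obtain ⟨ζ, -, ht⟩ := h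
  rw [ht, ht, map_add, map_smul, Φ.comm z a, hs, one_smul]

theorem Tz.anti {z a : A} {t : V ≃ₗ[F] V} (h : Φ.Tz z t) (hs : Φ.sg z a = -1) :
    ∃ c : F, ∀ v, t (Φ.u a v) = c • Φ.u (a + z) (t v) := by
  obtain ⟨ζ, h1, ht⟩ := h
  obtain ⟨c, hc⟩ := Φ.mul a z
  refine ⟨-(ζ * c), fun v => ?_⟩
  have e1 : -(ζ • Φ.u z (t v)) = v - ζ • Φ.u z v := by
    rw [ht, map_add, smul_add, h1, neg_add, neg_neg, sub_eq_add_neg, add_comm]
  calc t (Φ.u a v) = Φ.u a v + ζ • Φ.u z (Φ.u a v) := ht _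
    _ = Φ.u a (v - ζ • Φ.u z v) := by
      rw [Φ.comm z a, hs, neg_one_smul, smul_neg, map_sub, map_smul, sub_eq_add_neg]
    _ = Φ.u a (-(ζ • Φ.u z (t v))) := by rw [e1]
    _ = (-(ζ * c)) • Φ.u (a + z) (t v) := by rw [map_neg, map_smul, hc, smul_smul, neg_smul]

theorem Tz.acts {z : A} {t : V ≃ₗ[F] V} (h : Φ.Tz z t) : Φ.Acts (pr F V t) (Φ.tau z) := fun a => by
  rcases Φ.sign z a with hs | hs
  · rw [Φ.tau_of_one hs]
    exact pr_conj.mpr ⟨1, fun v => by rw [one_smul]; exact h.comm hs v⟩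
  · rw [Φ.tau_of_neg hs]
    exact pr_conj.mpr (h.anti hs)

theorem Single.exists {G : Subgroup (PG F V)} {z : A} (h : Φ.Single G z) :
    ∃ n ∈ G, Φ.Acts n (Φ.tau z) := by
  obtain ⟨t, ht, hG⟩ := h
  exact ⟨_, hG, ht.acts⟩

theorem Pair.exists {G : Subgroup (PG F V)} {z z' : A} (h : Φ.Pair G z z') :
    ∃ n ∈ G, Φ.Acts n (Φ.tau z ∘ Φ.tau z') := by
  obtain ⟨t, t', ht, ht', hG⟩ := h
  exact ⟨_, hG, ht.acts.mul ht'.acts⟩

variable (Φ)

/-- The centraliser in `G` of each nontrivial frame element normalises the frame. -/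
def CentLe (G : Subgroup (PG F V)) : Prop :=
  ∀ a ≠ 0, ∀ g ∈ G, g * Φ.e a = Φ.e a * g → g ∈ Φ.N

/-- Projective commutation with a frame element is linear commutation up to sign. -/
theorem exists_sign {k : V ≃ₗ[F] V} {a : A} (h : pr F V k * Φ.e a = Φ.e a * pr F V k) :
    ∃ ε : F, (ε = 1 ∨ ε = -1) ∧ ∀ v, k (Φ.u a v) = ε • Φ.u a (k v) := by
  obtain ⟨c, hc⟩ := pr_commute.mp h
  refine ⟨c, ?_, hc⟩
  obtain ⟨d, hd0, hd⟩ := Φ.sq a
  obtain ⟨v, hv⟩ := Φ.exists_ne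
  have h1 := hc (Φ.u a v)
  rw [hd, map_smul, hc, map_smul, hd, smul_smul, smul_smul] at h1
  have h2 := smul_left_injective F (fun e => hv (k.map_eq_zero_iff.mp e)) h1
  exact mul_self_eq_one_iff.mp (mul_right_cancel₀ hd0 (by linear_combination -h2))

end Data

end Cfsg.Agent.Classical.Frame
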