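/-
Eigenspaces of a frame map: independence of the frame maps commuting with it, and the commutant.
-/
import Cfsg.Agent.Lib.Classical.Frame.Lift

set_option autoImplicit false
set_option linter.unusedSectionVars false

namespace Cfsg.Agent.Classical.Frame

open Module

universe u v w

variable {F : Type u} [Field F] {V : Type v} [AddCommGroup V] [Module F V] [FiniteDimensional F V]
  {A : Type w} [AddCommGroup A] [Finite A] (Φ : Data F V A)

namespace Data

include Φ

/-- The indices commuting with `x`. -/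
def cen (x : A) : AddSubgroup A := Φ.perp (AddSubgroup.zmultiples x)

theorem mem_zmultiples {x y : A} : y ∈ AddSubgroup.zmultiples x ↔ y = 0 ∨ y = x := by
  constructor
  · intro h
    obtain ⟨k, rfl⟩ := AddSubgroup.mem_zmultiples_iff.mp h
    rcases Int.even_or_odd' k with ⟨j, rfl | rfl⟩
    · left; rw [mul_comm, mul_smul, two_zsmul, Φ.elem, smul_zero]
    · right; rw [add_zsmul, mul_comm, mul_smul, two_zsmul, Φ.elem, smul_zero, zero_add, one_zsmul]
  · rintro (rfl | rfl)
    · exact zero_mem _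
    · exact AddSubgroup.mem_zmultiples _

theorem mem_cen {x p : A} : p ∈ Φ.cen x ↔ Φ.sg x p = 1 := by
  constructor
  · intro h; rw [Φ.sg_symm]; exact h x (AddSubgroup.mem_zmultiples x)
  · intro h s hs
    rcases (Φ.mem_zmultiples).mp hs with rfl | rfl
    · exact Φ.sg_zero p
    · rw [Φ.sg_symm]; exact h

theorem self_mem_cen (x : A) : x ∈ Φ.cen x := Φ.mem_cen.mpr (Φ.sg_self x)

theorem perp_cen (x : A) : Φ.perp (Φ.cen x) = AddSubgroup.zmultiples x := Φ.perp_perp _

theorem not_mem_perp_cen {x p : A} (h0 : p ≠ 0) (hx : p ≠ x) : p ∉ Φ.perp (Φ.cen x) := by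
  rw [Φ.perp_cen, Φ.mem_zmultiples]
  push Not
  exact ⟨h0, hx⟩

/-- `u x` has an eigenvector for each square root of its square. -/
theorem exists_eigen {x : A} (hx : x ≠ 0) {s : F} (hs : ∀ v, Φ.u x (Φ.u x v) = (s * s) • v) :
    ∃ v, v ≠ 0 ∧ Φ.u x v = s • v := by
  by_contra hc
  push Not at hc
  have h : ∀ v, (-s) • Φ.u 0 v = (-s) • Φ.u 0 v := fun v => rfl
  have key : ∀ v, Φ.u x v = (-s) • v := fun v => by
    by_contra hne
    refine hc (Φ.u x v + s • v) (fun e => hne (by rw [neg_smul]; exact eq_neg_of_add_eq_zero_left e)) ?_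
    rw [map_add, map_smul, hs, smul_add, smul_smul, add_comm]
  obtain ⟨c0, hc0, hu0⟩ := Φ.u_zero
  exact hx (Φ.index_unique (a := x) (b := 0) (c := (1 : F)) (d := -s / c0) one_ne_zero fun v => by
    rw [one_smul, key, hu0, smul_smul, div_mul_cancel₀ _ hc0]).1

theorem mem_eigen_u {x p : A} (hp : Φ.sg x p = 1) {s : F} {v : V} (hv : Φ.u x v = s • v) :
    Φ.u x (Φ.u p v) = s • Φ.u p v := by
  rw [Φ.comm x p, hp, one_smul, hv, map_smul]

/-- Frame maps with proportional restrictions to a joint eigenspace differ by an index of it. -/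
theorem indep_block {S : AddSubgroup A} (P : V → Prop) {v : V} (hv : v ≠ 0) (hPv : P v)
    (hP : ∀ p ∈ Φ.perp S, ∀ v, P v → P (Φ.u p v)) {q r : A} {c : F}
    (h : ∀ v, P v → c • Φ.u q v = Φ.u r v) : q + r ∈ S := by
  by_contra hqr
  rw [← Φ.perp_perp S, Φ.mem_perp] at hqr
  push Not at hqr
  obtain ⟨p, hp, hsg⟩ := hqr
  have hsg := Φ.sg_cases hsg
  rw [Φ.sg_add_left] at hsg
  have h1 := h _ (hP p hp v hPv)
  rw [Φ.comm q p, Φ.comm r p, smul_comm, ← map_smul, h v hPv] at h1
  have h2 := smul_left_injective F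
    (fun e => hv ((Φ.u r).map_eq_zero_iff.mp ((Φ.u p).map_eq_zero_iff.mp e))) h1
  rw [h2, Φ.sg_sq] at hsg
  exact Φ.one_ne_neg hsg

/-- A combination of two independent frame maps is not proportional to a third on a joint eigenspace. -/
theorem two_term {S : AddSubgroup A} (P : V → Prop) {v : V} (hv : v ≠ 0) (hPv : P v)
    (hP : ∀ p ∈ Φ.perp S, ∀ v, P v → P (Φ.u p v)) {a b r : A} (hab : a + b ∉ S) {α β c : F}
    (h : ∀ v, P v → α • Φ.u a v + β • Φ.u b v = c • Φ.u r v) : α = 0 ∨ β = 0 := by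
  rw [← Φ.perp_perp S, Φ.mem_perp] at hab
  push Not at hab
  obtain ⟨p, hp, hsg⟩ := hab
  have hsg := Φ.sg_cases hsg
  rw [Φ.sg_add_left] at hsg
  have h1 := h _ (hP p hp v hPv)
  rw [Φ.comm a p, Φ.comm b p, Φ.comm r p, smul_comm α, smul_comm β, smul_comm c] at h1
  simp only [← map_smul (Φ.u p), ← map_add (Φ.u p)] at h1
  have h2 := (Φ.u p).injective h1
  rw [← h v hPv] at h2
  have hb' : Φ.sg b p = -Φ.sg a p := by
    calc Φ.sg b p = (Φ.sg a p * Φ.sg a p) * Φ.sg b p := by rw [Φ.sg_sq, one_mul]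
      _ = -Φ.sg a p := by rw [mul_assoc, hsg, mul_neg_one]
  rw [hb'] at h2
  have hne : ∀ x, Φ.u x v ≠ 0 := fun x e => hv ((Φ.u x).map_eq_zero_iff.mp e)
  rcases Φ.sign r p with hr | hr <;> rcases Φ.sign a p with ha | ha <;> rw [hr, ha] at h2
  · right
    have h3 : (2 * β) • Φ.u b v = 0 := by linear_combination (norm := module) -h2
    exact (mul_eq_zero.mp ((smul_eq_zero.mp h3).resolve_right (hne b))).resolve_left Φ.two
  · left
    have h3 : (2 * α) • Φ.u a v = 0 := by linear_combination (norm := module) -h2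
    exact (mul_eq_zero.mp ((smul_eq_zero.mp h3).resolve_right (hne a))).resolve_left Φ.two
  · left
    have h3 : (2 * α) • Φ.u a v = 0 := by linear_combination (norm := module) h2
    exact (mul_eq_zero.mp ((smul_eq_zero.mp h3).resolve_right (hne a))).resolve_left Φ.two
  · right
    have h3 : (2 * β) • Φ.u b v = 0 := by linear_combination (norm := module) h2
    exact (mul_eq_zero.mp ((smul_eq_zero.mp h3).resolve_right (hne b))).resolve_left Φ.two

/-- An endomorphism commuting with every frame map commuting with `u x` is `α + β u x`. -/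
theorem commutant_cen (x : A) (M : End F V) (h : ∀ p ∈ Φ.cen x, ∀ v, M (Φ.u p v) = Φ.u p (M v)) :
    ∃ α β : F, ∀ v, M v = α • v + β • Φ.u x v := by
  classical
  haveI := Fintype.ofFinite A
  obtain ⟨g, hg⟩ : ∃ g : A → F, ∑ b, g b • Φ.m b = M :=
    (Submodule.mem_span_range_iff_exists_fun F).mp (Φ.span_top ▸ Submodule.mem_top)
  have key : ∀ b ∉ AddSubgroup.zmultiples x, g b = 0 := by
    intro b hb
    rw [← Φ.perp_cen, Φ.mem_perp] at hb
    push Not at hb
    obtain ⟨p, hp, hbp⟩ := hb
    have e : ∑ c, (g c * (Φ.sg c p - 1)) • Φ.m c = 0 := by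
      refine LinearMap.ext fun v => (Φ.u p).injective ?_
      have h1 : M (Φ.u p v) - Φ.u p (M v) = 0 := sub_eq_zero.mpr (h p hp v)
      rw [← hg, LinearMap.sum_apply, LinearMap.sum_apply, map_sum, ← Finset.sum_sub_distrib] at h1
      rw [LinearMap.sum_apply, LinearMap.zero_apply, map_zero, map_sum]
      refine Eq.trans (Finset.sum_congr rfl fun c _ => ?_) h1
      simp only [Data.m, LinearMap.smul_apply, LinearEquiv.coe_coe, map_smul]
      rw [Φ.comm c p, smul_smul, ← sub_smul, mul_sub, mul_one]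
    have h2 := Fintype.linearIndependent_iff.mp Φ.indep _ e b
    rw [Φ.sg_cases hbp, mul_eq_zero] at h2
    exact h2.resolve_right fun e => Φ.two (by linear_combination -e)
  obtain ⟨c0, -, hu0⟩ := Φ.u_zero
  rcases eq_or_ne x 0 with rfl | hx
  · refine ⟨g 0 * c0, 0, fun v => ?_⟩
    rw [zero_smul, add_zero, ← hg, LinearMap.sum_apply, Finset.sum_eq_single 0]
    · rw [LinearMap.smul_apply, ← smul_smul, ← hu0]; rfl
    · intro b _ hb
      rw [key b (by rw [Φ.mem_zmultiples]; push Not; exact ⟨hb, hb⟩), zero_smul, LinearMap.zero_apply]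
    · exact fun h => absurd (Finset.mem_univ _) h
  · refine ⟨g 0 * c0, g x, fun v => ?_⟩
    rw [← hg, LinearMap.sum_apply, Fintype.sum_eq_add 0 x (Ne.symm hx) fun b hb => by
      rw [key b (by rw [Φ.mem_zmultiples]; push Not; exact hb), zero_smul, LinearMap.zero_apply]]
    rw [LinearMap.smul_apply, LinearMap.smul_apply, ← smul_smul, ← hu0]
    rfl

/-- Maps agreeing on both eigenspaces agree. -/
theorem ext_eigen {x : A} {s : F} (hs0 : s ≠ 0) (hs : ∀ v, Φ.u x (Φ.u x v) = (s * s) • v) {f g : End F V}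
    (hp : ∀ v, Φ.u x v = s • v → f v = g v) (hm : ∀ v, Φ.u x v = -s • v → f v = g v) : f = g := by
  refine LinearMap.ext fun v => ?_
  have h1 := hp (Φ.u x v + s • v) (by rw [map_add, map_smul, hs, smul_add, smul_smul, add_comm])
  have h2 := hm (Φ.u x v - s • v) (by rw [map_sub, map_smul, hs, smul_sub, smul_smul]; module)
  have h3 : (2 * s) • f v = (2 * s) • g v := by
    rw [map_add, map_add, map_smul, map_smul] at h1
    rw [map_sub, map_sub, map_smul, map_smul] at h2
    linear_combination (norm := module) h1 - h2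
  exact smul_right_injective V (mul_ne_zero Φ.two hs0) h3

end Data

end Cfsg.Agent.Classical.Frame
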