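/-
Two frames in general position: the parts of each normalising the other.
-/
import Cfsg.Agent.Lib.Classical.Frame.Lift

set_option autoImplicit false
set_option linter.unusedSectionVars false

namespace Cfsg.Agent.Classical.Frame

open Module

universe u v w

variable {F : Type u} [Field F] {V : Type v} [AddCommGroup V] [Module F V] [FiniteDimensional F V]
  {A : Type w} [AddCommGroup A] [Finite A] (Φ : Data F V A)

namespace Data

/-- The indices whose conjugate by `g` normalises the frame. -/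
def inside (g : PG F V) : AddSubgroup A where
  carrier := {b | g * Φ.e b * g⁻¹ ∈ Φ.N}
  zero_mem' := by
    show g * Φ.e 0 * g⁻¹ ∈ Φ.N
    rw [Φ.e_zero, mul_one, mul_inv_cancel]
    exact Φ.N.one_mem
  add_mem' := fun {a b} ha hb => by
    show g * Φ.e (a + b) * g⁻¹ ∈ Φ.N
    rw [Φ.e_add, show g * (Φ.e a * Φ.e b) * g⁻¹ = (g * Φ.e a * g⁻¹) * (g * Φ.e b * g⁻¹) by group]
    exact Φ.N.mul_mem ha hb
  neg_mem' := fun {a} ha => by rw [Φ.neg_eq]; exact ha

theorem mem_inside {g : PG F V} {b : A} : b ∈ Φ.inside g ↔ g * Φ.e b * g⁻¹ ∈ Φ.N := Iff.rfl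

include Φ in
theorem natCast_card_ne (S : AddSubgroup A) : (Nat.card S : F) ≠ 0 := by
  intro h
  have h' := congrArg (Nat.cast : ℕ → F) (Φ.card_perp S)
  rw [Nat.cast_mul, h, zero_mul, ← Φ.dim, Nat.cast_pow] at h'
  exact Φ.natCast_dim_ne (eq_zero_of_pow_eq_zero h'.symm)

/-- The frame and its conjugate by `g` meet trivially, and centralisers of frame elements normalise it. -/
structure Skew (G : Subgroup (PG F V)) (g : PG F V) : Prop where
  mem : g ∈ G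
  le : Φ.E ≤ G
  cent : Φ.CentLe G
  disjoint : ∀ b c, g * Φ.e b * g⁻¹ = Φ.e c → b = 0

namespace Skew

variable {Φ} {G : Subgroup (PG F V)} {g : PG F V}

theorem symm (h : Φ.Skew G g) : Φ.Skew G g⁻¹ where
  mem := G.inv_mem h.mem
  le := h.le
  cent := h.cent
  disjoint b c e := by
    have h1 : g * Φ.e c * g⁻¹ = Φ.e b := by rw [← e]; group
    have hc := h.disjoint c b h1
    rw [hc, Φ.e_zero, mul_one, mul_inv_cancel] at h1
    exact Φ.e_eq_one.mp h1.symm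

theorem commute (h : Φ.Skew G g) {b c : A} (hb : b ∈ Φ.inside g) (hc : c ∈ Φ.inside g⁻¹) :
    g * Φ.e b * g⁻¹ * Φ.e c = Φ.e c * (g * Φ.e b * g⁻¹) := by
  have hc' : g⁻¹ * Φ.e c * g ∈ Φ.N := by simpa [inside] using hc
  obtain ⟨b', hb'⟩ := Φ.conj_of_mem_N hc' b
  obtain ⟨c', hc''⟩ := Φ.conj_of_mem_N hb c
  have e1 : g * Φ.e b * g⁻¹ * Φ.e c * (g * Φ.e b * g⁻¹)⁻¹ * (Φ.e c)⁻¹ = Φ.e (c' + c) := by
    rw [hc'', Φ.e_inv, Φ.e_add]
  have e2 : g * Φ.e b * g⁻¹ * Φ.e c * (g * Φ.e b * g⁻¹)⁻¹ * (Φ.e c)⁻¹ = g * Φ.e (b + b') * g⁻¹ := by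
    rw [Φ.e_add, ← hb']
    conv_rhs => arg 1; arg 2; arg 2; arg 1; arg 2; rw [← Φ.e_inv b]
    group
  have h0 := h.disjoint _ _ (e2.symm.trans e1)
  rw [h0, Φ.e_zero, mul_one, mul_inv_cancel] at e2
  exact mul_inv_eq_iff_eq_mul.mp (mul_inv_eq_one.mp e2)

theorem mem_of_commute (h : Φ.Skew G g) {b c : A} (hb : b ≠ 0)
    (hcb : g * Φ.e b * g⁻¹ * Φ.e c = Φ.e c * (g * Φ.e b * g⁻¹)) : c ∈ Φ.inside g⁻¹ := by
  show g⁻¹ * Φ.e c * g⁻¹⁻¹ ∈ Φ.N
  refine h.cent b hb _ (G.mul_mem (G.mul_mem (G.inv_mem h.mem) (h.le (Φ.e_mem c))) (G.inv_mem (G.inv_mem h.mem))) ?_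
  calc g⁻¹ * Φ.e c * g⁻¹⁻¹ * Φ.e b = g⁻¹ * (Φ.e c * (g * Φ.e b * g⁻¹)) * g := by group
    _ = Φ.e b * (g⁻¹ * Φ.e c * g⁻¹⁻¹) := by rw [← hcb]; group

theorem fix_iff (h : Φ.Skew G g) {b c : A} (hb : b ∈ Φ.inside g) (hb0 : b ≠ 0) {f : A → A}
    (hf : Φ.Acts (g * Φ.e b * g⁻¹) f) : f c = c ↔ c ∈ Φ.inside g⁻¹ := by
  rw [← hf.commute_iff]
  exact ⟨h.mem_of_commute hb0, h.commute hb⟩

theorem act_sq (b : A) {f : A → A} (hf : Φ.Acts (g * Φ.e b * g⁻¹) f) (a : A) : f (f a) = a := by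
  have h1 : Φ.Acts (g * Φ.e b * g⁻¹ * (g * Φ.e b * g⁻¹)) id := by
    rw [show g * Φ.e b * g⁻¹ * (g * Φ.e b * g⁻¹) = g * (Φ.e b * Φ.e b) * g⁻¹ by group, Φ.e_sq, mul_one,
      mul_inv_cancel]
    exact fun a => by rw [one_mul, inv_one, mul_one]; rfl
  exact congrFun ((hf.mul hf).eq h1) a

theorem sub_mem (h : Φ.Skew G g) {b : A} (hb : b ∈ Φ.inside g) (hb0 : b ≠ 0) {f : A → A}
    (hf : Φ.Acts (g * Φ.e b * g⁻¹) f) (a : A) :
    f a + a ∈ Φ.inside g⁻¹ ∧ f a + a ∈ Φ.perp (Φ.inside g⁻¹) := by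
  refine ⟨(h.fix_iff hb hb0 hf).mp (by rw [hf.add, act_sq b hf, add_comm]), fun c hc => ?_⟩
  have hfc := (h.fix_iff hb hb0 hf).mpr hc
  have h1 : Φ.sg (f a) c = Φ.sg a c := by
    calc Φ.sg (f a) c = Φ.sg (f a) (f c) := by rw [hfc]
      _ = Φ.sg a c := hf.sg a c
  rw [Φ.sg_add_left, h1, Φ.sg_sq]

theorem card_le_sq (h : Φ.Skew G g) {b : A} (hb : b ∈ Φ.inside g) (hb0 : b ≠ 0) :
    Nat.card A ≤ Nat.card (Φ.inside g⁻¹) * Nat.card (Φ.inside g⁻¹) := by
  have hf := Φ.acts_act hb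
  generalize Φ.act ⟨_, hb⟩ = f at hf
  let D : A →+ A := AddMonoidHom.mk' (fun a => f a + a) fun a a' => by rw [hf.add]; abel
  have hker : D.ker = Φ.inside g⁻¹ := by
    ext a
    rw [AddMonoidHom.mem_ker, ← h.fix_iff hb hb0 hf]
    exact ⟨fun e => Φ.eq_of_add_eq_zero e, fun e => by show f a + a = 0; rw [e, Φ.elem]⟩
  have hrange : D.range ≤ Φ.inside g⁻¹ := by
    rintro _ ⟨a, rfl⟩
    exact (h.sub_mem hb hb0 hf a).1
  rw [AddSubgroup.card_eq_card_quotient_mul_card_addSubgroup D.ker,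
    Nat.card_congr (QuotientAddGroup.quotientKerEquivRange D).toEquiv, hker]
  exact Nat.mul_le_mul_right _ (AddSubgroup.card_le_of_le hrange)

theorem exists_inside (h : Φ.Skew G g) {b : A} (hb : b ∈ Φ.inside g) (hb0 : b ≠ 0) :
    ∃ c ∈ Φ.inside g⁻¹, c ≠ 0 := by
  have h1 := h.card_le_sq hb hb0
  have h2 : 1 < Nat.card A := Finite.one_lt_card_iff_nontrivial.mpr ⟨⟨b, 0, hb0⟩⟩
  by_contra hc
  push Not at hc
  have h3 : Φ.inside g⁻¹ = ⊥ := (AddSubgroup.eq_bot_iff_forall _).mpr hc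
  rw [h3, AddSubgroup.card_bot] at h1
  omega

/-- The two parts are Lagrangian of equal size. -/
theorem lagrangian (h : Φ.Skew G g) {b : A} (hb : b ∈ Φ.inside g) (hb0 : b ≠ 0) :
    Φ.perp (Φ.inside g⁻¹) = Φ.inside g⁻¹ ∧ Nat.card (Φ.inside g) = Nat.card (Φ.inside g⁻¹) := by
  obtain ⟨c, hc, hc0⟩ := h.exists_inside hb hb0
  have s1 := h.card_le_sq hb hb0
  have s2 := h.symm.card_le_sq hc hc0
  rw [inv_inv] at s2
  obtain ⟨e0, he0⟩ : ∃ e0, e0 ∉ Φ.inside g⁻¹ := by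
    by_contra hall
    push Not at hall
    obtain ⟨c', hc'⟩ := Φ.mem_E.mp (Φ.centralizer_E fun a => h.commute hb (hall a))
    exact hb0 (h.disjoint b c' hc'.symm)
  set S := Φ.inside g⁻¹ with hS
  let X : AddSubgroup A := S ⊓ Φ.perp S
  have hmem : ∀ b' : Φ.inside g, Φ.act ⟨_, b'.2⟩ e0 + e0 ∈ X := fun b' => by
    rcases eq_or_ne (b' : A) 0 with e | e
    · have h1 : Φ.act ⟨g * Φ.e b' * g⁻¹, b'.2⟩ e0 = e0 := by
        apply Φ.e_injective
        rw [← Φ.act_spec]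
        show g * Φ.e b' * g⁻¹ * Φ.e e0 * (g * Φ.e b' * g⁻¹)⁻¹ = _
        rw [e, Φ.e_zero]; group
      rw [h1, Φ.elem]
      exact X.zero_mem
    · exact h.sub_mem b'.2 e (Φ.acts_act b'.2) e0
  let ev : Φ.inside g → X := fun b' => ⟨_, hmem b'⟩
  have hev : Function.Injective ev := by
    intro p q hpq
    have e1 := congrArg Subtype.val hpq
    have e2 : Φ.act ⟨_, p.2⟩ e0 = Φ.act ⟨_, q.2⟩ e0 := add_right_cancel e1
    by_contra hne
    have h0 : (p : A) + q ≠ 0 := Φ.add_ne_zero fun e => hne (Subtype.ext e)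
    have hpq' : (p : A) + q ∈ Φ.inside g := (Φ.inside g).add_mem p.2 q.2
    have hp := Φ.acts_act p.2
    have hq := Φ.acts_act q.2
    generalize Φ.act ⟨_, p.2⟩ = fp at hp e2
    generalize Φ.act ⟨_, q.2⟩ = fq at hq e2
    have hm : Φ.Acts (g * Φ.e ((p : A) + q) * g⁻¹) (fp ∘ fq) := by
      rw [show g * Φ.e ((p : A) + q) * g⁻¹ = g * Φ.e p * g⁻¹ * (g * Φ.e q * g⁻¹) by rw [Φ.e_add]; group]
      exact hp.mul hq
    exact he0 ((h.fix_iff hpq' h0 hm).mp (by rw [Function.comp_apply, ← e2, act_sq _ hp]))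
  have s3 : Nat.card (Φ.inside g) ≤ Nat.card (Φ.perp S) :=
    (Nat.card_le_card_of_injective ev hev).trans (AddSubgroup.card_le_of_le inf_le_right)
  have s4 := Φ.card_perp S
  have hxy : Nat.card (Φ.inside g) = Nat.card S ∧ Nat.card (Φ.perp S) = Nat.card S := by
    have k0 : 0 < Nat.card S := Nat.card_pos
    have a1 : Nat.card (Φ.perp S) ≤ Nat.card S :=
      Nat.le_of_mul_le_mul_left (s4.trans_le s1) k0
    have a2 : Nat.card S ≤ Nat.card (Φ.inside g) :=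
      Nat.le_of_mul_le_mul_right (by
        calc Nat.card S * Nat.card (Φ.perp S) = Nat.card A := s4
          _ ≤ Nat.card (Φ.inside g) * Nat.card (Φ.inside g) := s2
          _ ≤ Nat.card (Φ.inside g) * Nat.card (Φ.perp S) := Nat.mul_le_mul_left _ s3) Nat.card_pos
    exact ⟨le_antisymm (s3.trans a1) a2, le_antisymm a1 (a2.trans s3)⟩
  refine ⟨?_, hxy.1⟩
  have hX : Nat.card X = Nat.card (Φ.perp S) := le_antisymm (AddSubgroup.card_le_of_le inf_le_right)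
    (le_of_eq_of_le (hxy.2.trans hxy.1.symm) (Nat.card_le_card_of_injective ev hev))
  have hle : Φ.perp S ≤ S := inf_eq_right.mp (AddSubgroup.eq_of_le_of_card_ge inf_le_right hX.ge)
  exact AddSubgroup.eq_of_le_of_card_ge hle hxy.2.ge

/-- Each part contains an element anticommuting linearly with a given element of the other. -/
theorem exists_anti [Finite F] (h : Φ.Skew G g) {b : A} (hb : b ∈ Φ.inside g) (hb0 : b ≠ 0)
    {k : V ≃ₗ[F] V} (hk : pr F V k = g * Φ.e b * g⁻¹) :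
    ∃ c ∈ Φ.inside g⁻¹, ∀ v, k (Φ.u c v) = -Φ.u c (k v) := by
  classical
  haveI := Fintype.ofFinite A
  by_contra hcon
  push Not at hcon
  have hcomm : ∀ c ∈ Φ.inside g⁻¹, ∀ v, k (Φ.u c v) = Φ.u c (k v) := by
    intro c hc v
    obtain ⟨ε, hε, he⟩ := Φ.exists_sign (k := k) (a := c) (by rw [hk]; exact h.commute hb hc)
    rcases hε with rfl | rfl
    · rw [he, one_smul]
    · obtain ⟨w, hw⟩ := hcon c hc
      exact absurd ((he w).trans (neg_one_smul F _)) hw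
  have htr : LinearMap.trace F V k.toLinearMap = 0 := by
    obtain ⟨l, hl⟩ := pr_surjective g
    rw [← hl, Data.e, ← map_inv, ← map_mul, ← map_mul, eq_comm, pr_eq_pr] at hk
    obtain ⟨d, hd⟩ := hk
    have e : k.toLinearMap = d • l.conj (Φ.m b) := LinearMap.ext fun v => by
      rw [LinearMap.smul_apply, LinearEquiv.conj_apply_apply]
      exact hd v
    rw [e, map_smul, LinearMap.trace_conj', Φ.trace_zero hb0, smul_zero]
  obtain ⟨f, hf'⟩ : ∃ f, Φ.Acts (g * Φ.e b * g⁻¹) f := ⟨_, Φ.acts_act hb⟩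
  have hf : Φ.Acts (pr F V k) f := by rw [hk]; exact hf'
  have hd : ∀ a, ∃ d : F, ∀ v, Φ.u a (k ((Φ.u a).symm v)) = d • k (Φ.u (f a + a) v) := by
    intro a
    obtain ⟨c, hc⟩ := pr_conj.mp (hf (f a))
    simp only [act_sq b hf'] at hc
    obtain ⟨e, -, he⟩ := Φ.symm_eq a
    obtain ⟨d', hd'⟩ := Φ.mul (f a) a
    refine ⟨c⁻¹ * e * d', fun v => ?_⟩
    have hc0 : c ≠ 0 := by
      rintro rfl
      obtain ⟨w, hw⟩ := Φ.exists_ne
      have := hc w
      rw [zero_smul] at this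
      exact hw ((Φ.u _).map_eq_zero_iff.mp (k.map_eq_zero_iff.mp this))
    have e1 : ∀ w, Φ.u a (k w) = c⁻¹ • k (Φ.u (f a) w) := fun w => by rw [hc w, inv_smul_smul₀ hc0]
    rw [e1, he, map_smul, hd', map_smul, map_smul, smul_smul, smul_smul]
  choose d hd using hd
  obtain ⟨c0, hc00, hc0⟩ := Φ.u_zero
  have hsum : ∑ a : A, d a • Φ.m (f a + a) = 0 := by
    refine LinearMap.ext fun v => k.injective ?_
    have h1 := LinearMap.congr_fun (Φ.average k.toLinearMap) v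
    rw [htr, mul_zero, zero_smul, LinearMap.sum_apply] at h1
    simp only [LinearEquiv.conj_apply_apply, LinearEquiv.coe_coe, LinearMap.zero_apply, hd] at h1
    rw [LinearMap.zero_apply, map_zero, LinearMap.sum_apply, map_sum]
    exact (Finset.sum_congr rfl fun a _ => by rw [LinearMap.smul_apply, map_smul]; rfl).trans h1
  rw [← Finset.sum_fiberwise (s := Finset.univ) (g := fun a => f a + a)] at hsum
  have hsum' : ∑ x : A, (∑ a ∈ Finset.univ.filter (fun a => f a + a = x), d a) • Φ.m x = 0 := by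
    rw [← hsum]
    refine Finset.sum_congr rfl fun x _ => ?_
    rw [Finset.sum_smul]
    exact Finset.sum_congr rfl fun a ha => by rw [(Finset.mem_filter.mp ha).2]
  have h0 := Fintype.linearIndependent_iff.mp Φ.indep _ hsum' 0
  have hd0 : ∀ a ∈ Finset.univ.filter (fun a => f a + a = 0), d a = c0⁻¹ := by
    intro a ha
    have hfa : f a + a = 0 := (Finset.mem_filter.mp ha).2
    have hc := (h.fix_iff hb hb0 hf').mp (Φ.eq_of_add_eq_zero hfa)
    obtain ⟨v, hv⟩ := Φ.exists_ne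
    have h1 := hd a v
    rw [hfa, hc0, map_smul, smul_smul, ← hcomm a hc, LinearEquiv.apply_symm_apply] at h1
    refine eq_inv_of_mul_eq_one_left ?_
    exact smul_left_injective F (fun e => hv (k.map_eq_zero_iff.mp e))
      (show (d a * c0) • k v = (1 : F) • k v by rw [one_smul]; exact h1.symm)
  have hcard : (Finset.univ.filter fun a => f a + a = 0).card = Nat.card (Φ.inside g⁻¹) := by
    rw [← Nat.card_eq_finsetCard]
    exact Nat.card_congr (Equiv.subtypeEquivRight fun a => by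
      rw [Finset.mem_filter, and_iff_right (Finset.mem_univ a), ← h.fix_iff hb hb0 hf']
      exact ⟨Φ.eq_of_add_eq_zero, fun e => by rw [e, Φ.elem]⟩)
  rw [Finset.sum_congr rfl hd0, Finset.sum_const, hcard, nsmul_eq_mul, mul_eq_zero] at h0
  exact h0.elim (Φ.natCast_card_ne _) (inv_ne_zero hc00)

/-- An element of `G` normalising the frame, fixing the part and commuting with one element of the other part,
commutes with the whole of the other part. -/
theorem commute_all (h : Φ.Skew G g) {a b : A} (ha0 : a ≠ 0) (hb : b ∈ Φ.inside g) {n : PG F V}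
    (hnG : n ∈ G) {f : A → A} (hn : Φ.Acts n f) (hfix : ∀ c ∈ Φ.inside g⁻¹, f c = c)
    (hfs : ∀ x, f x + x ∈ Φ.inside g⁻¹) (hna : n * (g * Φ.e a * g⁻¹) = g * Φ.e a * g⁻¹ * n) :
    n * (g * Φ.e b * g⁻¹) = g * Φ.e b * g⁻¹ * n := by
  rcases eq_or_ne b 0 with rfl | hb0
  · rw [Φ.e_zero]; group
  have hn' : g⁻¹ * n * g ∈ Φ.N := h.cent a ha0 _ (G.mul_mem (G.mul_mem (G.inv_mem h.mem) hnG) h.mem) (by
    calc g⁻¹ * n * g * Φ.e a = g⁻¹ * (n * (g * Φ.e a * g⁻¹)) * g := by group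
      _ = Φ.e a * (g⁻¹ * n * g) := by rw [hna]; group)
  obtain ⟨b', hb'⟩ := Φ.conj_of_mem_N hn' b
  have hconj : n * (g * Φ.e b * g⁻¹) * n⁻¹ = g * Φ.e b' * g⁻¹ := by rw [← hb']; group
  have hb'm : b' ∈ Φ.inside g := by
    show g * Φ.e b' * g⁻¹ ∈ Φ.N
    rw [← hconj]
    exact Φ.N.mul_mem (Φ.N.mul_mem hn.mem_N hb) (Φ.N.inv_mem hn.mem_N)
  have hs := Φ.acts_act hb
  generalize Φ.act ⟨_, hb⟩ = s at hs
  have hcom : ∀ x, f (s x) = s (f x) := fun x => by
    have d1 := h.sub_mem hb hb0 hs x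
    have d2 := hfs x
    have e1 : s x = x + (s x + x) := by rw [add_comm (s x), ← add_assoc, Φ.elem, zero_add]
    have e2 : f x = x + (f x + x) := by rw [add_comm (f x), ← add_assoc, Φ.elem, zero_add]
    have l1 : f (s x) = f x + (s x + x) := by
      conv_lhs => rw [e1]
      rw [hn.add, hfix _ d1.1]
    have l2 : s (f x) = s x + (f x + x) := by
      conv_lhs => rw [e2]
      rw [hs.add, (h.fix_iff hb hb0 hs).mpr d2]
    rw [l1, l2]
    abel
  have hact : Φ.Acts (g * Φ.e b' * g⁻¹) s := by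
    intro x
    rw [← hconj]
    obtain ⟨y, hy⟩ : ∃ y, f y = x := (Finite.injective_iff_surjective.mp hn.injective) x
    rw [← hy, ← hcom, ← hn (s y), ← hs y, ← hn y]
    group
  have hid : Φ.Acts (g * Φ.e (b + b') * g⁻¹) id := by
    have h1 := hs.mul hact
    rw [show g * Φ.e b * g⁻¹ * (g * Φ.e b' * g⁻¹) = g * Φ.e (b + b') * g⁻¹ by rw [Φ.e_add]; group] at h1
    rwa [show s ∘ s = id from funext fun x => act_sq b hs x] at h1
  obtain ⟨c, hc⟩ := Φ.mem_E.mp hid.mem_E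
  have h0 := Φ.eq_of_add_eq_zero (h.disjoint _ c hc.symm)
  rw [← h0] at hconj
  exact mul_inv_eq_iff_eq_mul.mp hconj

end Skew

end Data

end Cfsg.Agent.Classical.Frame
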