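/-
Group lemmas for the frame argument: odd subgroups under a four-group, isolated involutions, pairs of involutions.
-/
import Cfsg.Agent.Lib.Char.ZStar

set_option autoImplicit false
set_option linter.unusedSectionVars false

namespace Cfsg.Agent.Classical.Frame

universe u

variable {G : Type u} [Group G]

/-- In a subgroup of odd order every element is the square of a power of itself. -/
theorem exists_root [Finite G] {O : Subgroup G} (hodd : Odd (Nat.card O)) {y : G} (hy : y ∈ O) :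
    ∃ k : ℕ, y ^ k * y ^ k = y := by
  obtain ⟨j, hj⟩ := hodd
  have h1 : y ^ Nat.card O = 1 := by
    exact congrArg Subtype.val (pow_card_eq_one' (x := (⟨y, hy⟩ : O)))
  refine ⟨j + 1, ?_⟩
  rw [← pow_add, show j + 1 + (j + 1) = Nat.card O + 1 by omega, pow_succ, h1, one_mul]

theorem conj_inv_of_sq {a x : G} (ha : a * a = 1) : a * x * a⁻¹ = a * x * a := by
  rw [inv_eq_of_mul_eq_one_right ha]

/-- A subgroup of odd order is generated by the centralisers of the involutions of a four-group normalising it. -/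
theorem le_of_four [Finite G] {O M : Subgroup G} (hodd : Odd (Nat.card O)) {a b : G} (ha : a * a = 1)
    (hb : b * b = 1) (hab : a * b = b * a) (hna : ∀ x ∈ O, a * x * a⁻¹ ∈ O) (hnb : ∀ x ∈ O, b * x * b⁻¹ ∈ O)
    (hca : ∀ x ∈ O, a * x = x * a → x ∈ M) (hcb : ∀ x ∈ O, b * x = x * b → x ∈ M)
    (hcab : ∀ x ∈ O, a * b * x = x * (a * b) → x ∈ M) : O ≤ M := by
  set α : G →* G := (MulAut.conj a).toMonoidHom with hα'
  set β : G →* G := (MulAut.conj b).toMonoidHom with hβ'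
  have hα : ∀ x, α x = a * x * a⁻¹ := fun x => rfl
  have hβ : ∀ x, β x = b * x * b⁻¹ := fun x => rfl
  have hαα : ∀ x, α (α x) = x := fun x => by
    rw [hα, hα, show a * (a * x * a⁻¹) * a⁻¹ = (a * a) * x * (a * a)⁻¹ by group, ha]; group
  have hββ : ∀ x, β (β x) = x := fun x => by
    rw [hβ, hβ, show b * (b * x * b⁻¹) * b⁻¹ = (b * b) * x * (b * b)⁻¹ by group, hb]; group
  have hαβ : ∀ x, α (β x) = β (α x) := fun x => by
    rw [hα, hβ, hα, hβ, show a * (b * x * b⁻¹) * a⁻¹ = (a * b) * x * (a * b)⁻¹ by group, hab]; group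
  have hfa : ∀ x ∈ O, α x = x → x ∈ M := fun x hx h => hca x hx (by rw [hα, mul_inv_eq_iff_eq_mul] at h; exact h)
  have hfb : ∀ x ∈ O, β x = x → x ∈ M := fun x hx h => hcb x hx (by rw [hβ, mul_inv_eq_iff_eq_mul] at h; exact h)
  have hfab : ∀ x ∈ O, α (β x) = x → x ∈ M := fun x hx h => hcab x hx (by
    rw [hα, hβ, show a * (b * x * b⁻¹) * a⁻¹ = (a * b) * x * (a * b)⁻¹ by group, mul_inv_eq_iff_eq_mul] at h
    exact h)
  have key : ∀ i ∈ O, α i = i⁻¹ → i ∈ M := by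
    intro i hi hia
    have hz : i⁻¹ * β i ∈ O := O.mul_mem (O.inv_mem hi) (hnb i hi)
    obtain ⟨k, hk⟩ := exists_root hodd hz
    set z := i⁻¹ * β i with hzd
    have hm : i * z ^ k ∈ O := O.mul_mem hi (O.pow_mem hz k)
    have hαz : α z = i * z⁻¹ * i⁻¹ := by
      rw [hzd, map_mul, map_inv, hαβ, hia, map_inv]; group
    have hβz : β z = z⁻¹ := by rw [hzd, map_mul, map_inv, hββ]; group
    have hβm : β (i * z ^ k) = i * z ^ k := by
      rw [map_mul, map_pow, hβz, show β i = i * z by rw [hzd]; group]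
      nth_rewrite 1 [← hk]
      group
    have hαm : α (i * z ^ k) = (i * z ^ k)⁻¹ := by
      rw [map_mul, map_pow, hαz, hia, conj_pow, inv_pow]
      group
    obtain ⟨l, hl⟩ := exists_root hodd hm
    set s := (i * z ^ k) ^ l with hsd
    have hs : s ∈ O := O.pow_mem hm l
    have hsM : s ∈ M := M.pow_mem (hfb _ hm hβm) l
    have hαs : α s = s⁻¹ := by rw [hsd, map_pow, hαm, inv_pow]
    have hβs : β s = s := by rw [hsd, map_pow, hβm]
    have hj : s⁻¹ * i * s⁻¹ ∈ M := hfab _ (O.mul_mem (O.mul_mem (O.inv_mem hs) hi) (O.inv_mem hs)) (by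
      have e1 : α (β (s⁻¹ * i * s⁻¹)) = s * (z⁻¹ * i⁻¹) * s := by
        rw [show β (s⁻¹ * i * s⁻¹) = s⁻¹ * (i * z) * s⁻¹ by
          rw [map_mul, map_mul, map_inv, hβs, show β i = i * z by rw [hzd]; group]]
        simp only [map_mul, map_inv, hαs, hia, hαz]
        group
      have e2 : s * (z⁻¹ * i⁻¹) * s = s⁻¹ * ((s * s) * (z⁻¹ * i⁻¹) * (s * s)) * s⁻¹ := by group
      have e : s * s = i * z ^ k := hl
      have e3 : i * z ^ k * (z⁻¹ * i⁻¹) * (i * z ^ k) = i := by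
        calc i * z ^ k * (z⁻¹ * i⁻¹) * (i * z ^ k) = i * (z⁻¹ * (z ^ k * z ^ k)) := by group
          _ = i := by rw [hk, inv_mul_cancel, mul_one]
      rw [e1, e2, e, e3])
    rw [show i = s * (s⁻¹ * i * s⁻¹) * s by group]
    exact M.mul_mem (M.mul_mem hsM hj) hsM
  intro x hx
  have hy : x⁻¹ * α x ∈ O := O.mul_mem (O.inv_mem hx) (hna x hx)
  obtain ⟨k, hk⟩ := exists_root hodd hy
  have hαy : α (x⁻¹ * α x) = (x⁻¹ * α x)⁻¹ := by rw [map_mul, map_inv, hαα]; group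
  have hw : α ((x⁻¹ * α x) ^ k) = ((x⁻¹ * α x) ^ k)⁻¹ := by rw [map_pow, hαy, inv_pow]
  have hc : x * (x⁻¹ * α x) ^ k ∈ M := hfa _ (O.mul_mem hx (O.pow_mem hy k)) (by
    rw [map_mul, hw, show α x = x * (x⁻¹ * α x) by group]
    nth_rewrite 1 [← hk]
    group)
  have hwM : ((x⁻¹ * α x) ^ k)⁻¹ ∈ M := key _ (O.inv_mem (O.pow_mem hy k)) (by rw [map_inv, hw])
  rw [show x = x * (x⁻¹ * α x) ^ k * ((x⁻¹ * α x) ^ k)⁻¹ by group]
  exact M.mul_mem hc hwM

/-- If an involution is isolated in `C`, and the centralisers of the involutions of a four-group containing it lie in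
`M`, then `C` lies in `M`. -/
theorem le_of_isolated [Finite G] {C M : Subgroup G} {a b : G} (haC : a ∈ C) (hbC : b ∈ C) (ha : a * a = 1)
    (ha1 : a ≠ 1) (hb : b * b = 1) (hab : a * b = b * a)
    (hiso : ∀ g ∈ C, Commute a (g * a * g⁻¹) → g * a * g⁻¹ = a)
    (hca : ∀ x ∈ C, a * x = x * a → x ∈ M) (hcb : ∀ x ∈ C, b * x = x * b → x ∈ M)
    (hcab : ∀ x ∈ C, a * b * x = x * (a * b) → x ∈ M) : C ≤ M := by
  let z : C := ⟨a, haC⟩
  have hz : Cfsg.IsIsolatedInvolution z := by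
    refine ⟨orderOf_eq_prime ?_ ?_, fun g hg => ?_⟩
    · exact Subtype.ext (by rw [pow_two]; exact ha)
    · exact fun e => ha1 (congrArg Subtype.val e)
    · exact Subtype.ext (hiso g.1 g.2 (congrArg Subtype.val hg))
  let O : Subgroup G := (Cfsg.oddCore C).map C.subtype
  have hcard : Odd (Nat.card O) := by
    rw [Nat.card_congr (Subgroup.equivMapOfInjective _ _ C.subtype_injective).symm.toEquiv]
    exact Char.card_oddCore_odd C
  have hOC : O ≤ C := Subgroup.map_subtype_le _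
  have hn : ∀ c ∈ C, ∀ x ∈ O, c * x * c⁻¹ ∈ O := by
    rintro c hc _ ⟨y, hy, rfl⟩
    exact ⟨⟨c, hc⟩ * y * ⟨c, hc⟩⁻¹, (Cfsg.pPrimeCore_normal 2 C).conj_mem y hy _, rfl⟩
  have hO : O ≤ M := le_of_four hcard ha hb hab (hn a haC) (hn b hbC) (fun x hx => hca x (hOC hx))
    (fun x hx => hcb x (hOC hx)) (fun x hx => hcab x (hOC hx))
  intro g hg
  have ho : a * g * a⁻¹ * g⁻¹ ∈ O := ⟨_, Char.zStar_isolated hz ⟨g, hg⟩, rfl⟩
  obtain ⟨k, hk⟩ := exists_root hcard ho
  set o := a * g * a⁻¹ * g⁻¹ with hod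
  have hai : a⁻¹ = a := inv_eq_of_mul_eq_one_right ha
  have hconj : g * a * g⁻¹ = a * o := by rw [hod, hai]; simp [← mul_assoc, ha]
  have haoinv : a * o * a⁻¹ = o⁻¹ := by
    have h2 : (a * o) * (a * o) = 1 := by
      rw [← hconj, show g * a * g⁻¹ * (g * a * g⁻¹) = g * (a * a) * g⁻¹ by group, ha]; group
    rw [hai]
    exact eq_inv_of_mul_eq_one_left (by rw [show a * o * a * o = a * o * (a * o) by group, h2])
  have hak : a * o ^ k * a⁻¹ = (o ^ k)⁻¹ := by rw [← conj_pow, haoinv, inv_pow]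
  have hc : a * (o ^ k * g) = o ^ k * g * a := by
    have e1 : o ^ k * g * a = o ^ k * (g * a * g⁻¹) * g := by group
    have e2 : o ^ k * a = a * (o ^ k)⁻¹ := by
      rw [← hak, hai]; simp only [← mul_assoc, ha, one_mul]
    rw [e1, hconj, ← mul_assoc (o ^ k), e2]
    have e3 : (o ^ k)⁻¹ * o = o ^ k := by rw [inv_mul_eq_iff_eq_mul, hk]
    rw [mul_assoc a, e3]
    group
  have h := hca _ (C.mul_mem (hOC (O.pow_mem ho k)) hg) hc
  rw [show g = (o ^ k)⁻¹ * (o ^ k * g) by group]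
  exact M.mul_mem (M.inv_mem (hO (O.pow_mem ho k))) h

/-- Two involutions have a common commuting involution `c` such that `b * c` is conjugate to `a` or to `b`. -/
theorem exists_central [Finite G] {a b : G} (ha : a * a = 1) (hb : b * b = 1) (hne : ¬ IsConj a b) :
    ∃ c : G, c * c = 1 ∧ c ≠ 1 ∧ a * c = c * a ∧ b * c = c * b ∧ (IsConj (b * c) a ∨ IsConj (b * c) b) := by
  set d := a * b with hd
  have hai : a⁻¹ = a := inv_eq_of_mul_eq_one_right ha
  have hbi : b⁻¹ = b := inv_eq_of_mul_eq_one_right hb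
  have had : a * d * a⁻¹ = d⁻¹ := by rw [hd, mul_inv_rev, hai, hbi, ← mul_assoc, ha, one_mul]
  have hbd : b * d * b⁻¹ = d⁻¹ := by rw [hd, mul_inv_rev, hai, hbi, mul_assoc, mul_assoc, hb, mul_one]
  have hbd' : ∀ i : ℕ, b * d ^ i * b⁻¹ = (d ^ i)⁻¹ := fun i => by rw [← conj_pow, hbd, inv_pow]
  have had' : ∀ i : ℕ, a * d ^ i * a⁻¹ = (d ^ i)⁻¹ := fun i => by rw [← conj_pow, had, inv_pow]
  have hcj : ∀ i : ℕ, IsConj b (b * d ^ (2 * i)) := fun i => isConj_iff.mpr ⟨(d ^ i)⁻¹, by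
    rw [inv_inv, ← hbd' i, two_mul, pow_add, hbi]
    simp only [← mul_assoc]
    rw [show b * d ^ i * b * b * d ^ i = b * d ^ i * (b * b) * d ^ i by group, hb, mul_one]⟩
  have hn0 : 0 < orderOf d := orderOf_pos d
  have ha_eq : a = d * b := by rw [hd, mul_assoc, hb, mul_one]
  rcases Nat.even_or_odd' (orderOf d) with ⟨j, hj | hj⟩
  · have hc1 : d ^ j * d ^ j = 1 := by rw [← pow_add, ← two_mul, ← hj, pow_orderOf_eq_one]
    have hci : (d ^ j)⁻¹ = d ^ j := inv_eq_of_mul_eq_one_right hc1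
    refine ⟨d ^ j, hc1, pow_ne_one_of_lt_orderOf (by omega) (by omega), ?_, ?_, ?_⟩
    · rw [← mul_inv_eq_iff_eq_mul, had', hci]
    · rw [← mul_inv_eq_iff_eq_mul, hbd', hci]
    · rcases Nat.even_or_odd' j with ⟨i, rfl | rfl⟩
      · exact Or.inr (hcj i).symm
      · refine Or.inl (IsConj.trans (b := b * d) (isConj_iff.mpr ⟨d ^ i, ?_⟩) (isConj_iff.mpr ⟨b, ?_⟩))
        · rw [show d ^ i * (b * d ^ (2 * i + 1)) * (d ^ i)⁻¹
            = b * (b⁻¹ * d ^ i * b⁻¹⁻¹) * d ^ (2 * i + 1) * (d ^ i)⁻¹ by group, hbi, hbi,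
            show b * d ^ i * b = (d ^ i)⁻¹ by rw [← hbd', hbi]]
          group
        · rw [← mul_assoc, hb, one_mul, hbi, ← ha_eq]
  · exfalso
    refine hne (IsConj.symm ?_)
    have h1 : b * d ^ (2 * (j + 1)) = b * d := by
      rw [show 2 * (j + 1) = orderOf d + 1 by omega, pow_succ, pow_orderOf_eq_one, one_mul]
    have h2 := hcj (j + 1)
    rw [h1] at h2
    refine h2.trans (isConj_iff.mpr ⟨b, ?_⟩)
    rw [← mul_assoc, hb, one_mul, hbi, ← ha_eq]

end Cfsg.Agent.Classical.Frame
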