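/-
A group containing all lifted transvections in which frame centralisers normalise the frame normalises the frame.
-/
import Cfsg.Agent.Lib.Classical.Frame.Cross
import Cfsg.Agent.Lib.Classical.Frame.Grp

set_option autoImplicit false
set_option linter.unusedSectionVars false
set_option linter.style.haveILetI false

namespace Cfsg.Agent.Classical.Frame

open Module

universe u v w

variable {F : Type u} [Field F] {V : Type v} [AddCommGroup V] [Module F V] [FiniteDimensional F V]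
  {A : Type w} [AddCommGroup A] [Finite A]

namespace Data

variable (Φ : Data F V A)

/-- The hypotheses: the frame and all lifted transvections lie in `G`. -/
structure Full (G : Subgroup (PG F V)) : Prop where
  le : Φ.E ≤ G
  single : ∀ z ≠ 0, Φ.Single G z

variable {Φ} {G : Subgroup (PG F V)}

/-- The transvections of the indices lying in `S` move any index to any other in sight of `S`. -/
theorem exists_move (hs : ∀ z ≠ 0, Φ.Single G z) {S : AddSubgroup A} {a b : A} (ha : a ∈ S) (hb : b ∈ S)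
    (ha' : a ∉ Φ.perp S) (hb' : b ∉ Φ.perp S) :
    ∃ n ∈ G, ∃ f, Φ.Acts n f ∧ f a = b ∧ ∀ x ∈ Φ.perp S, f x = x := by
  have step : ∀ p q, p ∈ S → q ∈ S → Φ.sg p q = -1 →
      ∃ n ∈ G, ∃ f, Φ.Acts n f ∧ f p = q ∧ ∀ x ∈ Φ.perp S, f x = x := by
    intro p q hp hq hpq
    have hne : p ≠ q := by
      rintro rfl
      rw [Φ.sg_self] at hpq
      exact Φ.one_ne_neg hpq
    obtain ⟨n, hn, hact⟩ := (hs _ (Φ.add_ne_zero hne)).exists
    refine ⟨n, hn, _, hact, ?_, fun x hx => Φ.tau_of_one ?_⟩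
    · rw [Φ.tau_of_neg (by rw [Φ.sg_add_left, Φ.sg_self, Φ.sg_symm p q, hpq, one_mul]), ← add_assoc, Φ.elem,
        zero_add]
    · rw [Φ.sg_symm]
      exact hx _ (S.add_mem hp hq)
  obtain ⟨c, hc, h1, h2⟩ := Φ.exists_neg_both ha' hb'
  obtain ⟨n1, hn1, f1, ha1, e1, p1⟩ := step a c ha hc h1
  obtain ⟨n2, hn2, f2, ha2, e2, p2⟩ := step c b hc hb (by rw [Φ.sg_symm]; exact h2)
  exact ⟨n2 * n1, G.mul_mem hn2 hn1, f2 ∘ f1, ha2.mul ha1, by rw [Function.comp_apply, e1, e2],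
    fun x hx => by rw [Function.comp_apply, p1 x hx, p2 x hx]⟩

theorem exists_move_top (hs : ∀ z ≠ 0, Φ.Single G z) {a b : A} (ha : a ≠ 0) (hb : b ≠ 0) :
    ∃ n ∈ G, ∃ f, Φ.Acts n f ∧ f a = b := by
  have h : ∀ x : A, x ≠ 0 → x ∉ Φ.perp ⊤ := fun x hx hm => hx (Φ.eq_zero_of_sg fun y => hm y trivial)
  obtain ⟨n, hn, f, hf, e, -⟩ := exists_move hs (S := ⊤) trivial trivial (h a ha) (h b hb)
  exact ⟨n, hn, f, hf, e⟩

/-- The frame and all products of two lifted transvections lie in `G`. -/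
structure Pairs (Φ : Data F V A) (G : Subgroup (PG F V)) : Prop where
  le : Φ.E ≤ G
  lift : ∀ z ≠ 0, ∃ t, Φ.Tz z t
  pair : ∀ z z', z ≠ 0 → z' ≠ 0 → ∀ t t', Φ.Tz z t → Φ.Tz z' t' → pr F V t * pr F V t' ∈ G

/-- Two lifts of the same transvection agree or are inverse up to a scalar. -/
theorem Tz.eq_or_inv {z : A} {t t' : V ≃ₗ[F] V} (h : Φ.Tz z t) (h' : Φ.Tz z t') :
    t' = t ∨ pr F V t * pr F V t' = 1 := by
  obtain ⟨ζ, h1, h2⟩ := h
  obtain ⟨ζ', h1', h2'⟩ := h'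
  obtain ⟨v0, hv0⟩ := Φ.exists_ne
  have hu : Φ.u z (Φ.u z v0) ≠ 0 := fun e => hv0 ((Φ.u z).map_eq_zero_iff.mp ((Φ.u z).map_eq_zero_iff.mp e))
  have e : (ζ * ζ) • Φ.u z (Φ.u z v0) = (ζ' * ζ') • Φ.u z (Φ.u z v0) := by
    rw [mul_smul, mul_smul, ← map_smul, h1, ← map_smul (Φ.u z), h1']
  rcases mul_self_eq_mul_self_iff.mp (smul_left_injective F hu e).symm with e | e
  · exact Or.inl (LinearEquiv.ext fun v => by rw [h2, h2', e])
  · refine Or.inr ?_
    rw [← map_mul]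
    refine pr_eq_one.mpr ⟨2, fun v => ?_⟩
    rw [LinearEquiv.mul_apply, h2, h2', e, map_add, map_smul, smul_add, neg_smul, neg_smul, smul_neg]
    have e2 := h1 v
    rw [map_smul] at e2
    linear_combination (norm := module) -e2

theorem Full.pairs (hG : Φ.Full G) : Pairs Φ G := by
  have hone : ∀ z ≠ 0, ∀ t, Φ.Tz z t → pr F V t ∈ G := fun z hz t ht => by
    obtain ⟨s, hs, hsG⟩ := hG.single z hz
    rcases hs.eq_or_inv ht with rfl | e
    · exact hsG
    · exact eq_inv_of_mul_eq_one_right e ▸ G.inv_mem hsG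
  exact ⟨hG.le, fun z hz => (hG.single z hz).imp fun t h => h.1,
    fun z z' hz hz' t t' ht ht' => G.mul_mem (hone z hz t ht) (hone z' hz' t' ht')⟩

/-- Pairs move any index to any other. -/
theorem Pairs.exists_move (hG : Pairs Φ G) {a b : A} (ha : a ≠ 0) (hb : b ≠ 0) :
    ∃ n ∈ G, ∃ f, Φ.Acts n f ∧ f a = b := by
  obtain ⟨c, h1, h2⟩ := Φ.exists_neg_two ha hb
  have hne : ∀ {p q : A}, Φ.sg p q = -1 → p ≠ q := fun {p q} h e => by
    rw [e, Φ.sg_self] at h
    exact Φ.one_ne_neg h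
  have hmove : ∀ {p q : A}, Φ.sg p q = -1 → Φ.tau (p + q) p = q := fun {p q} h => by
    rw [Φ.tau_of_neg (by rw [Φ.sg_add_left, Φ.sg_self, Φ.sg_symm p q, h, one_mul]), ← add_assoc, Φ.elem, zero_add]
  have h2' : Φ.sg c b = -1 := by rw [Φ.sg_symm]; exact h2
  obtain ⟨t, ht⟩ := hG.lift _ (Φ.add_ne_zero (hne h1))
  obtain ⟨t', ht'⟩ := hG.lift _ (Φ.add_ne_zero (hne h2'))
  exact ⟨_, hG.pair _ _ (Φ.add_ne_zero (hne h2')) (Φ.add_ne_zero (hne h1)) t' t ht' ht, _, ht'.acts.mul ht.acts,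
    by rw [Function.comp_apply, hmove h1, hmove h2']⟩

/-- A conjugate of a frame element in the normaliser lies in the frame. -/
def Fuses (Φ : Data F V A) (G : Subgroup (PG F V)) : Prop :=
  ∀ g ∈ G, ∀ a, g * Φ.e a * g⁻¹ ∈ Φ.N → g * Φ.e a * g⁻¹ ∈ Φ.E

/-- Conjugating one frame element to another is done inside the normaliser. -/
theorem mem_N_of_conj (hG : Pairs Φ G) (hc : Φ.CentLe G) {a b : A} (ha : a ≠ 0) {g : PG F V} (hg : g ∈ G)
    (h : g * Φ.e a * g⁻¹ = Φ.e b) : g ∈ Φ.N := by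
  have hb : b ≠ 0 := by
    rintro rfl
    rw [Φ.e_zero, mul_inv_eq_one, mul_eq_left, Φ.e_eq_one] at h
    exact ha h
  obtain ⟨n, hn, f, hf, hfa⟩ := hG.exists_move ha hb
  have h1 : n⁻¹ * g ∈ Φ.N := hc a ha _ (G.mul_mem (G.inv_mem hn) hg) (by
    calc n⁻¹ * g * Φ.e a = n⁻¹ * (g * Φ.e a * g⁻¹) * g := by group
      _ = n⁻¹ * (n * Φ.e a * n⁻¹) * g := by rw [h, hf a, hfa]
      _ = Φ.e a * (n⁻¹ * g) := by group)
  simpa using Φ.N.mul_mem hf.mem_N h1

/-- A conjugate of a frame element normalising the frame lies in it. -/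
theorem fusion [Finite F] (hG : Φ.Full G) (hc : Φ.CentLe G) (h16 : 16 ≤ Nat.card A) {a : A} {g : PG F V}
    (hg : g ∈ G) (hy : g * Φ.e a * g⁻¹ ∈ Φ.N) : g * Φ.e a * g⁻¹ ∈ Φ.E := by
  by_contra hE
  have ha : a ≠ 0 := by
    rintro rfl
    exact hE (by rw [Φ.e_zero, mul_one, mul_inv_cancel]; exact Φ.E.one_mem)
  have hgN : g ∉ Φ.N := fun hgN => hE (by
    obtain ⟨b, hb⟩ := Φ.conj_of_mem_N hgN a
    exact ⟨b, hb.symm⟩)
  have hsk : Φ.Skew G g :=
    ⟨hg, hG.le, hc, fun b c e => by by_contra hb; exact hgN (mem_N_of_conj hG.pairs hc hb hg e)⟩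
  obtain ⟨hlag, hcard⟩ := hsk.lagrangian (b := a) hy ha
  obtain ⟨k, hk⟩ := pr_surjective (g * Φ.e a * g⁻¹)
  obtain ⟨c1, hc1, hac1⟩ := hsk.exists_anti (b := a) hy ha hk
  obtain ⟨b, hb, hb0, hba⟩ : ∃ b ∈ Φ.inside g, b ≠ 0 ∧ b ≠ a := by
    by_contra hh
    push Not at hh
    have h2 : Nat.card (Φ.inside g) ≤ 2 := by
      haveI := Fintype.ofFinite (Φ.inside g)
      classical
      rw [Nat.card_eq_fintype_card]
      refine (Fintype.card_le_of_injective (fun x : Φ.inside g => decide ((x : A) = 0)) fun p q e => Subtype.ext ?_)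
      simp only [decide_eq_decide] at e
      rcases eq_or_ne (p : A) 0 with h0 | h0
      · rw [h0, e.mp h0]
      · rw [hh p p.2 h0, hh q q.2 fun h1 => h0 (e.mpr h1)]
    have h4 := Φ.card_perp (Φ.inside g⁻¹)
    rw [hlag, ← hcard] at h4
    nlinarith
  obtain ⟨l, hl⟩ := pr_surjective (g * Φ.e b * g⁻¹)
  have hker : ∀ z ∈ Φ.inside g⁻¹, (∀ v, k (Φ.u z v) = Φ.u z (k v)) → ∀ v, l (Φ.u z v) = Φ.u z (l v) := by
    intro z hz hkz
    rcases eq_or_ne z 0 with rfl | hz0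
    · obtain ⟨c0, -, hc0⟩ := Φ.u_zero
      exact fun v => by rw [hc0, hc0, map_smul]
    obtain ⟨t, ht, htG⟩ := hG.single z hz0
    have hfix : ∀ c ∈ Φ.inside g⁻¹, Φ.tau z c = c := fun c hc =>
      Φ.tau_of_one (by
        have h1 : z ∈ Φ.perp (Φ.inside g⁻¹) := by rw [hlag]; exact hz
        exact h1 c hc)
    have hcall := hsk.commute_all ha hb htG ht.acts hfix (fun x => Φ.tau_sub_mem hz x) (by
      obtain ⟨ζ, -, htv⟩ := ht
      rw [← hk, eq_comm, pr_commute]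
      exact ⟨1, fun v => by rw [one_smul, htv, htv, map_add, map_smul, hkz]⟩)
    rw [← hl, eq_comm, pr_commute] at hcall
    obtain ⟨d, hd⟩ := hcall
    obtain ⟨ε, hε, he⟩ := Φ.exists_sign (k := l) (a := z) (by rw [hl]; exact hsk.commute hb hz)
    rcases hε with rfl | rfl
    · exact fun v => by rw [he, one_smul]
    · exfalso
      obtain ⟨ζ, hζ, -, htv⟩ := ht.apply_sq
      obtain ⟨c0, hc00, hc0⟩ := Φ.u_zero
      have key : ∀ w, ((1 - d) / c0) • Φ.u 0 w = (ζ * (1 + d)) • Φ.u z w := by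
        intro w
        obtain ⟨v, rfl⟩ := l.surjective w
        have h1 := hd v
        rw [htv, htv, map_add, map_smul, he, smul_smul, smul_add, smul_smul] at h1
        rw [hc0, smul_smul, div_mul_cancel₀ _ hc00]
        linear_combination (norm := module) h1
      rcases eq_or_ne (1 - d) 0 with h1 | h1
      · obtain ⟨v, hv⟩ := Φ.exists_ne
        have h2 := key v
        rw [h1, zero_div, zero_smul, eq_comm, smul_eq_zero] at h2
        have h3 := (mul_eq_zero.mp (h2.resolve_right ((Φ.u z).map_ne_zero_iff.mpr hv))).resolve_left hζ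
        exact Φ.two (by linear_combination h1 + h3)
      · exact hz0 (Φ.index_unique (div_ne_zero h1 hc00) key).1.symm
  obtain ⟨ε, hε, hl1⟩ := Φ.exists_sign (k := l) (a := c1) (by rw [hl]; exact hsk.commute hb hc1)
  have hlz : ∀ z ∈ Φ.inside g⁻¹, (∀ v, l (Φ.u z v) = Φ.u z (l v)) ∨
      (∀ v, k (Φ.u z v) = -Φ.u z (k v)) ∧ ∀ v, l (Φ.u z v) = ε • Φ.u z (l v) := by
    intro z hz
    obtain ⟨δ, hδ, hkz⟩ := Φ.exists_sign (k := k) (a := z) (by rw [hk]; exact hsk.commute hy hz)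
    rcases hδ with rfl | rfl
    · exact Or.inl (hker z hz fun v => by rw [hkz, one_smul])
    refine Or.inr ⟨fun v => by rw [hkz, neg_one_smul], ?_⟩
    obtain ⟨m, hm⟩ := Φ.mul z c1
    have hm0 := Φ.mul_ne hm
    have hu : ∀ w, Φ.u (z + c1) w = m⁻¹ • Φ.u z (Φ.u c1 w) := fun w => by rw [hm, inv_smul_smul₀ hm0]
    have h1 := hker (z + c1) ((Φ.inside g⁻¹).add_mem hz hc1) fun v => by
      rw [hu, hu, map_smul, hkz, hac1, map_neg, smul_neg (-1 : F), neg_one_smul, neg_neg]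
    intro v
    obtain ⟨w, rfl⟩ := (Φ.u c1).surjective v
    have h2 := h1 w
    rw [hu, hu, map_smul] at h2
    rw [smul_right_injective V (inv_ne_zero hm0) h2, hl1, map_smul, smul_smul]
    rcases hε with rfl | rfl <;> simp
  rcases hε with rfl | rfl
  · obtain ⟨c, hc, hca⟩ := hsk.exists_anti hb hb0 hl
    obtain ⟨v, hv⟩ := Φ.exists_ne
    have h1 : l (Φ.u c v) = Φ.u c (l v) := by
      rcases hlz c hc with h | ⟨-, h⟩
      · exact h v
      · rw [h, one_smul]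
    have h2 : (2 : F) • Φ.u c (l v) = 0 := by rw [two_smul, ← eq_neg_iff_add_eq_zero, ← hca, h1]
    exact hv (l.map_eq_zero_iff.mp ((Φ.u c).map_eq_zero_iff.mp ((smul_eq_zero.mp h2).resolve_left Φ.two)))
  · have hab : pr F V (k * l) = g * Φ.e (a + b) * g⁻¹ := by rw [map_mul, hk, hl, Φ.e_add]; group
    obtain ⟨c, hc, hca⟩ :=
      hsk.exists_anti ((Φ.inside g).add_mem hy hb) (Φ.add_ne_zero (Ne.symm hba)) hab
    obtain ⟨v, hv⟩ := Φ.exists_ne
    have h1 : (k * l) (Φ.u c v) = Φ.u c ((k * l) v) := by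
      rcases hlz c hc with h | ⟨hk', h⟩
      · obtain ⟨δ, hδ, hkc⟩ := Φ.exists_sign (k := k) (a := c) (by rw [hk]; exact hsk.commute hy hc)
        rcases hδ with rfl | rfl
        · rw [LinearEquiv.mul_apply, h, hkc, one_smul]; rfl
        · exfalso
          have e := hker (c + c1) ((Φ.inside g⁻¹).add_mem hc hc1) fun w => by
            obtain ⟨m, hm⟩ := Φ.mul c c1
            have hu : Φ.u (c + c1) w = m⁻¹ • Φ.u c (Φ.u c1 w) := by rw [hm, inv_smul_smul₀ (Φ.mul_ne hm)]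
            have hu' : Φ.u (c + c1) (k w) = m⁻¹ • Φ.u c (Φ.u c1 (k w)) := by
              rw [hm, inv_smul_smul₀ (Φ.mul_ne hm)]
            rw [hu, hu', map_smul, hkc, hac1, map_neg, smul_neg (-1 : F), neg_one_smul, neg_neg]
          obtain ⟨m, hm⟩ := Φ.mul c c1
          have h2 := e v
          rw [show Φ.u (c + c1) v = m⁻¹ • Φ.u c (Φ.u c1 v) by rw [hm, inv_smul_smul₀ (Φ.mul_ne hm)],
            show Φ.u (c + c1) (l v) = m⁻¹ • Φ.u c (Φ.u c1 (l v)) by rw [hm, inv_smul_smul₀ (Φ.mul_ne hm)],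
            map_smul, h, hl1, neg_one_smul, map_neg] at h2
          have h3 : (2 : F) • Φ.u c (Φ.u c1 (l v)) = 0 := by
            rw [two_smul, ← eq_neg_iff_add_eq_zero]
            exact (smul_right_injective V (inv_ne_zero (Φ.mul_ne hm)) h2).symm
          exact hv (l.map_eq_zero_iff.mp ((Φ.u c1).map_eq_zero_iff.mp ((Φ.u c).map_eq_zero_iff.mp
            ((smul_eq_zero.mp h3).resolve_left Φ.two))))
      · rw [LinearEquiv.mul_apply, h, neg_one_smul, map_neg, hk', neg_neg]; rfl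
    have h2 : (2 : F) • Φ.u c ((k * l) v) = 0 := by rw [two_smul, ← eq_neg_iff_add_eq_zero, ← hca, h1]
    exact hv ((k * l).map_eq_zero_iff.mp ((Φ.u c).map_eq_zero_iff.mp ((smul_eq_zero.mp h2).resolve_left Φ.two)))

/-- An element is an auxiliary involution for two commuting indices. -/
def IsAux (G : Subgroup (PG F V)) (z z' : A) (w : PG F V) : Prop :=
  w ∈ G ∧ Φ.Acts w (Φ.tau z ∘ Φ.tau z') ∧ w * w = 1

theorem IsAux.cent_le [Finite F] (hG : Pairs Φ G) (hfu : Fuses Φ G) (hc : Φ.CentLe G) {z z' : A}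
    (hz : z ≠ 0) (hz' : z' ≠ 0) (hne : z ≠ z') (hzz : Φ.sg z z' = 1) {w : PG F V} (hw : Φ.IsAux G z z' w) :
    ∀ x ∈ G, x * w = w * x → x ∈ Φ.N := by
  haveI : Finite (PG F V) := Quotient.finite _
  obtain ⟨hwG, hact, -⟩ := hw
  have hs1 : Φ.sg z' z = 1 := by rw [Φ.sg_symm]; exact hzz
  have hfix : ∀ x, Φ.sg z x = 1 → Φ.sg z' x = 1 → (Φ.tau z ∘ Φ.tau z') x = x := fun x h1 h2 => by
    rw [Function.comp_apply, Φ.tau_of_one h2, Φ.tau_of_one h1]
  have hfz : (Φ.tau z ∘ Φ.tau z') z = z := hfix z (Φ.sg_self z) hs1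
  have hfz' : (Φ.tau z ∘ Φ.tau z') z' = z' := hfix z' hzz (Φ.sg_self z')
  have hfa : (Φ.tau z ∘ Φ.tau z') (z + z') = z + z' := by rw [hact.add, hfz, hfz']
  have ha0 : z + z' ≠ 0 := Φ.add_ne_zero hne
  let C : Subgroup (PG F V) := G ⊓ Subgroup.centralizer {w}
  have hmemC : ∀ x, x ∈ C ↔ x ∈ G ∧ x * w = w * x := fun x => by
    simp [C, Subgroup.mem_centralizer_singleton_iff, eq_comm]
  have heC : ∀ x, (Φ.tau z ∘ Φ.tau z') x = x → Φ.e x ∈ C := fun x hx =>
    (hmemC _).mpr ⟨hG.le (Φ.e_mem x), ((hact.commute_iff x).mpr hx).symm⟩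
  have hle : C ≤ Φ.N := by
    refine le_of_isolated (a := Φ.e (z + z')) (b := Φ.e z) (heC _ hfa) (heC _ hfz) (Φ.e_sq _)
      (fun e => ha0 (Φ.e_eq_one.mp e)) (Φ.e_sq _) (Φ.e_comm _ _) ?_ ?_ ?_ ?_
    · intro x hx hcomm
      obtain ⟨hxG, hxw⟩ := (hmemC x).mp hx
      have hyE : x * Φ.e (z + z') * x⁻¹ ∈ Φ.E :=
        hfu _ hxG _ (hc _ ha0 _ (G.mul_mem (G.mul_mem hxG (hG.le (Φ.e_mem _))) (G.inv_mem hxG))
          hcomm.eq.symm)
      obtain ⟨y, hy⟩ := Φ.mem_E.mp hyE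
      have hxN : x ∈ Φ.N := mem_N_of_conj hG hc ha0 hxG hy.symm
      have hf := Φ.acts_act hxN
      generalize Φ.act ⟨x, hxN⟩ = f at hf
      rw [hf]
      refine congrArg Φ.e ?_
      have hfS : ∀ p, f ((Φ.tau z ∘ Φ.tau z') p) = (Φ.tau z ∘ Φ.tau z') (f p) := fun p => by
        have h1 := hact.mul hf
        rw [← hxw] at h1
        exact congrFun ((hf.mul hact).eq h1) p
      have him : ∀ p, (Φ.tau z ∘ Φ.tau z') p + p = 0 ∨ (Φ.tau z ∘ Φ.tau z') p + p = z ∨
          (Φ.tau z ∘ Φ.tau z') p + p = z' ∨ (Φ.tau z ∘ Φ.tau z') p + p = z + z' := by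
        intro p
        have e0 : ∀ q, p + q + p = q := fun q => by rw [add_comm (p + q), ← add_assoc, Φ.elem, zero_add]
        rcases Φ.sign z' p with h2 | h2
        · rcases Φ.sign z p with h1 | h1
          · left; rw [hfix p h1 h2, Φ.elem]
          · right; left; rw [Function.comp_apply, Φ.tau_of_one h2, Φ.tau_of_neg h1, e0]
        · rcases Φ.sign z p with h1 | h1
          · right; right; left
            rw [Function.comp_apply, Φ.tau_of_neg h2, Φ.tau_of_one (by rw [Φ.sg_add, h1, hzz, one_mul]), e0]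
          · right; right; right
            rw [Function.comp_apply, Φ.tau_of_neg h2, Φ.tau_of_neg (by rw [Φ.sg_add, h1, hzz, mul_one]),
              add_assoc p, e0, add_comm]
      obtain ⟨p, hp, hp'⟩ := Φ.exists_neg_two hz hz'
      have hS : (Φ.tau z ∘ Φ.tau z') p + p = z + z' := by
        rw [Function.comp_apply, Φ.tau_of_neg hp', Φ.tau_of_neg (by rw [Φ.sg_add, hp, hzz, mul_one]),
          add_comm _ p, ← add_assoc, ← add_assoc, Φ.elem, zero_add, add_comm]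
      have hq : (Φ.tau z ∘ Φ.tau z') (f p) + f p = f (z + z') := by rw [← hfS, ← hf.add, hS]
      rcases him (f p) with h | h | h | h
      · exfalso
        rw [hq] at h
        exact ha0 (hf.injective (h.trans hf.zero.symm))
      · exfalso
        rcases Φ.sign z' (f p) with h2 | h2
        · have : Φ.sg (f (z + z')) (f p) = -1 ∧ Φ.sg (z + z') p = 1 := by
            refine ⟨?_, by rw [Φ.sg_add_left, hp, hp', neg_one_mul, neg_neg]⟩
            rcases Φ.sign z (f p) with h1 | h1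
            · rw [hfix (f p) h1 h2, Φ.elem] at h
              exact absurd h.symm hz
            · rw [hq] at h
              rw [h, h1]
          rw [hf.sg, this.2] at this
          exact Φ.one_ne_neg this.1
        · rw [Function.comp_apply, Φ.tau_of_neg h2] at h
          rcases Φ.sign z (f p) with h1 | h1
          · rw [Φ.tau_of_one (by rw [Φ.sg_add, h1, hzz, one_mul]), add_comm, ← add_assoc, Φ.elem, zero_add] at h
            exact hne h.symm
          · rw [Φ.tau_of_neg (by rw [Φ.sg_add, h1, hzz, mul_one]), add_comm, ← add_assoc, ← add_assoc, Φ.elem,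
              zero_add, add_eq_right] at h
            exact hz' h
      · exfalso
        rcases Φ.sign z (f p) with h1 | h1
        · have h2 : Φ.sg z' (f p) = -1 := by
            rcases Φ.sign z' (f p) with h2 | h2
            · rw [hfix (f p) h1 h2, Φ.elem] at h
              exact absurd h.symm hz'
            · exact h2
          rw [hq] at h
          have h3 := hf.sg (z + z') p
          rw [h, h2, Φ.sg_add_left, hp, hp', neg_one_mul, neg_neg] at h3
          exact Φ.one_ne_neg h3.symm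
        · rcases Φ.sign z' (f p) with h2 | h2
          · rw [Function.comp_apply, Φ.tau_of_one h2, Φ.tau_of_neg h1, add_comm, ← add_assoc, Φ.elem,
              zero_add] at h
            exact hne h
          · rw [Function.comp_apply, Φ.tau_of_neg h2, Φ.tau_of_neg (by rw [Φ.sg_add, h1, hzz, mul_one]), add_comm,
              ← add_assoc, ← add_assoc, Φ.elem, zero_add, add_eq_left] at h
            exact hz h
      · exact hq.symm.trans h
    · exact fun x hx he => hc _ ha0 x ((hmemC x).mp hx).1 he.symm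
    · exact fun x hx he => hc z hz x ((hmemC x).mp hx).1 he.symm
    · intro x hx he
      rw [← Φ.e_add, show z + z' + z = z' by rw [add_comm z, Φ.add_self_cancel]] at he
      exact hc z' hz' x ((hmemC x).mp hx).1 he.symm
  exact fun x hx hxw => hle ((hmemC x).mpr ⟨hx, hxw⟩)

theorem exists_aux (hG : Pairs Φ G) (h16 : 16 ≤ Nat.card A) :
    ∃ z z' w, z ≠ 0 ∧ z' ≠ 0 ∧ z ≠ z' ∧ Φ.sg z z' = 1 ∧ Φ.IsAux G z z' w := by
  obtain ⟨z, hz⟩ : ∃ z : A, z ≠ 0 := by
    haveI : Nontrivial A := Finite.one_lt_card_iff_nontrivial.mp (by omega)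
    exact _root_.exists_ne 0
  obtain ⟨z', hz0', hne, hzz⟩ : ∃ z', z' ≠ 0 ∧ z ≠ z' ∧ Φ.sg z z' = 1 := by
    by_contra hh
    push Not at hh
    have h2 : Nat.card (Φ.perp (AddSubgroup.zmultiples z)) ≤ 2 := by
      haveI := Fintype.ofFinite (Φ.perp (AddSubgroup.zmultiples z))
      classical
      rw [Nat.card_eq_fintype_card]
      refine (Fintype.card_le_of_injective (fun x : Φ.perp (AddSubgroup.zmultiples z) => decide ((x : A) = 0))
        fun p q e => Subtype.ext ?_)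
      simp only [decide_eq_decide] at e
      have key : ∀ x : Φ.perp (AddSubgroup.zmultiples z), (x : A) ≠ 0 → (x : A) = z := fun x hx => by
        by_contra h
        exact hh x hx (Ne.symm h) (by rw [Φ.sg_symm]; exact x.2 z (AddSubgroup.mem_zmultiples z))
      rcases eq_or_ne (p : A) 0 with h0 | h0
      · rw [h0, e.mp h0]
      · rw [key p h0, key q fun h1 => h0 (e.mpr h1)]
    have h1 := Φ.card_perp (AddSubgroup.zmultiples z)
    have h3 : Nat.card (AddSubgroup.zmultiples z) ≤ 2 := by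
      rw [Nat.card_zmultiples]
      exact Nat.le_of_dvd two_pos (addOrderOf_dvd_of_nsmul_eq_zero (by rw [two_nsmul, Φ.elem]))
    nlinarith
  obtain ⟨e, he, he'⟩ := Φ.exists_neg_two hz hz0'
  obtain ⟨t, ht⟩ := hG.lift z hz
  obtain ⟨t', ht'⟩ := hG.lift z' hz0'
  refine ⟨z, z', pr F V t * pr F V t' * Φ.e e, hz, hz0', hne, hzz, G.mul_mem (hG.pair z z' hz hz0' t t' ht ht') (hG.le (Φ.e_mem e)),
    ((ht.acts.mul ht'.acts).mul (acts_e e)), ?_⟩
  obtain ⟨ζ, h1, htv⟩ := ht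
  obtain ⟨ζ', h1', htv'⟩ := ht'
  have hzv : ∀ v, ζ • Φ.u z (ζ • Φ.u z v) = -v := h1
  have hzv' : ∀ v, ζ' • Φ.u z' (ζ' • Φ.u z' v) = -v := h1'
  obtain ⟨d, -, hd⟩ := Φ.sq e
  rw [Data.e, ← map_mul, ← map_mul, ← map_mul]
  refine pr_eq_one.mpr ⟨4 * d, fun v => ?_⟩
  simp only [LinearEquiv.mul_apply]
  have a1 : ∀ x, Φ.u e (x + ζ • Φ.u z x) = Φ.u e x - ζ • Φ.u z (Φ.u e x) := fun x => by
    rw [map_add, map_smul, Φ.comm e z, Φ.sg_symm z e, he, neg_one_smul, smul_neg, sub_eq_add_neg]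
  have a2 : ∀ x, Φ.u e (x + ζ' • Φ.u z' x) = Φ.u e x - ζ' • Φ.u z' (Φ.u e x) := fun x => by
    rw [map_add, map_smul, Φ.comm e z', Φ.sg_symm z' e, he', neg_one_smul, smul_neg, sub_eq_add_neg]
  have a3 : ∀ x, ζ • Φ.u z (ζ' • Φ.u z' x) = ζ' • Φ.u z' (ζ • Φ.u z x) := fun x => by
    rw [map_smul, map_smul, Φ.comm z z', hzz, one_smul, smul_comm]
  simp only [htv, htv']
  rw [a1, a2, hd]
  simp only [map_add, map_sub, smul_add, smul_sub, hzv, hzv', a3]
  simp only [map_add, map_sub, map_neg, smul_add, smul_sub, smul_neg, hzv, hzv', a3]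
  simp only [map_smul, smul_smul]
  module

/-- **Finish, from pairs and fusion.** -/
theorem finish_pairs [Finite F] (hG : Pairs Φ G) (hfu : Fuses Φ G) (hc : Φ.CentLe G) (h16 : 16 ≤ Nat.card A) :
    G ≤ Φ.N := by
  haveI : Finite (PG F V) := Quotient.finite _
  have hnorm : ∀ g ∈ G, ∀ a, g * Φ.e a * g⁻¹ ∈ Φ.N := by
    intro g hg a
    by_contra hk
    have ha : a ≠ 0 := by
      rintro rfl
      exact hk (by rw [Φ.e_zero, mul_one, mul_inv_cancel]; exact Φ.N.one_mem)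
    obtain ⟨z, z', w, hz, hz', hne, hzz, hw⟩ := exists_aux hG h16
    set k := g * Φ.e a * g⁻¹ with hkd
    have hkG : k ∈ G := G.mul_mem (G.mul_mem hg (hG.le (Φ.e_mem a))) (G.inv_mem hg)
    have hk2 : k * k = 1 := by
      rw [hkd, show g * Φ.e a * g⁻¹ * (g * Φ.e a * g⁻¹) = g * (Φ.e a * Φ.e a) * g⁻¹ by group, Φ.e_sq]
      group
    have hwN : w ∈ Φ.N := hw.2.1.mem_N
    have hwk : ¬ IsConj (⟨w, hw.1⟩ : G) ⟨k, hkG⟩ := by
      intro h
      obtain ⟨c, hc'⟩ := isConj_iff.mp h.symm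
      have h1 := congrArg Subtype.val hc'
      simp only [Subgroup.coe_mul, Subgroup.coe_inv] at h1
      have h2 : w = (c * g) * Φ.e a * (c * g : PG F V)⁻¹ := by rw [← h1, hkd]; group
      have h3 : w ∈ Φ.E := h2 ▸ hfu _ (G.mul_mem c.2 hg) a (h2 ▸ hwN)
      obtain ⟨y, rfl⟩ := Φ.mem_E.mp h3
      have h4 := hw.2.1.eq (acts_e y)
      obtain ⟨p, hp⟩ := Φ.nd z hz
      have h5 := congrFun h4 p
      rcases Φ.sign z' p with h6 | h6
      · rw [Function.comp_apply, Φ.tau_of_one h6, Φ.tau_of_neg hp, id, add_eq_left] at h5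
        exact hz h5
      · rw [Function.comp_apply, Φ.tau_of_neg h6, Φ.tau_of_neg (by rw [Φ.sg_add, hp, hzz, mul_one]), id, add_assoc,
          add_eq_left] at h5
        exact hne (Φ.eq_of_add_eq_zero h5).symm
    obtain ⟨⟨c, hcG⟩, hc2, hc1, hwc, hkc, hcases⟩ :=
      exists_central (a := (⟨w, hw.1⟩ : G)) (b := ⟨k, hkG⟩) (Subtype.ext hw.2.2) (Subtype.ext hk2) hwk
    have hwc' : w * c = c * w := congrArg Subtype.val hwc
    have hkc' : k * c = c * k := congrArg Subtype.val hkc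
    have hcN : c ∈ Φ.N := hw.cent_le hG hfu hc hz hz' hne hzz c hcG hwc'.symm
    have hfin : ∀ d : A, d ≠ 0 → ∀ x ∈ G, c = x * Φ.e d * x⁻¹ → False := by
      intro d hd x hx hcx
      obtain ⟨y, hy⟩ := Φ.mem_E.mp (hcx ▸ hfu _ hx d (hcx ▸ hcN) : c ∈ Φ.E)
      have hy0 : y ≠ 0 := fun h => hc1 (Subtype.ext (by show c = 1; rw [← hy, h, Φ.e_zero]))
      exact hk (hc y hy0 k hkG (by rw [hy]; exact hkc'))
    rcases hcases with hcw | hcw
    · -- `k c` is conjugate to the auxiliary involution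
      obtain ⟨⟨x, hx⟩, hx'⟩ := isConj_iff.mp hcw.symm
      have hx'' : x * w * x⁻¹ = k * c := congrArg Subtype.val hx'
      have hkN : x⁻¹ * k * x ∈ Φ.N := hw.cent_le hG hfu hc hz hz' hne hzz _
        (G.mul_mem (G.mul_mem (G.inv_mem hx) hkG) hx) (by
          calc x⁻¹ * k * x * w = x⁻¹ * (k * (x * w * x⁻¹)) * x := by group
            _ = x⁻¹ * (k * c * k) * x := by rw [hx'', mul_assoc k c k, ← hkc']
            _ = x⁻¹ * (x * w * x⁻¹ * k) * x := by rw [hx'']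
            _ = w * (x⁻¹ * k * x) := by group)
      obtain ⟨b, hb⟩ := Φ.mem_E.mp (show x⁻¹ * k * x ∈ Φ.E by
        have := hfu _ (G.mul_mem (G.inv_mem hx) hg) a (by
          rwa [show x⁻¹ * g * Φ.e a * (x⁻¹ * g)⁻¹ = x⁻¹ * k * x by rw [hkd]; group])
        rwa [show x⁻¹ * g * Φ.e a * (x⁻¹ * g)⁻¹ = x⁻¹ * k * x by rw [hkd]; group] at this)
      have hcw' : c = x * (Φ.e b * w) * x⁻¹ := by
        rw [hb, show x * (x⁻¹ * k * x * w) * x⁻¹ = k * (x * w * x⁻¹) by group, hx'', ← mul_assoc, hk2, one_mul]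
      set w2 := Φ.e b * w with hw2d
      have hbw : Φ.e b * w = w * Φ.e b := by
        rw [hb]
        calc x⁻¹ * k * x * w = x⁻¹ * (k * (x * w * x⁻¹)) * x := by group
          _ = x⁻¹ * (k * c * k) * x := by rw [hx'', mul_assoc k c k, ← hkc']
          _ = x⁻¹ * (x * w * x⁻¹ * k) * x := by rw [hx'']
          _ = w * (x⁻¹ * k * x) := by group
      have hw2 : Φ.IsAux G z z' w2 := ⟨G.mul_mem (hG.le (Φ.e_mem b)) hw.1, (acts_e b).mul hw.2.1, by
        rw [hw2d, mul_assoc, ← mul_assoc w, ← hbw, mul_assoc, hw.2.2, mul_one, Φ.e_sq]⟩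
      have hxc : x⁻¹ * c * x ∈ Φ.N := by
        rw [hcw', show x⁻¹ * (x * w2 * x⁻¹) * x = w2 by group]
        exact hw2.2.1.mem_N
      have hf2 := hw2.2.1
      have hf3 := Φ.acts_act hcN
      generalize Φ.act ⟨c, hcN⟩ = f3 at hf3
      obtain ⟨d, hd0, hd⟩ : ∃ d, d ≠ 0 ∧ f3 d = d := by
        have hf33 : ∀ y, f3 (f3 y) = y := fun y => by
          have h := hf3.mul hf3
          have hc2' : c * c = 1 := congrArg Subtype.val hc2
          rw [hc2'] at h
          exact congrFun (h.eq (f' := id) (fun q => by rw [one_mul, inv_one, mul_one]; rfl)) y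
        obtain ⟨p, hp0⟩ : ∃ p : A, p ≠ 0 := ⟨z, hz⟩
        rcases eq_or_ne (f3 p + p) 0 with h0 | h0
        · exact ⟨p, hp0, Φ.eq_of_add_eq_zero h0⟩
        · exact ⟨_, h0, by rw [hf3.add, hf33, add_comm]⟩
      have h1 : x⁻¹ * Φ.e d * x ∈ Φ.N := hw2.cent_le hG hfu hc hz hz' hne hzz _
        (G.mul_mem (G.mul_mem (G.inv_mem hx) (hG.le (Φ.e_mem d))) hx) (by
          have hcd : c * Φ.e d = Φ.e d * c := (hf3.commute_iff d).mpr hd
          calc x⁻¹ * Φ.e d * x * w2 = x⁻¹ * (Φ.e d * c) * x := by rw [hcw']; group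
            _ = x⁻¹ * (c * Φ.e d) * x := by rw [hcd]
            _ = w2 * (x⁻¹ * Φ.e d * x) := by rw [hcw']; group)
      obtain ⟨y, hy⟩ := Φ.mem_E.mp (show x⁻¹ * Φ.e d * x⁻¹⁻¹ ∈ Φ.E from
        hfu _ (G.inv_mem hx) d (by rwa [inv_inv]))
      have hxN : x ∈ Φ.N := inv_mem_iff.mp (mem_N_of_conj hG hc hd0 (G.inv_mem hx) hy.symm)
      obtain ⟨b', hb'⟩ := Φ.conj_of_mem_N hxN b
      refine hk ?_
      rw [show k = x * (x⁻¹ * k * x) * x⁻¹ by group, ← hb, hb']
      exact Φ.E_le_N (Φ.e_mem b')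
    · -- `k c` is conjugate to `k`
      obtain ⟨⟨x, hx⟩, hx'⟩ := isConj_iff.mp hcw.symm
      have hx'' : x * k * x⁻¹ = k * c := congrArg Subtype.val hx'
      have hkc2 : (x * g)⁻¹ * k * (x * g) * Φ.e a = Φ.e a * ((x * g)⁻¹ * k * (x * g)) := by
        have e1 : (x * g) * Φ.e a * (x * g)⁻¹ = k * c := by rw [← hx'', hkd]; group
        calc (x * g)⁻¹ * k * (x * g) * Φ.e a
            = (x * g)⁻¹ * (k * ((x * g) * Φ.e a * (x * g)⁻¹)) * (x * g) := by group
          _ = (x * g)⁻¹ * (k * c * k) * (x * g) := by rw [e1, mul_assoc k c k, ← hkc']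
          _ = (x * g)⁻¹ * ((x * g) * Φ.e a * (x * g)⁻¹ * k) * (x * g) := by rw [e1]
          _ = Φ.e a * ((x * g)⁻¹ * k * (x * g)) := by group
      have hxgG : x * g ∈ G := G.mul_mem hx hg
      have h1 := hc a ha _ (G.mul_mem (G.mul_mem (G.inv_mem hxgG) hkG) hxgG) hkc2
      obtain ⟨b, hb⟩ := Φ.mem_E.mp (show (x * g)⁻¹ * g * Φ.e a * ((x * g)⁻¹ * g)⁻¹ ∈ Φ.E from
        hfu _ (G.mul_mem (G.inv_mem hxgG) hg) a (by
          rwa [show (x * g)⁻¹ * g * Φ.e a * ((x * g)⁻¹ * g)⁻¹ = (x * g)⁻¹ * k * (x * g) by rw [hkd]; group]))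
      have hb' : k = (x * g) * Φ.e b * (x * g)⁻¹ := by rw [hb, hkd]; group
      have hcab : c = (x * g) * Φ.e (b + a) * (x * g)⁻¹ := by
        rw [Φ.e_add, show (x * g) * (Φ.e b * Φ.e a) * (x * g)⁻¹
          = ((x * g) * Φ.e b * (x * g)⁻¹) * (x * (g * Φ.e a * g⁻¹) * x⁻¹) by group, ← hb', ← hkd, hx'',
          ← mul_assoc, hk2, one_mul]
      refine hfin (b + a) (fun h => hc1 (Subtype.ext ?_)) _ hxgG hcab
      show c = 1
      rw [hcab, h, Φ.e_zero]
      group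
  intro g hg
  refine Φ.mem_N_of fun a => ?_
  obtain ⟨b, hb⟩ := Φ.mem_E.mp (hfu _ hg a (hnorm g hg a))
  exact ⟨b, hb.symm⟩

/-- **Finish.** -/
theorem finish [Finite F] (hG : Φ.Full G) (hc : Φ.CentLe G) (h16 : 16 ≤ Nat.card A) : G ≤ Φ.N :=
  finish_pairs hG.pairs (fun _ hg _ hy => fusion hG hc h16 hg hy) hc h16

end Data

end Cfsg.Agent.Classical.Frame
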