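/-
Centralisers of frame elements, when the restrictions to their eigenspaces permute the restricted frames.
-/
import Cfsg.Agent.Lib.Classical.Frame.Block
import Cfsg.Agent.Lib.Classical.Frame.Finish

set_option autoImplicit false
set_option linter.unusedSectionVars false

namespace Cfsg.Agent.Classical.Frame

open Module

universe u v w

variable {F : Type u} [Field F] {V : Type v} [AddCommGroup V] [Module F V] [FiniteDimensional F V]
  {A : Type w} [AddCommGroup A] [Finite A] (Φ : Data F V A)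

namespace Data

/-- The squares of the frame maps are squares. -/
def Roots : Prop := ∀ a, ∃ s : F, s ≠ 0 ∧ ∀ v, Φ.u a (Φ.u a v) = (s * s) • v

theorem roots_of_single {G : Subgroup (PG F V)} (hs : ∀ z ≠ 0, Φ.Single G z) {i : F} (hi : i * i = -1) :
    Φ.Roots := fun a => by
  rcases eq_or_ne a 0 with rfl | ha
  · obtain ⟨c0, hc0, hu0⟩ := Φ.u_zero
    exact ⟨c0, hc0, fun v => by rw [hu0, hu0, smul_smul]⟩
  · obtain ⟨t, ht, -⟩ := hs a ha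
    obtain ⟨ζ, hζ, hsq, -⟩ := ht.apply_sq
    refine ⟨i * ζ⁻¹, mul_ne_zero (fun e => by simp [e] at hi) (inv_ne_zero hζ), fun v => ?_⟩
    rw [hsq, mul_mul_mul_comm, hi, neg_one_mul, mul_inv]

/-- On each eigenspace of `u x` the elements of `G` commuting with it permute the frame. -/
def Split (G : Subgroup (PG F V)) (x : A) : Prop :=
  ∀ k : V ≃ₗ[F] V, pr F V k ∈ G → (∀ v, k (Φ.u x v) = Φ.u x (k v)) → ∀ s : F, ∀ p ∈ Φ.cen x,
    ∃ q ∈ Φ.cen x, ∃ c : F, ∀ v, Φ.u x v = s • v → k (Φ.u p v) = c • Φ.u q (k v)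

/-- The two eigenspaces of `u x` see the same permutation. -/
def Same (G : Subgroup (PG F V)) (x : A) : Prop :=
  ∀ k : V ≃ₗ[F] V, pr F V k ∈ G → (∀ v, k (Φ.u x v) = Φ.u x (k v)) → ∀ s : F, s ≠ 0 →
    (∀ v, Φ.u x (Φ.u x v) = (s * s) • v) → ∀ p ∈ Φ.cen x, ∀ q ∈ Φ.cen x, ∀ q' ∈ Φ.cen x, ∀ c c' : F,
    (∀ v, Φ.u x v = s • v → k (Φ.u p v) = c • Φ.u q (k v)) →
    (∀ v, Φ.u x v = -s • v → k (Φ.u p v) = c' • Φ.u q' (k v)) → q + q' ∈ AddSubgroup.zmultiples x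

variable {Φ} {G : Subgroup (PG F V)}

theorem conj_cen_mem_E (hr : Φ.Roots) {x : A} (hx : x ≠ 0) (hsplit : Φ.Split G x) (hsame : Φ.Same G x)
    {k : V ≃ₗ[F] V} (hk : pr F V k ∈ G) (hkx : ∀ v, k (Φ.u x v) = Φ.u x (k v)) {p : A} (hp : p ∈ Φ.cen x) :
    ∃ q ∈ Φ.cen x, pr F V k * Φ.e p * (pr F V k)⁻¹ = Φ.e q := by
  obtain ⟨s, hs0, hs⟩ := hr x
  obtain ⟨q, hq, c, hc⟩ := hsplit k hk hkx s p hp
  obtain ⟨q', hq', c', hc'⟩ := hsplit k hk hkx (-s) p hp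
  have hqq := hsame k hk hkx s hs0 hs p hp q hq q' hq' c c' hc hc'
  have hkb : ∀ {t : F} {v : V}, Φ.u x v = t • v → Φ.u x (k v) = t • k v := fun h => by rw [← hkx, h, map_smul]
  obtain ⟨d, hd⟩ : ∃ d : F, ∀ v, Φ.u x v = -s • v → k (Φ.u p v) = d • Φ.u q (k v) := by
    rcases Φ.mem_zmultiples.mp hqq with h | h
    · exact ⟨c', by rw [Φ.eq_of_add_eq_zero h]; exact hc'⟩
    · have hqx : q' = x + q := by rw [← h, add_comm q q', Φ.add_self_cancel]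
      obtain ⟨m, hm⟩ := Φ.mul x q
      refine ⟨c' * (m⁻¹ * -s), fun v hv => ?_⟩
      have e : Φ.u q' (k v) = (m⁻¹ * -s) • Φ.u q (k v) := by
        rw [hqx, ← inv_smul_smul₀ (Φ.mul_ne hm) (Φ.u (x + q) (k v)), ← hm,
          Φ.mem_eigen_u (Φ.mem_cen.mp hq) (hkb hv), smul_smul]
      rw [hc' v hv, e, smul_smul]
  obtain ⟨dp, hdp0, hdp⟩ := Φ.sq p
  obtain ⟨dq, hdq0, hdq⟩ := Φ.sq q
  have hsquare : ∀ (t e : F), (∃ v, v ≠ 0 ∧ Φ.u x v = t • v) →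
      (∀ v, Φ.u x v = t • v → k (Φ.u p v) = e • Φ.u q (k v)) → e * e * dq = dp := by
    rintro t e ⟨v, hv0, hv⟩ he
    have h1 := he _ (Φ.mem_eigen_u (Φ.mem_cen.mp hp) hv)
    rw [he v hv, hdp, map_smul, map_smul, hdq, smul_smul, smul_smul] at h1
    exact (smul_left_injective F (fun h => hv0 (k.map_eq_zero_iff.mp h)) h1).symm
  have h1 := hsquare s c (Φ.exists_eigen hx hs) hc
  have h2 := hsquare (-s) d (Φ.exists_eigen hx (s := -s) (by simpa using hs)) hd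
  rcases mul_self_eq_mul_self_iff.mp (mul_right_cancel₀ hdq0 (h2.trans h1.symm)) with e | e
  · subst e
    refine ⟨q, hq, pr_conj.mpr ⟨d, fun v => ?_⟩⟩
    exact LinearMap.congr_fun (Φ.ext_eigen hs0 hs (f := k.toLinearMap ∘ₗ Φ.m p)
      (g := d • Φ.m q ∘ₗ k.toLinearMap) hc hd) v
  · subst e
    obtain ⟨m, hm⟩ := Φ.mul q x
    refine ⟨q + x, (Φ.cen x).add_mem hq (Φ.self_mem_cen x), pr_conj.mpr ⟨c / s * m, fun v => ?_⟩⟩
    refine LinearMap.congr_fun (Φ.ext_eigen hs0 hs (f := k.toLinearMap ∘ₗ Φ.m p)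
      (g := (c / s * m) • Φ.m (q + x) ∘ₗ k.toLinearMap) (fun w hw => ?_) (fun w hw => ?_)) v
    · show k (Φ.u p w) = (c / s * m) • Φ.u (q + x) (k w)
      rw [← smul_smul, ← hm, hkb hw, map_smul, smul_smul, div_mul_cancel₀ _ hs0, hc w hw]
    · show k (Φ.u p w) = (c / s * m) • Φ.u (q + x) (k w)
      rw [← smul_smul, ← hm, hkb hw, map_smul, smul_smul, mul_neg, div_mul_cancel₀ _ hs0, hd w hw]

theorem exists_adjust (hE : Φ.E ≤ G) {x p : A} (hp0 : p ≠ 0) (hpx : p ≠ x) (hx : x ≠ 0)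
    {g : PG F V} (hg : g ∈ G) (hgx : g * Φ.e x = Φ.e x * g) (hgp : g * Φ.e p = Φ.e p * g) :
    ∃ (b : A) (k : V ≃ₗ[F] V), pr F V k ∈ G ∧ pr F V k = Φ.e b * g ∧
      (∀ v, k (Φ.u x v) = Φ.u x (k v)) ∧ ∀ v, k (Φ.u p v) = Φ.u p (k v) := by
  obtain ⟨l, rfl⟩ := pr_surjective g
  obtain ⟨ε, hε, hlx⟩ := Φ.exists_sign hgx
  obtain ⟨δ, hδ, hlp⟩ := Φ.exists_sign hgp
  obtain ⟨b, hbx, hbp⟩ : ∃ b, Φ.sg b x = ε ∧ Φ.sg b p = δ := by
    have h1 : x ∉ Φ.perp ⊤ := fun h => hx (Φ.eq_zero_of_sg fun y => h y trivial)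
    have h2 : p ∉ Φ.perp ⊤ := fun h => hp0 (Φ.eq_zero_of_sg fun y => h y trivial)
    obtain ⟨c, -, hcx, hcp⟩ := Φ.exists_neg_both h1 h2
    obtain ⟨r, hr, hrp⟩ : ∃ r ∈ Φ.cen x, Φ.sg p r = -1 := by
      have h := Φ.not_mem_perp_cen hp0 hpx
      rw [Φ.mem_perp] at h
      push Not at h
      obtain ⟨r, hr, hne⟩ := h
      exact ⟨r, hr, Φ.sg_cases hne⟩
    have hrx : Φ.sg r x = 1 := by rw [Φ.sg_symm]; exact Φ.mem_cen.mp hr
    rw [Φ.sg_symm] at hcx hcp hrp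
    rcases hε with rfl | rfl <;> rcases hδ with rfl | rfl
    · exact ⟨0, by rw [Φ.sg_symm, Φ.sg_zero], by rw [Φ.sg_symm, Φ.sg_zero]⟩
    · exact ⟨r, hrx, hrp⟩
    · exact ⟨c + r, by rw [Φ.sg_add_left, hcx, hrx, mul_one],
        by rw [Φ.sg_add_left, hcp, hrp, neg_one_mul, neg_neg]⟩
    · exact ⟨c, hcx, hcp⟩
  refine ⟨b, Φ.u b * l, ?_, map_mul _ _ _, fun v => ?_, fun v => ?_⟩
  · rw [map_mul]; exact G.mul_mem (hE (Φ.e_mem b)) hg
  · rw [LinearEquiv.mul_apply, hlx, map_smul, Φ.comm b x, hbx, smul_smul, LinearEquiv.mul_apply]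
    rcases hε with rfl | rfl <;> simp
  · rw [LinearEquiv.mul_apply, hlp, map_smul, Φ.comm b p, hbp, smul_smul, LinearEquiv.mul_apply]
    rcases hδ with rfl | rfl <;> simp

/-- **Centralisers.** -/
theorem cent_of_split (hG : Φ.Full G) (hr : Φ.Roots) (h16 : 16 ≤ Nat.card A) (hsplit : ∀ x ≠ 0, Φ.Split G x)
    (hsame : ∀ x ≠ 0, Φ.Same G x) : Φ.CentLe G := by
  intro x hx g hg hgx
  obtain ⟨z, hz⟩ := Φ.nd x hx
  obtain ⟨p0, hp0, hp0z, h0, hne⟩ : ∃ p0 ∈ Φ.cen x, Φ.sg p0 z = 1 ∧ p0 ≠ 0 ∧ p0 ≠ x := by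
    obtain ⟨r, hr', hr0, hrx⟩ : ∃ r ∈ Φ.cen x, r ≠ 0 ∧ r ≠ x := by
      by_contra hh
      push Not at hh
      have h1 : Φ.cen x ≤ AddSubgroup.zmultiples x := fun r hr' => Φ.mem_zmultiples.mpr
        ((eq_or_ne r 0).imp_right fun h => hh r hr' h)
      have h2 := Φ.card_perp (AddSubgroup.zmultiples x)
      have h4 : Nat.card (Φ.cen x) ≤ Nat.card (AddSubgroup.zmultiples x) := AddSubgroup.card_le_of_le h1
      have h3 : Nat.card (AddSubgroup.zmultiples x) ≤ 2 := by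
        rw [Nat.card_zmultiples]
        exact Nat.le_of_dvd two_pos (addOrderOf_dvd_of_nsmul_eq_zero (by rw [two_nsmul, Φ.elem]))
      have h5 : Nat.card (Φ.perp (AddSubgroup.zmultiples x)) = Nat.card (Φ.cen x) := rfl
      nlinarith
    rcases Φ.sign r z with h | h
    · exact ⟨r, hr', h, hr0, hrx⟩
    · refine ⟨r + x, (Φ.cen x).add_mem hr' (Φ.self_mem_cen x), ?_, Φ.add_ne_zero hrx, fun e => hr0 ?_⟩
      · rw [Φ.sg_add_left, h, hz, neg_one_mul, neg_neg]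
      · exact add_eq_right.mp e
  -- first part for any exact lift
  have part : ∀ h ∈ G, h * Φ.e x = Φ.e x * h → ∀ p ∈ Φ.cen x, ∃ q ∈ Φ.cen x, h * Φ.e p * h⁻¹ = Φ.e q := by
    intro h hh hhx p hp
    obtain ⟨l, rfl⟩ := pr_surjective h
    obtain ⟨ε, hε, hlx⟩ := Φ.exists_sign hhx
    rcases hε with rfl | rfl
    · exact conj_cen_mem_E hr hx (hsplit x hx) (hsame x hx) hh (fun v => by rw [hlx, one_smul]) hp
    · obtain ⟨q, hq, hc⟩ := conj_cen_mem_E hr hx (hsplit x hx) (hsame x hx) (k := Φ.u z * l)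
        (by rw [map_mul]; exact G.mul_mem (hG.le (Φ.e_mem z)) hh)
        (fun v => by rw [LinearEquiv.mul_apply, LinearEquiv.mul_apply, hlx, neg_one_smul, map_neg, Φ.comm z x,
          Φ.sg_symm x z, hz, neg_one_smul, neg_neg]) hp
      refine ⟨q, hq, ?_⟩
      rw [map_mul] at hc
      calc pr F V l * Φ.e p * (pr F V l)⁻¹
          = (pr F V (Φ.u z))⁻¹ * (pr F V (Φ.u z) * pr F V l * Φ.e p * (pr F V (Φ.u z) * pr F V l)⁻¹)
            * pr F V (Φ.u z) := by group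
        _ = (Φ.e z)⁻¹ * (Φ.e q * Φ.e z) := by rw [hc, mul_assoc]; rfl
        _ = Φ.e q := by rw [Φ.e_comm, ← mul_assoc, inv_mul_cancel, one_mul]
  obtain ⟨q0, hq0, hgq0⟩ := part g hg hgx p0 hp0
  have hq00 : q0 ≠ 0 := by
    rintro rfl
    rw [Φ.e_zero, mul_inv_eq_one, mul_eq_left, Φ.e_eq_one] at hgq0
    exact h0 hgq0
  have hq0x : q0 ≠ x := by
    rintro rfl
    rw [mul_inv_eq_iff_eq_mul, ← hgx] at hgq0
    exact hne (Φ.e_injective (mul_left_cancel hgq0))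
  obtain ⟨n, hn, f, hf, hfq, hfix⟩ := exists_move hG.single hq0 hp0 (Φ.not_mem_perp_cen hq00 hq0x)
    (Φ.not_mem_perp_cen h0 hne)
  have hfx : n * Φ.e x = Φ.e x * n :=
    (hf.commute_iff x).mpr (hfix x (by rw [Φ.perp_cen]; exact AddSubgroup.mem_zmultiples x))
  obtain ⟨b, k, hkG, hk, hkx, hkp⟩ := exists_adjust hG.le h0 hne hx (g := n * g) (G.mul_mem hn hg)
    (by rw [mul_assoc, hgx, ← mul_assoc, hfx, mul_assoc]) (by
      rw [← mul_inv_eq_iff_eq_mul, show n * g * Φ.e p0 * (n * g)⁻¹ = n * (g * Φ.e p0 * g⁻¹) * n⁻¹ by group,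
        hgq0, hf, hfq])
  suffices hkN : pr F V k ∈ Φ.N by
    rw [hk] at hkN
    have h1 := Φ.N.mul_mem (Φ.N.inv_mem hf.mem_N) (Φ.N.mul_mem (Φ.E_le_N (Φ.e_mem b)) hkN)
    rwa [← mul_assoc (Φ.e b), Φ.e_sq, one_mul, inv_mul_cancel_left] at h1
  have hkxe : pr F V k * Φ.e x = Φ.e x * pr F V k := pr_commute.mpr ⟨1, fun v => by rw [one_smul]; exact hkx v⟩
  choose ψ hψ hψe using part (pr F V k)⁻¹ (G.inv_mem hkG) (by
    rw [inv_mul_eq_iff_eq_mul, ← mul_assoc, hkxe, mul_inv_cancel_right])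
  -- the pattern for the image of `z`
  classical
  obtain ⟨c, hc⟩ := Φ.exists_pattern (Φ.cen x) (fun r => if h : r ∈ Φ.cen x then Φ.sg z (ψ r h) else 1) (by
    intro a ha a' ha'
    rw [dif_pos ha, dif_pos ha', dif_pos ((Φ.cen x).add_mem ha ha'), ← Φ.sg_add]
    refine congrArg (Φ.sg z) (Φ.e_injective ?_)
    rw [← hψe, Φ.e_add, Φ.e_add, ← hψe a ha, ← hψe a' ha']
    group) (by
    rw [dif_pos (Φ.cen x).zero_mem]
    have h1 : ψ 0 (Φ.cen x).zero_mem = 0 := Φ.e_injective (by rw [← hψe, Φ.e_zero]; group)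
    rw [h1, Φ.sg_zero])
  -- the image of `u z` is a combination of `u c` and `u (x + c)`
  obtain ⟨α, β, hM⟩ := Φ.commutant_cen x ((k * Φ.u z * k⁻¹ * (Φ.u c)⁻¹ : V ≃ₗ[F] V)).toLinearMap (by
    intro r hr' v
    obtain ⟨w, rfl⟩ := (Φ.u c).surjective v
    obtain ⟨d, hd⟩ := pr_conj.mp (show pr F V k * Φ.e (ψ r hr') * (pr F V k)⁻¹ = Φ.e r by rw [← hψe r hr']; group)
    have hd0 : d ≠ 0 := by
      rintro rfl
      have := hd w
      rw [zero_smul] at this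
      exact (Φ.exists_ne).elim fun v hv => hv (by
        obtain ⟨y, rfl⟩ : ∃ y, k (Φ.u (ψ r hr') y) = v :=
          ⟨(Φ.u (ψ r hr')).symm (k.symm v), by simp⟩
        rw [hd, zero_smul])
    have hcr : Φ.sg c r = Φ.sg z (ψ r hr') := by
      have h1 := hc r hr'
      rwa [dif_pos hr'] at h1
    have hki : ∀ y, k⁻¹ (Φ.u r y) = d⁻¹ • Φ.u (ψ r hr') (k⁻¹ y) := fun y => k.injective (by
      have e1 : ∀ y, k (k⁻¹ y) = y := fun y => k.apply_symm_apply y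
      rw [map_smul, hd, smul_smul, inv_mul_cancel₀ hd0, one_smul, e1, e1])
    show (k * Φ.u z * k⁻¹ * (Φ.u c)⁻¹) (Φ.u r (Φ.u c w)) = Φ.u r ((k * Φ.u z * k⁻¹ * (Φ.u c)⁻¹) (Φ.u c w))
    have hci : ∀ y, (Φ.u c)⁻¹ (Φ.u c y) = y := fun y => (Φ.u c).symm_apply_apply y
    have h2 : Φ.u r (Φ.u c w) = Φ.sg c r • Φ.u c (Φ.u r w) := by rw [Φ.comm r c, Φ.sg_symm c r]
    simp only [LinearEquiv.mul_apply, hci]
    simp only [h2, map_smul, hci, hki, Φ.comm z (ψ r hr'), hd, smul_smul, hcr]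
    rw [mul_right_comm (Φ.sg z (ψ r hr')) d⁻¹, Φ.sg_sq, one_mul, inv_mul_cancel₀ hd0, one_smul])
  have hy : ∀ v, k (Φ.u z v) = α • Φ.u c (k v) + β • Φ.u x (Φ.u c (k v)) := by
    intro v
    have h1 := hM (Φ.u c (k v))
    rw [← h1]
    show k (Φ.u z v) = (k * Φ.u z * k⁻¹ * (Φ.u c)⁻¹) (Φ.u c (k v))
    simp only [LinearEquiv.mul_apply]
    rw [show (Φ.u c)⁻¹ (Φ.u c (k v)) = k v from (Φ.u c).symm_apply_apply _,
      show k⁻¹ (k v) = v from k.symm_apply_apply v]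
  obtain ⟨s, hs0, hs⟩ := hr p0
  obtain ⟨r, hr', γ, hγ⟩ := hsplit p0 h0 k hkG hkp s z (Φ.mem_cen.mpr hp0z)
  obtain ⟨v0, hv0, hv0e⟩ := Φ.exists_eigen h0 hs
  obtain ⟨m, hm⟩ := Φ.mul x c
  have hcp : Φ.sg p0 c = 1 := by
    rw [Φ.sg_symm, hc p0 hp0, dif_pos hp0]
    have h1 : ψ p0 hp0 = p0 := Φ.e_injective (by
      rw [← hψe]
      have h2 : pr F V k * Φ.e p0 = Φ.e p0 * pr F V k := pr_commute.mpr ⟨1, fun v => by rw [one_smul]; exact hkp v⟩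
      rw [inv_inv, mul_assoc, ← h2, inv_mul_cancel_left])
    rw [h1, Φ.sg_symm]
    exact hp0z
  have hcase : α = 0 ∨ β * m = 0 := by
    refine Φ.two_term (S := AddSubgroup.zmultiples p0) (fun v => Φ.u p0 v = s • v)
      (fun e => hv0 (k.map_eq_zero_iff.mp e)) (show Φ.u p0 (k v0) = s • k v0 by rw [← hkp, hv0e, map_smul])
      (fun p hp v hv => Φ.mem_eigen_u (Φ.mem_cen.mp hp) hv) (a := c) (b := x + c) (r := r) (c := γ)
      (by
        rw [show c + (x + c) = x by rw [add_comm, Φ.add_self_cancel], Φ.mem_zmultiples]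
        push Not
        exact ⟨hx, Ne.symm hne⟩) fun v hv => ?_
    obtain ⟨w, rfl⟩ := k.surjective v
    have hw : Φ.u p0 w = s • w := k.injective (by rw [hkp, hv, map_smul])
    rw [← hγ w hw, hy w, hm, smul_smul]
  obtain ⟨y, hy'⟩ : ∃ y, pr F V k * Φ.e z * (pr F V k)⁻¹ = Φ.e y := by
    rcases hcase with h | h
    · refine ⟨x + c, pr_conj.mpr ⟨β * m, fun v => ?_⟩⟩
      rw [hy, h, zero_smul, zero_add, hm, smul_smul]
    · refine ⟨c, pr_conj.mpr ⟨α, fun v => ?_⟩⟩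
      rw [hy, hm, smul_smul, h, zero_smul, add_zero]
  refine Φ.mem_N_of fun a => ?_
  by_cases ha : a ∈ Φ.cen x
  · obtain ⟨q, -, hq⟩ := part _ hkG hkxe a ha
    exact ⟨q, hq⟩
  · have haz : a + z ∈ Φ.cen x := by
      rw [Φ.mem_cen, Φ.sg_add, hz, Φ.sg_cases (fun e => ha (Φ.mem_cen.mpr e)), neg_one_mul, neg_neg]
    obtain ⟨q, -, hq⟩ := part _ hkG hkxe _ haz
    refine ⟨q + y, ?_⟩
    rw [Φ.e_add q y, ← hq, ← hy']
    conv_lhs => rw [← Φ.add_self_cancel a z, Φ.e_add]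
    group

end Data

end Cfsg.Agent.Classical.Frame
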