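/-
Both eigenspaces of a frame map see the same permutation, except possibly in dimension four.
-/
import Cfsg.Agent.Lib.Classical.Frame.CentSplit

set_option autoImplicit false
set_option linter.unusedSectionVars false

namespace Cfsg.Agent.Classical.Frame

open Module

universe u v w

variable {F : Type u} [Field F] {V : Type v} [AddCommGroup V] [Module F V] [FiniteDimensional F V]
  {A : Type w} [AddCommGroup A] [Finite A] (Φ : Data F V A)

namespace Data

section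

include Φ

/-- A joint eigenvector of two commuting frame maps. -/
theorem exists_joint {x a : A} (hax : Φ.sg a x = 1) (ha : a ∉ AddSubgroup.zmultiples x) (hx : x ≠ 0) {s t : F}
    (hs : ∀ v, Φ.u x (Φ.u x v) = (s * s) • v) (ht : ∀ v, Φ.u a (Φ.u a v) = (t * t) • v) :
    ∃ v, v ≠ 0 ∧ Φ.u x v = s • v ∧ Φ.u a v = t • v := by
  obtain ⟨v1, hv1, hv1e⟩ := Φ.exists_eigen hx hs
  by_contra hc
  push Not at hc
  have hxa : Φ.sg x a = 1 := by rw [Φ.sg_symm]; exact hax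
  have key : ∀ v, Φ.u x v = s • v → Φ.u a v = -t • v := fun v hv => by
    by_contra hne
    refine hc (Φ.u a v + t • v) (fun e => hne (by rw [neg_smul]; exact eq_neg_of_add_eq_zero_left e))
      (by rw [map_add, map_smul, Φ.mem_eigen_u hxa hv, hv, smul_add, smul_comm t s]) ?_
    rw [map_add, map_smul, ht, smul_add, smul_smul, add_comm]
  obtain ⟨c0, hc0, hu0⟩ := Φ.u_zero
  apply ha
  have := Φ.indep_block (S := AddSubgroup.zmultiples x) (fun v => Φ.u x v = s • v) hv1 hv1e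
    (fun p hp v hv => Φ.mem_eigen_u (Φ.mem_cen.mp hp) hv) (q := 0) (r := a) (c := -t / c0)
    (fun v hv => by rw [hu0, smul_smul, div_mul_cancel₀ _ hc0, key v hv])
  rwa [zero_add] at this

/-- On a joint eigenspace an index of the joint group acts by a scalar. -/
theorem u_joint {x a δ : A} (hδ : δ ∈ AddSubgroup.zmultiples x ⊔ AddSubgroup.zmultiples a) {s t : F} :
    ∃ e : F, ∀ v, Φ.u x v = s • v → Φ.u a v = t • v → Φ.u δ v = e • v := by
  obtain ⟨y, hy, z, hz, rfl⟩ := AddSubgroup.mem_sup.mp hδ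
  obtain ⟨c0, -, hu0⟩ := Φ.u_zero
  rcases Φ.mem_zmultiples.mp hy with hy' | hy' <;> rcases Φ.mem_zmultiples.mp hz with hz' | hz' <;> rw [hy', hz']
  · exact ⟨c0, fun v _ _ => by rw [add_zero, hu0]⟩
  · exact ⟨t, fun v _ h => by rw [zero_add]; exact h⟩
  · exact ⟨s, fun v h _ => by rw [add_zero]; exact h⟩
  · obtain ⟨m, hm⟩ := Φ.mul x a
    exact ⟨m⁻¹ * (t * s), fun v h h' => by
      rw [← inv_smul_smul₀ (Φ.mul_ne hm) (Φ.u (x + a) v), ← hm, h', map_smul, h, smul_smul, smul_smul, mul_assoc]⟩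

theorem mem_perp_two {x a p : A} :
    p ∈ Φ.perp (AddSubgroup.zmultiples x ⊔ AddSubgroup.zmultiples a) ↔ Φ.sg x p = 1 ∧ Φ.sg a p = 1 := by
  constructor
  · intro h
    exact ⟨(Φ.sg_symm p x).trans (h x (AddSubgroup.mem_sup_left (AddSubgroup.mem_zmultiples x))),
      (Φ.sg_symm p a).trans (h a (AddSubgroup.mem_sup_right (AddSubgroup.mem_zmultiples a)))⟩
  · rintro ⟨h1, h2⟩ y hy
    obtain ⟨y1, hy1, y2, hy2, rfl⟩ := AddSubgroup.mem_sup.mp hy
    rw [Φ.sg_add, Φ.mem_cen.mpr h1 y1 hy1, Φ.mem_cen.mpr h2 y2 hy2, one_mul]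

theorem card_zmultiples_le (x : A) : Nat.card (AddSubgroup.zmultiples x) ≤ 2 := by
  rw [Nat.card_zmultiples]
  exact Nat.le_of_dvd two_pos (addOrderOf_dvd_of_nsmul_eq_zero (by rw [two_nsmul, Φ.elem]))

end

variable {Φ} {G : Subgroup (PG F V)}

theorem not_mem_of_perm {x p q : A} (hp : p ∉ AddSubgroup.zmultiples x) (hpx : p ∈ Φ.cen x)
    (hx : x ≠ 0) {k : V ≃ₗ[F] V} (hkx : ∀ v, k (Φ.u x v) = Φ.u x (k v)) {s : F}
    (hs : ∀ v, Φ.u x (Φ.u x v) = (s * s) • v) {c : F}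
    (hc : ∀ v, Φ.u x v = s • v → k (Φ.u p v) = c • Φ.u q (k v)) : q ∉ AddSubgroup.zmultiples x := by
  intro hq
  obtain ⟨e, he⟩ := Φ.u_joint (x := x) (a := x) (δ := q) (AddSubgroup.mem_sup_left hq) (s := s) (t := s)
  obtain ⟨c0, hc0, hu0⟩ := Φ.u_zero
  obtain ⟨v, hv0, hv⟩ := Φ.exists_eigen hx hs
  apply hp
  have h := Φ.indep_block (S := AddSubgroup.zmultiples x) (fun w => Φ.u x w = s • w) hv0 hv
    (fun p hp v hv => Φ.mem_eigen_u (Φ.mem_cen.mp hp) hv) (q := 0) (r := p) (c := c * e / c0)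
    (fun w hw => k.injective (by
      have hkw : Φ.u x (k w) = s • k w := by rw [← hkx, hw, map_smul]
      rw [hu0, smul_smul, div_mul_cancel₀ _ hc0, map_smul, hc w hw, he _ hkw hkw, smul_smul]))
  rwa [zero_add] at h

/-- The two permutations agree, or disagree in dimension four by anticommuting images. -/
theorem same_or_anti (hG : Φ.Full G) (hr : Φ.Roots) {x : A} (hx : x ≠ 0)
    (hsplit : ∀ a ≠ 0, Φ.Split G a) {k : V ≃ₗ[F] V} (hkG : pr F V k ∈ G)
    (hkx : ∀ v, k (Φ.u x v) = Φ.u x (k v)) {s : F} (hs0 : s ≠ 0) (hs : ∀ v, Φ.u x (Φ.u x v) = (s * s) • v)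
    {p q q' : A} (hp : p ∈ Φ.cen x) (hq : q ∈ Φ.cen x) (hq' : q' ∈ Φ.cen x) {c c' : F}
    (hc : ∀ v, Φ.u x v = s • v → k (Φ.u p v) = c • Φ.u q (k v))
    (hc' : ∀ v, Φ.u x v = -s • v → k (Φ.u p v) = c' • Φ.u q' (k v)) :
    q + q' ∈ AddSubgroup.zmultiples x ∨ (Φ.sg q q' = -1 ∧ Nat.card A < 64) := by
  by_contra hcon
  push Not at hcon
  obtain ⟨hqq, hsmall⟩ := hcon
  have hs' : ∀ v, Φ.u x (Φ.u x v) = (-s * -s) • v := by simpa using hs
  have hkb : ∀ {t : F} {v : V}, Φ.u x v = t • v → Φ.u x (k v) = t • k v := fun h => by rw [← hkx, h, map_smul]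
  have hp' : p ∉ AddSubgroup.zmultiples x := by
    intro hp'
    obtain ⟨c0, hc0, hu0⟩ := Φ.u_zero
    have aux : ∀ (t : F), t ≠ 0 → (∀ v, Φ.u x (Φ.u x v) = (t * t) • v) → ∀ (r : A) (d : F),
        (∀ v, Φ.u x v = t • v → k (Φ.u p v) = d • Φ.u r (k v)) → r ∈ AddSubgroup.zmultiples x := by
      intro t ht0 ht r d hd
      obtain ⟨e, he⟩ := Φ.u_joint (x := x) (a := x) (δ := p) (AddSubgroup.mem_sup_left hp') (s := t) (t := t)
      obtain ⟨v, hv0, hv⟩ := Φ.exists_eigen hx ht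
      have h := Φ.indep_block (S := AddSubgroup.zmultiples x) (fun w => Φ.u x w = t • w) (v := k v)
        (fun h => hv0 (k.map_eq_zero_iff.mp h)) (hkb hv)
        (fun p hp v hv => Φ.mem_eigen_u (Φ.mem_cen.mp hp) hv) (q := r) (r := 0) (c := d * c0 / e)
        (fun w hw => by
          obtain ⟨w', rfl⟩ := k.surjective w
          have hw' : Φ.u x w' = t • w' := k.injective (by rw [hkx, hw, map_smul])
          have h1 := hd w' hw'
          rw [he w' hw' hw', map_smul] at h1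
          rcases eq_or_ne e 0 with rfl | he0
          · obtain ⟨y, hy⟩ : ∃ y, y = Φ.u p v := ⟨_, rfl⟩
            rw [he v hv hv, zero_smul] at hy
            exact absurd hy.symm (fun h => hv0 ((Φ.u p).map_eq_zero_iff.mp (by rw [he v hv hv, zero_smul])))
          rw [hu0, mul_div_assoc, mul_comm d, ← smul_smul, ← h1, smul_smul, div_mul_cancel₀ _ he0])
      rwa [add_zero] at h
    exact hqq (add_mem (aux s hs0 hs q c hc) (aux (-s) (neg_ne_zero.mpr hs0) hs' q' c' hc'))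
  have hp0 : p ≠ 0 := fun e => hp' (e ▸ zero_mem _)
  have hqn : q ∉ AddSubgroup.zmultiples x := not_mem_of_perm hp' hp hx hkx hs hc
  have hqn' : q' ∉ AddSubgroup.zmultiples x := not_mem_of_perm hp' hp hx hkx hs' hc'
  have hxq : Φ.sg x q = 1 := Φ.mem_cen.mp hq
  have hxq' : Φ.sg x q' = 1 := Φ.mem_cen.mp hq'
  have hxp : Φ.sg x p = 1 := Φ.mem_cen.mp hp
  -- the two lifted transvections
  obtain ⟨t, ht, htG⟩ := hG.single p hp0
  obtain ⟨ζ, hζ0, hsqp, htv⟩ := ht.apply_sq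
  obtain ⟨t0, ht0, ht0G⟩ := hG.single q (fun e => hqn (e ▸ zero_mem _))
  obtain ⟨η, hη0, hsqq, ht0v⟩ := ht0.apply_sq
  have hcc : (ζ * c) * (ζ * c) = η * η := by
    obtain ⟨v, hv0, hv⟩ := Φ.exists_eigen hx hs
    have h1 := hc _ (Φ.mem_eigen_u hxp hv)
    rw [hc v hv, hsqp, map_smul, map_smul, hsqq, smul_smul, smul_smul] at h1
    have h2 := smul_left_injective F (fun h => hv0 (k.map_eq_zero_iff.mp h)) h1
    field_simp at h2
    linear_combination h2
  obtain ⟨α, β, n, hnG, hn, lam, hlam, hnum⟩ : ∃ (α β : F) (n : V ≃ₗ[F] V), pr F V n ∈ G ∧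
      (∀ v, n v = α • v + β • Φ.u q v) ∧ ∃ lam : F, lam ≠ 0 ∧ ∀ v, n (v + (ζ * c) • Φ.u q v) = lam • v := by
    have key : ∀ v, t0 (v + -η • Φ.u q v) = (2 : F) • v := fun v => by
      rw [ht0v, map_add, map_smul, hsqq, smul_add, smul_smul, smul_smul]
      have e : η * (-η * -(η * η)⁻¹) = 1 := by field_simp
      linear_combination (norm := module) e • v
    have key' : ∀ v, t0⁻¹ v = (2⁻¹ : F) • v + -(2⁻¹ * η) • Φ.u q v := fun v => t0.injective (by
      rw [show t0 (t0⁻¹ v) = v from t0.apply_symm_apply v,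
        show (2⁻¹ : F) • v + -(2⁻¹ * η) • Φ.u q v = (2⁻¹ : F) • (v + -η • Φ.u q v) by module, map_smul, key,
        inv_smul_smul₀ Φ.two])
    rcases mul_self_eq_mul_self_iff.mp hcc with e | e
    · refine ⟨2⁻¹, -(2⁻¹ * η), t0⁻¹, by rw [map_inv]; exact G.inv_mem ht0G, key', 1, one_ne_zero, fun v => ?_⟩
      rw [e, ← ht0v, one_smul]
      exact t0.symm_apply_apply v
    · exact ⟨1, η, t0, ht0G, fun v => by rw [one_smul]; exact ht0v v, 2, Φ.two, fun v => by rw [e]; exact key v⟩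
  have hnc : ∀ {y : A}, Φ.sg q y = 1 → ∀ v, n (Φ.u y v) = Φ.u y (n v) := fun {y} hy v => by
    rw [hn, hn, map_add, map_smul, map_smul, Φ.comm q y, hy, one_smul]
  have hktk : ∀ (r : A) (d : F) (tt : F), (∀ v, Φ.u x v = tt • v → k (Φ.u p v) = d • Φ.u r (k v)) →
      ∀ w, Φ.u x w = tt • w → (k * t * k⁻¹) w = w + (ζ * d) • Φ.u r w := fun r d tt hd w hw => by
    have e1 : k (k⁻¹ w) = w := k.apply_symm_apply w
    have e2 : Φ.u x (k⁻¹ w) = tt • k⁻¹ w := k.injective (by rw [hkx, e1, hw, map_smul, e1])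
    rw [LinearEquiv.mul_apply, LinearEquiv.mul_apply, htv, map_add, map_smul, e1, hd _ e2, e1, smul_smul]
  set h : V ≃ₗ[F] V := n * (k * t * k⁻¹) with hh
  have hhG : pr F V h ∈ G := by
    rw [hh, map_mul, map_mul, map_mul, map_inv]
    exact G.mul_mem hnG (G.mul_mem (G.mul_mem hkG htG) (G.inv_mem hkG))
  have hplus : ∀ w, Φ.u x w = s • w → h w = lam • w := fun w hw => by
    rw [hh, LinearEquiv.mul_apply, hktk q c s hc w hw, hnum]
  have hminus : ∀ w, Φ.u x w = -s • w → h w = n (w + (ζ * c') • Φ.u q' w) := fun w hw => by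
    rw [hh, LinearEquiv.mul_apply, hktk q' c' (-s) hc' w hw]
  -- the commuting index and the moved index
  obtain ⟨a, hax, haq, haq', hna, r, hrx, hra, hrq, hrq'⟩ : ∃ a, Φ.sg x a = 1 ∧ Φ.sg q a = 1 ∧ Φ.sg q' a = 1 ∧
      a ∉ AddSubgroup.zmultiples x ∧ ∃ r, Φ.sg x r = 1 ∧ Φ.sg a r = 1 ∧ Φ.sg q r = 1 ∧ Φ.sg q' r = -1 := by
    rcases Φ.sign q q' with hsg | hsg
    · refine ⟨q, hxq, Φ.sg_self q, by rw [Φ.sg_symm]; exact hsg, hqn, ?_⟩
      have hnot : q' ∉ Φ.perp (Φ.perp (AddSubgroup.zmultiples x ⊔ AddSubgroup.zmultiples q)) := by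
        rw [Φ.perp_perp]
        intro hm
        obtain ⟨y, hy, y', hy', e⟩ := AddSubgroup.mem_sup.mp hm
        rcases Φ.mem_zmultiples.mp hy' with rfl | rfl
        · exact hqn' (by rw [← e, add_zero]; exact hy)
        · exact hqq (by rw [← e, add_comm, Φ.add_self_cancel]; exact hy)
      rw [Φ.mem_perp] at hnot
      push Not at hnot
      obtain ⟨r, hr, hne⟩ := hnot
      obtain ⟨h1, h2⟩ := Φ.mem_perp_two.mp hr
      exact ⟨r, h1, h2, h2, Φ.sg_cases hne⟩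
    · obtain ⟨a, ha, hna⟩ : ∃ a ∈ Φ.perp (AddSubgroup.zmultiples x ⊔ AddSubgroup.zmultiples q) ⊓ Φ.cen q',
          a ∉ AddSubgroup.zmultiples x := by
        by_contra hh
        push Not at hh
        have h2 := (AddSubgroup.card_le_of_le (fun a ha => hh a ha : (Φ.perp (AddSubgroup.zmultiples x ⊔
          AddSubgroup.zmultiples q) ⊓ Φ.cen q' : AddSubgroup A) ≤ AddSubgroup.zmultiples x)).trans
          (Φ.card_zmultiples_le x)
        have h1 : Φ.perp (AddSubgroup.zmultiples x ⊔ AddSubgroup.zmultiples q ⊔ AddSubgroup.zmultiples q') ≤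
            Φ.perp (AddSubgroup.zmultiples x ⊔ AddSubgroup.zmultiples q) ⊓ Φ.cen q' := fun y hy =>
          ⟨fun z hz => hy z (AddSubgroup.mem_sup_left hz), fun z hz => hy z (AddSubgroup.mem_sup_right hz)⟩
        have h3 := Φ.card_perp (AddSubgroup.zmultiples x ⊔ AddSubgroup.zmultiples q ⊔ AddSubgroup.zmultiples q')
        have hsup : ∀ P Q : AddSubgroup A, Nat.card (P ⊔ Q : AddSubgroup A) ≤ Nat.card P * Nat.card Q := fun P Q => by
          refine (Nat.card_le_card_of_surjective (fun pq : P × Q => (⟨pq.1.1 + pq.2.1,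
            AddSubgroup.mem_sup.mpr ⟨_, pq.1.2, _, pq.2.2, rfl⟩⟩ : (P ⊔ Q : AddSubgroup A))) ?_).trans_eq
            (Nat.card_prod _ _)
          rintro ⟨y, hy⟩
          obtain ⟨y1, h1, y2, h2, rfl⟩ := AddSubgroup.mem_sup.mp hy
          exact ⟨(⟨y1, h1⟩, ⟨y2, h2⟩), rfl⟩
        have h4 := hsup (AddSubgroup.zmultiples x ⊔ AddSubgroup.zmultiples q) (AddSubgroup.zmultiples q')
        have h5 := hsup (AddSubgroup.zmultiples x) (AddSubgroup.zmultiples q)
        have h6 := Φ.card_zmultiples_le x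
        have h7 := Φ.card_zmultiples_le q
        have h8 := Φ.card_zmultiples_le q'
        have h9 := AddSubgroup.card_le_of_le h1
        have h10 := hsmall hsg
        have h11 : Nat.card (AddSubgroup.zmultiples x ⊔ AddSubgroup.zmultiples q ⊔ AddSubgroup.zmultiples q' :
            AddSubgroup A) ≤ 8 := h4.trans ((Nat.mul_le_mul (h5.trans (Nat.mul_le_mul h6 h7)) h8).trans le_rfl)
        nlinarith
      obtain ⟨ha1, ha2⟩ := ha
      obtain ⟨h1, h2⟩ := Φ.mem_perp_two.mp ha1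
      refine ⟨a, h1, h2, Φ.mem_cen.mp ha2, hna, q, hxq, ?_, Φ.sg_self q, ?_⟩
      · rw [Φ.sg_symm]; exact h2
      · rw [Φ.sg_symm]; exact hsg
  have ha0 : a ≠ 0 := fun e => hna (e ▸ zero_mem _)
  have hha : ∀ v, h (Φ.u a v) = Φ.u a (h v) := fun v => LinearMap.congr_fun (Φ.ext_eigen hs0 hs
    (f := h.toLinearMap ∘ₗ Φ.m a) (g := Φ.m a ∘ₗ h.toLinearMap) (fun w hw => by
      show h (Φ.u a w) = Φ.u a (h w)
      rw [hplus w hw, hplus _ (Φ.mem_eigen_u hax hw), map_smul]) (fun w hw => by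
      show h (Φ.u a w) = Φ.u a (h w)
      rw [hminus w hw, hminus _ (Φ.mem_eigen_u hax hw), ← hnc haq, map_add (Φ.u a), map_smul (Φ.u a),
        Φ.comm q' a, haq', one_smul])) v
  obtain ⟨t', ht'0, ht'⟩ := hr a
  obtain ⟨r'', -, e, hsp⟩ := hsplit a ha0 h hhG hha t' r (Φ.mem_cen.mpr hra)
  have hjoint : ∀ (b : F), ∀ p ∈ Φ.perp (AddSubgroup.zmultiples x ⊔ AddSubgroup.zmultiples a), ∀ v,
      (Φ.u x v = b • v ∧ Φ.u a v = t' • v) → (Φ.u x (Φ.u p v) = b • Φ.u p v ∧ Φ.u a (Φ.u p v) = t' • Φ.u p v) :=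
    fun b p hp v hv => by
      obtain ⟨h1, h2⟩ := Φ.mem_perp_two.mp hp
      exact ⟨Φ.mem_eigen_u h1 hv.1, Φ.mem_eigen_u h2 hv.2⟩
  have hax' : Φ.sg a x = 1 := by rw [Φ.sg_symm]; exact hax
  obtain ⟨v1, hv1, hv1x, hv1a⟩ := Φ.exists_joint hax' hna hx hs ht'
  have hδ : r'' + r ∈ AddSubgroup.zmultiples x ⊔ AddSubgroup.zmultiples a := by
    refine Φ.indep_block (fun v => Φ.u x v = s • v ∧ Φ.u a v = t' • v) hv1 ⟨hv1x, hv1a⟩ (hjoint s) (c := e)
      fun v hv => ?_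
    have h1 := hsp v hv.2
    rw [hplus v hv.1, hplus _ (Φ.mem_eigen_u hrx hv.1), map_smul, smul_comm e] at h1
    exact (smul_right_injective V hlam h1).symm
  obtain ⟨f, hf⟩ := Φ.u_joint hδ (s := -s) (t := t')
  obtain ⟨m, hm⟩ := Φ.mul r (r'' + r)
  obtain ⟨c0, hc00, hu0⟩ := Φ.u_zero
  obtain ⟨v2, hv2, hv2x, hv2a⟩ := Φ.exists_joint hax' hna hx hs' ht'
  set e' := e * (m⁻¹ * f) with he'
  have hres : ∀ v, (Φ.u x v = -s • v ∧ Φ.u a v = t' • v) →
      ((1 - e') / c0) • Φ.u 0 v + (-(ζ * c') * (1 + e')) • Φ.u q' v = (0 : F) • Φ.u 0 v := by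
    intro v hv
    have h1 := hsp v hv.2
    have hxh : Φ.u x (h v) = -s • h v ∧ Φ.u a (h v) = t' • h v := by
      refine ⟨?_, by rw [← hha, hv.2, map_smul]⟩
      rw [hminus v hv.1]
      have hw : Φ.u x (v + (ζ * c') • Φ.u q' v) = -s • (v + (ζ * c') • Φ.u q' v) := by
        rw [map_add, map_smul, Φ.mem_eigen_u hxq' hv.1, hv.1, smul_add, smul_comm (ζ * c')]
      rw [← hnc (by rw [Φ.sg_symm]; exact hxq), hw, map_smul]
    have hr'' : ∀ y, (Φ.u x y = -s • y ∧ Φ.u a y = t' • y) → Φ.u r'' y = (m⁻¹ * f) • Φ.u r y := fun y hy => by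
      rw [show r'' = r + (r'' + r) by rw [add_comm r'' r, ← add_assoc, Φ.elem, zero_add],
        ← inv_smul_smul₀ (Φ.mul_ne hm) (Φ.u (r + (r'' + r)) y), ← hm, hf y hy.1 hy.2, map_smul, smul_smul]
    rw [hminus _ (Φ.mem_eigen_u hrx hv.1), hr'' _ hxh, hminus v hv.1, smul_smul, ← he', ← hnc hrq,
      Φ.comm q' r, hrq', neg_one_smul, smul_neg, ← map_smul (Φ.u r), ← map_neg (Φ.u r), ← map_add (Φ.u r),
      ← map_smul n] at h1
    have h3 := n.injective h1
    rw [← map_smul (Φ.u r)] at h3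
    have h4 := (Φ.u r).injective h3
    rw [zero_smul, hu0, smul_smul, div_mul_cancel₀ _ hc00]
    linear_combination (norm := module) h4
  have h0 : (0 : A) + q' ∉ AddSubgroup.zmultiples x ⊔ AddSubgroup.zmultiples a := by
    rw [zero_add]
    intro hm'
    rw [← Φ.perp_perp (AddSubgroup.zmultiples x ⊔ AddSubgroup.zmultiples a)] at hm'
    have h1 := hm' r (Φ.mem_perp_two.mpr ⟨hrx, hra⟩)
    rw [hrq'] at h1
    exact Φ.one_ne_neg h1.symm
  have hne : ∀ y, Φ.u y v2 ≠ 0 := fun y h => hv2 ((Φ.u y).map_eq_zero_iff.mp h)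
  have hc'0 : ζ * c' ≠ 0 := by
    refine mul_ne_zero hζ0 ?_
    rintro rfl
    obtain ⟨v, hv0, hv⟩ := Φ.exists_eigen hx hs'
    exact hv0 ((Φ.u p).map_eq_zero_iff.mp (k.map_eq_zero_iff.mp (by rw [hc' v hv, zero_smul])))
  have h1 := hres v2 ⟨hv2x, hv2a⟩
  rcases Φ.two_term (fun v => Φ.u x v = -s • v ∧ Φ.u a v = t' • v) hv2 ⟨hv2x, hv2a⟩ (hjoint (-s)) h0 hres with
    h | h
  · simp only [h, zero_smul, zero_add, smul_eq_zero] at h1
    have h2 := (mul_eq_zero.mp (h1.resolve_right (hne q'))).resolve_left (neg_ne_zero.mpr hc'0)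
    rw [div_eq_zero_iff] at h
    exact Φ.two (by linear_combination (h.resolve_right hc00) + h2)
  · simp only [h, zero_smul, add_zero, smul_eq_zero] at h1
    have h2 := ((div_eq_zero_iff).mp (h1.resolve_right (hne 0))).resolve_right hc00
    have h3 := (mul_eq_zero.mp h).resolve_left (neg_ne_zero.mpr hc'0)
    exact Φ.two (by linear_combination h2 + h3)

theorem same_of_split (hG : Φ.Full G) (hr : Φ.Roots) (h64 : 64 ≤ Nat.card A) (hsplit : ∀ a ≠ 0, Φ.Split G a)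
    {x : A} (hx : x ≠ 0) : Φ.Same G x := by
  intro k hkG hkx s hs0 hs p hp q hq q' hq' c c' hc hc'
  rcases same_or_anti hG hr hx hsplit hkG hkx hs0 hs hp hq hq' hc hc' with h | h
  · exact h
  · omega

theorem normalises_of_split [Finite F] (hG : Φ.Full G) (hr : Φ.Roots) (h64 : 64 ≤ Nat.card A)
    (hsplit : ∀ a ≠ 0, Φ.Split G a) : G ≤ Φ.N :=
  finish hG (cent_of_split hG hr (by omega) hsplit fun _ hx => same_of_split hG hr h64 hsplit hx) (by omega)

end Data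

end Cfsg.Agent.Classical.Frame
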