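/-
In dimension four, two different permutations on the eigenspaces of a frame map give a controlled element of order
three.
-/
import Cfsg.Agent.Lib.Classical.Frame.SameSplit

set_option autoImplicit false
set_option linter.unusedSectionVars false

namespace Cfsg.Agent.Classical.Frame

open Module

universe u v w

variable {F : Type u} [Field F] {V : Type v} [AddCommGroup V] [Module F V] [FiniteDimensional F V]
  {A : Type w} [AddCommGroup A] [Finite A] (Φ : Data F V A)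

namespace Data

/-- An element of `G` trivial on one eigenspace of `u x` and `2⁻¹ (1 + a) (1 + b)` on the other, for two anticommuting
square roots of `-1` among the multiples of frame maps commuting with `u x`. -/
structure Ctrl (G : Subgroup (PG F V)) (x : A) (s : F) (h : V ≃ₗ[F] V) (a b : A) (α β : F) : Prop where
  mem : pr F V h ∈ G
  hxa : Φ.sg x a = 1
  hxb : Φ.sg x b = 1
  hab : Φ.sg a b = -1
  sqa : ∀ v, α • Φ.u a (α • Φ.u a v) = -v
  sqb : ∀ v, β • Φ.u b (β • Φ.u b v) = -v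
  plus : ∀ v, Φ.u x v = s • v → h v = v
  minus : ∀ v, Φ.u x v = -s • v → h v = (2⁻¹ : F) • (v + α • Φ.u a v + β • Φ.u b v + α • Φ.u a (β • Φ.u b v))

variable {Φ} {G : Subgroup (PG F V)}

theorem exists_ctrl (hG : Φ.Full G) {x : A} (hx : x ≠ 0) {k : V ≃ₗ[F] V} (hkG : pr F V k ∈ G)
    (hkx : ∀ v, k (Φ.u x v) = Φ.u x (k v)) {s : F} (hs : ∀ v, Φ.u x (Φ.u x v) = (s * s) • v)
    {p q q' : A} (hp : p ∈ Φ.cen x) (hq : q ∈ Φ.cen x) (hq' : q' ∈ Φ.cen x) (hqq : Φ.sg q q' = -1) {c c' : F}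
    (hc : ∀ v, Φ.u x v = s • v → k (Φ.u p v) = c • Φ.u q (k v))
    (hc' : ∀ v, Φ.u x v = -s • v → k (Φ.u p v) = c' • Φ.u q' (k v)) :
    ∃ (h : V ≃ₗ[F] V) (α β : F), Φ.Ctrl G x s h q q' α β := by
  have hs' : ∀ v, Φ.u x (Φ.u x v) = (-s * -s) • v := by simpa using hs
  have hq0 : q ≠ 0 := by
    rintro rfl
    rw [Φ.sg_symm, Φ.sg_zero] at hqq
    exact Φ.one_ne_neg hqq
  have hxq : Φ.sg x q = 1 := Φ.mem_cen.mp hq
  have hxq' : Φ.sg x q' = 1 := Φ.mem_cen.mp hq'
  have hxp : Φ.sg x p = 1 := Φ.mem_cen.mp hp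
  have hk1 : ∀ y, k (k⁻¹ y) = y := k.apply_symm_apply
  have hinv : ∀ {t : F} {w : V}, Φ.u x w = t • w → Φ.u x (k⁻¹ w) = t • k⁻¹ w := fun {t w} hw =>
    k.injective (by rw [hkx, hk1, hw, map_smul, hk1])
  obtain ⟨v0, hv0, hv0e⟩ := Φ.exists_eigen hx hs
  have hp0 : p ≠ 0 := by
    rintro rfl
    obtain ⟨c0, hc00, hu0⟩ := Φ.u_zero
    have hc0' : c ≠ 0 := by
      rintro rfl
      have e := hc v0 hv0e
      rw [hu0, map_smul, zero_smul] at e
      exact smul_ne_zero hc00 (fun e0 => hv0 (k.map_eq_zero_iff.mp e0)) e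
    have hsc : ∀ w, Φ.u x w = s • w → Φ.u q w = (c0 / c) • w := fun w hw => by
      have e := hc _ (hinv hw)
      rw [hu0, map_smul, hk1] at e
      rw [div_eq_inv_mul, mul_smul, e, inv_smul_smul₀ hc0']
    have h1 := hsc _ (Φ.mem_eigen_u hxq' hv0e)
    rw [Φ.comm q q', hqq, hsc v0 hv0e, map_smul, smul_smul] at h1
    have h2 := smul_left_injective F (fun e0 => hv0 ((Φ.u q').map_eq_zero_iff.mp e0)) h1
    exact mul_ne_zero Φ.two (div_ne_zero hc00 hc0') (by linear_combination -h2)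
  obtain ⟨t, ht, htG⟩ := hG.single p hp0
  obtain ⟨ζ, hζ0, hsqp, htv⟩ := ht.apply_sq
  obtain ⟨t0, ht0, ht0G⟩ := hG.single q hq0
  obtain ⟨η, hη0, hsqq, ht0v⟩ := ht0.apply_sq
  have hcc : (ζ * c) * (ζ * c) = η * η := by
    have h1 := hc _ (Φ.mem_eigen_u hxp hv0e)
    rw [hc v0 hv0e, hsqp, map_smul, map_smul, hsqq, smul_smul, smul_smul] at h1
    have h2 := smul_left_injective F (fun h => hv0 (k.map_eq_zero_iff.mp h)) h1
    field_simp at h2
    linear_combination h2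
  -- the second square root
  have hb : ∀ v, (ζ * c') • Φ.u q' ((ζ * c') • Φ.u q' v) = -v := by
    obtain ⟨w0, hw0, hw0e⟩ := Φ.exists_eigen hx hs'
    obtain ⟨d, -, hd⟩ := Φ.sq q'
    have h1 := hc' _ (Φ.mem_eigen_u hxp hw0e)
    rw [hc' w0 hw0e, hsqp, map_smul, map_smul, hd, smul_smul, smul_smul] at h1
    have h2 := smul_left_injective F (fun h => hw0 (k.map_eq_zero_iff.mp h)) h1
    intro v
    rw [map_smul, hd, smul_smul, smul_smul, ← neg_one_smul F v]
    congr 1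
    field_simp at h2
    linear_combination -h2
  have hktk : ∀ (r : A) (d : F) (tt : F), (∀ v, Φ.u x v = tt • v → k (Φ.u p v) = d • Φ.u r (k v)) →
      ∀ w, Φ.u x w = tt • w → (k * t * k⁻¹) w = w + (ζ * d) • Φ.u r w := fun r d tt hd w hw => by
    rw [LinearEquiv.mul_apply, LinearEquiv.mul_apply, htv, map_add, map_smul, hk1, hd _ (hinv hw), hk1, smul_smul]
  have hsqa : ∀ v, η • Φ.u q (η • Φ.u q v) = -v := fun v => by
    rw [map_smul, hsqq, smul_smul, smul_smul, ← neg_one_smul F v]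
    congr 1
    field_simp
  have key : ∀ v, t0 (v + -η • Φ.u q v) = (2 : F) • v := fun v => by
    rw [ht0v, map_add, map_smul, smul_add]
    have := hsqa v
    rw [map_smul, smul_smul] at this
    linear_combination (norm := module) -this
  have key' : ∀ v, t0⁻¹ v = (2⁻¹ : F) • v + -(2⁻¹ * η) • Φ.u q v := fun v => t0.injective (by
    rw [show t0 (t0⁻¹ v) = v from t0.apply_symm_apply v,
      show (2⁻¹ : F) • v + -(2⁻¹ * η) • Φ.u q v = (2⁻¹ : F) • (v + -η • Φ.u q v) by module, map_smul, key,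
      inv_smul_smul₀ Φ.two])
  have hG' : pr F V (k * t * k⁻¹) ∈ G := by
    rw [map_mul, map_mul, map_inv]
    exact G.mul_mem (G.mul_mem hkG htG) (G.inv_mem hkG)
  rcases mul_self_eq_mul_self_iff.mp hcc with e | e
  · refine ⟨t0⁻¹ * (k * t * k⁻¹), -η, ζ * c',
      ⟨by rw [map_mul, map_inv]; exact G.mul_mem (G.inv_mem ht0G) hG', hxq, hxq', hqq,
        fun v => by rw [map_smul, neg_smul, neg_smul, smul_neg, neg_neg, ← map_smul]; exact hsqa v, hb,
        fun v hv => ?_, fun v hv => ?_⟩⟩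
    · rw [LinearEquiv.mul_apply, hktk q c s hc v hv, e, ← ht0v]
      exact t0.symm_apply_apply v
    · rw [LinearEquiv.mul_apply, hktk q' c' (-s) hc' v hv, key', map_add, map_smul]
      module
  · let sc : V ≃ₗ[F] V := LinearEquiv.smulOfUnit (Units.mk0 (2⁻¹ : F) (inv_ne_zero Φ.two))
    have hsc : ∀ v, (sc * (t0 * (k * t * k⁻¹))) v = (2⁻¹ : F) • (t0 * (k * t * k⁻¹)) v := fun v => rfl
    have hmem : pr F V (sc * (t0 * (k * t * k⁻¹))) ∈ G := by
      rw [show pr F V (sc * (t0 * (k * t * k⁻¹))) = pr F V (t0 * (k * t * k⁻¹)) from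
        pr_eq_pr.mpr ⟨2, fun v => by rw [hsc, smul_inv_smul₀ Φ.two]⟩, map_mul]
      exact G.mul_mem ht0G hG'
    refine ⟨_, η, ζ * c', ⟨hmem, hxq, hxq', hqq, hsqa, hb, fun v hv => ?_, fun v hv => ?_⟩⟩
    · rw [hsc, LinearEquiv.mul_apply, hktk q c s hc v hv, e, key, inv_smul_smul₀ Φ.two]
    · rw [hsc, LinearEquiv.mul_apply, hktk q' c' (-s) hc' v hv, ht0v, map_add, map_smul]
      module

/-- The order three map, on the whole space. -/
noncomputable def cmap (Φ : Data F V A) (a b : A) (α β : F) : End F V :=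
  (2⁻¹ : F) • (1 + α • Φ.m a + β • Φ.m b + (α • Φ.m a) * (β • Φ.m b))

theorem cmap_apply (a b : A) (α β : F) (v : V) : cmap Φ a b α β v =
    (2⁻¹ : F) • (v + α • Φ.u a v + β • Φ.u b v + α • Φ.u a (β • Φ.u b v)) := rfl

variable {x a b : A} {s α β : F} {h : V ≃ₗ[F] V}

theorem Ctrl.cmap_quad (hC : Φ.Ctrl G x s h a b α β) (v : V) :
    cmap Φ a b α β (cmap Φ a b α β v) = cmap Φ a b α β v - v := by
  have ha : ∀ w, (α * α) • Φ.u a (Φ.u a w) = -w := fun w => by rw [mul_smul, ← map_smul]; exact hC.sqa w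
  have hb : ∀ w, (β * β) • Φ.u b (Φ.u b w) = -w := fun w => by rw [mul_smul, ← map_smul]; exact hC.sqb w
  have hba : ∀ w, Φ.u b (Φ.u a w) = -Φ.u a (Φ.u b w) := fun w => by
    rw [Φ.comm b a, Φ.sg_symm a b, hC.hab, neg_one_smul]
  obtain ⟨da, -, hda⟩ := Φ.sq a
  obtain ⟨db, -, hdb⟩ := Φ.sq b
  obtain ⟨v0, hv0⟩ := Φ.exists_ne
  have ea : α * α * da = -1 := smul_left_injective F hv0 (by
    show (α * α * da) • v0 = (-1 : F) • v0
    rw [mul_smul, ← hda, ha, neg_one_smul])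
  have eb : β * β * db = -1 := smul_left_injective F hv0 (by
    show (β * β * db) • v0 = (-1 : F) • v0
    rw [mul_smul, ← hdb, hb, neg_one_smul])
  have h2 : (2 : F)⁻¹ * 2 = 1 := inv_mul_cancel₀ Φ.two
  have eab : α * α * (β * β) * (da * db) = 1 := by linear_combination β * β * db * ea - eb
  simp only [cmap_apply, map_add, map_smul, map_neg, hda, hdb, hba, smul_smul, smul_add, smul_neg, neg_neg]
  match_scalars <;> grind

theorem Ctrl.commute_cmap (hC : Φ.Ctrl G x s h a b α β) {y : A} (hya : Φ.sg y a = 1) (hyb : Φ.sg y b = 1) (v : V) :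
    Φ.u y (cmap Φ a b α β v) = cmap Φ a b α β (Φ.u y v) := by
  simp only [cmap_apply, map_add, map_smul, Φ.comm y a, Φ.comm y b, hya, hyb, one_smul]

/-- On an eigenspace of `u x` the order three map is no scalar. -/
theorem Ctrl.not_scalar (hC : Φ.Ctrl G x s h a b α β) {t : F} {v : V} (hv0 : v ≠ 0) (hv : Φ.u x v = t • v) (d : F) :
    ∃ w, Φ.u x w = t • w ∧ cmap Φ a b α β w ≠ d • w := by
  by_contra hh
  push Not at hh
  obtain ⟨P, hPd⟩ : ∃ P : End F V, P = α • Φ.m a := ⟨_, rfl⟩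
  obtain ⟨Q, hQd⟩ : ∃ Q : End F V, Q = β • Φ.m b := ⟨_, rfl⟩
  have hPP : ∀ w, P (P w) = -w := fun w => by rw [hPd]; exact hC.sqa w
  have hQQ : ∀ w, Q (Q w) = -w := fun w => by rw [hQd]; exact hC.sqb w
  have hQP : ∀ w, Q (P w) = -P (Q w) := fun w => by
    rw [hPd, hQd]
    show β • Φ.u b (α • Φ.u a w) = -(α • Φ.u a (β • Φ.u b w))
    rw [map_smul, map_smul, Φ.comm b a, Φ.sg_symm a b, hC.hab, neg_one_smul, smul_neg, smul_neg, smul_comm]
  have hcm : ∀ w, cmap Φ a b α β w = (2⁻¹ : F) • (w + P w + Q w + P (Q w)) := fun w => by rw [hPd, hQd]; rfl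
  have hPx : Φ.u x (P v) = t • P v := by
    rw [hPd]
    show Φ.u x (α • Φ.u a v) = t • α • Φ.u a v
    rw [map_smul, Φ.mem_eigen_u hC.hxa hv, smul_comm]
  have e1 := congrArg P (hh v hv)
  have e2 := hh (P v) hPx
  rw [hcm, map_smul, map_smul, ← e2, hcm] at e1
  have e3 := smul_right_injective V (inv_ne_zero Φ.two) e1
  simp only [map_add, hPP, hQP, map_neg, neg_neg] at e3
  have e4 : (2 : F) • (P (Q v) - Q v) = 0 := by linear_combination (norm := module) e3
  have e5 := (smul_eq_zero.mp e4).resolve_left Φ.two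
  have e6 : (2 : F) • Q v = 0 := by
    have e7 := congrArg P e5
    rw [map_sub, hPP, map_zero] at e7
    linear_combination (norm := module) -e5 - e7
  have e8 := hQQ v
  rw [(smul_eq_zero.mp e6).resolve_left Φ.two, map_zero, eq_comm, neg_eq_zero] at e8
  exact hv0 e8

end Data

end Cfsg.Agent.Classical.Frame
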