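/-
The frame induced on an eigenspace of a frame map, and the group induced there.
-/
import Cfsg.Agent.Lib.Classical.Frame.SameSplit

set_option autoImplicit false
set_option linter.unusedSectionVars false

namespace Cfsg.Agent.Classical.Frame

open Module

universe u v w

variable {F : Type u} [Field F] {V : Type v} [AddCommGroup V] [Module F V] [FiniteDimensional F V]
  {A : Type w} [AddCommGroup A] [Finite A] (Φ : Data F V A)

namespace Data

/-- The eigenspace. -/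
def eig (x : A) (s : F) : Submodule F V := LinearMap.ker (Φ.m x - s • (1 : End F V))

theorem mem_eig {x : A} {s : F} {v : V} : v ∈ Φ.eig x s ↔ Φ.u x v = s • v := by
  simp [eig, Data.m, sub_eq_zero]

/-- A map leaving a subspace invariant, restricted to it. -/
noncomputable def restr {W : Submodule F V} (g : V ≃ₗ[F] V) (hg : ∀ v ∈ W, g v ∈ W) : W ≃ₗ[F] W :=
  LinearEquiv.ofInjectiveEndo (g.toLinearMap.restrict hg) fun a b h =>
    Subtype.ext (g.injective (congrArg Subtype.val h))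

theorem restr_apply {W : Submodule F V} (g : V ≃ₗ[F] V) (hg : ∀ v ∈ W, g v ∈ W) (v : W) :
    ((restr g hg v : W) : V) = g v := rfl

/-- The indices of the induced frame. -/
def rest (x z : A) : AddSubgroup A := Φ.perp (AddSubgroup.zmultiples x ⊔ AddSubgroup.zmultiples z)

variable {Φ}

theorem rest_cen {x z : A} (p : Φ.rest x z) : (p : A) ∈ Φ.cen x :=
  Φ.mem_cen.mpr (Φ.mem_perp_two.mp p.2).1

theorem u_mem_eig {x : A} {s : F} {p : A} (hp : p ∈ Φ.cen x) : ∀ v ∈ Φ.eig x s, Φ.u p v ∈ Φ.eig x s :=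
  fun _ hv => Φ.mem_eig.mpr (Φ.mem_eigen_u (Φ.mem_cen.mp hp) (Φ.mem_eig.mp hv))

theorem exists_rest {x z : A} (hxz : Φ.sg x z = -1) {q : A} (hq : q ∈ Φ.cen x) :
    ∃ p ∈ Φ.rest x z, q = p ∨ q = p + x := by
  rcases Φ.sign z q with h | h
  · exact ⟨q, Φ.mem_perp_two.mpr ⟨Φ.mem_cen.mp hq, h⟩, Or.inl rfl⟩
  · exact ⟨q + x, Φ.mem_perp_two.mpr ⟨Φ.mem_cen.mp ((Φ.cen x).add_mem hq (Φ.self_mem_cen x)),
      by rw [Φ.sg_add, h, Φ.sg_symm x z, hxz, neg_one_mul, neg_neg]⟩, Or.inr (Φ.add_self_cancel q x).symm⟩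

theorem card_rest {x z : A} (hxz : Φ.sg x z = -1) : 4 * Nat.card (Φ.rest x z) = Nat.card A := by
  have h := Φ.card_perp (AddSubgroup.zmultiples x ⊔ AddSubgroup.zmultiples z)
  suffices h4 : Nat.card (AddSubgroup.zmultiples x ⊔ AddSubgroup.zmultiples z : AddSubgroup A) = 4 by
    rwa [h4] at h
  have hx : x ≠ 0 := by
    rintro rfl
    rw [Φ.sg_symm, Φ.sg_zero] at hxz
    exact Φ.one_ne_neg hxz
  have hz : z ≠ 0 := by
    rintro rfl
    rw [Φ.sg_zero] at hxz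
    exact Φ.one_ne_neg hxz
  have hne : x ≠ z := by
    rintro rfl
    rw [Φ.sg_self] at hxz
    exact Φ.one_ne_neg hxz
  have h2 : ∀ y : A, y ≠ 0 → Nat.card (AddSubgroup.zmultiples y) = 2 := fun y hy => by
    rw [Nat.card_zmultiples]
    exact addOrderOf_eq_prime (by rw [two_nsmul, Φ.elem]) hy
  have e : (2 : ℕ) * 2 = Nat.card (AddSubgroup.zmultiples x × AddSubgroup.zmultiples z) := by
    rw [Nat.card_prod, h2 x hx, h2 z hz]
  refine Eq.trans ?_ e.symm
  refine (Nat.card_congr (Equiv.ofBijective (fun pq : AddSubgroup.zmultiples x × AddSubgroup.zmultiples z =>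
    (⟨pq.1.1 + pq.2.1, AddSubgroup.mem_sup.mpr ⟨_, pq.1.2, _, pq.2.2, rfl⟩⟩ :
      (AddSubgroup.zmultiples x ⊔ AddSubgroup.zmultiples z : AddSubgroup A))) ⟨?_, ?_⟩)).symm
  · rintro ⟨⟨a, ha⟩, ⟨b, hb⟩⟩ ⟨⟨a', ha'⟩, ⟨b', hb'⟩⟩ hh
    have hh' : a + b = a' + b' := congrArg Subtype.val hh
    have e1 : a + a' = b + b' := by
      refine Φ.eq_of_add_eq_zero ?_
      rw [show a + a' + (b + b') = (a + b) + (a' + b') by abel, hh', Φ.elem]
    have h0 : a + a' = 0 := by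
      rcases Φ.mem_zmultiples.mp ((AddSubgroup.zmultiples x).add_mem ha ha') with h | h
      · exact h
      · exfalso
        rcases Φ.mem_zmultiples.mp (e1 ▸ (AddSubgroup.zmultiples z).add_mem hb hb' : a + a' ∈ _) with h' | h'
        · exact hx (h.symm.trans h')
        · exact hne (h.symm.trans h')
    obtain rfl := Φ.eq_of_add_eq_zero h0
    obtain rfl := add_left_cancel hh'
    rfl
  · rintro ⟨y, hy⟩
    obtain ⟨y1, h1, y2, h2, rfl⟩ := AddSubgroup.mem_sup.mp hy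
    exact ⟨(⟨y1, h1⟩, ⟨y2, h2⟩), rfl⟩

theorem finrank_eig {x z : A} (hxz : Φ.sg x z = -1) {s : F} (hs0 : s ≠ 0)
    (hs : ∀ v, Φ.u x (Φ.u x v) = (s * s) • v) : 2 * finrank F (Φ.eig x s) = finrank F V := by
  have hc : IsCompl (Φ.eig x s) (Φ.eig x (-s)) := by
    refine ⟨Submodule.disjoint_def.mpr fun v h1 h2 => ?_, codisjoint_iff.mpr ?_⟩
    · rw [Φ.mem_eig] at h1 h2
      have h3 : (2 * s) • v = 0 := by linear_combination (norm := module) h2 - h1
      exact (smul_eq_zero.mp h3).resolve_left (mul_ne_zero Φ.two hs0)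
    · refine Submodule.eq_top_iff'.mpr fun v => ?_
      have h1 : (2 * s)⁻¹ • (Φ.u x v + s • v) ∈ Φ.eig x s := by
        rw [Φ.mem_eig, map_smul, map_add, map_smul, hs, smul_comm s, smul_add s, smul_smul s s, add_comm]
      have h2 : -(2 * s)⁻¹ • (Φ.u x v - s • v) ∈ Φ.eig x (-s) := by
        rw [Φ.mem_eig, map_smul, map_sub, map_smul, hs, smul_comm (-s)]
        congr 1
        module
      refine Submodule.mem_sup.mpr ⟨_, h1, _, h2, ?_⟩
      have e : (2 * s)⁻¹ * (2 * s) = 1 := inv_mul_cancel₀ (mul_ne_zero Φ.two hs0)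
      linear_combination (norm := module) e • v
  have h := Submodule.finrank_add_eq_of_isCompl hc
  have he : finrank F (Φ.eig x (-s)) = finrank F (Φ.eig x s) := by
    refine le_antisymm ?_ ?_
    · exact LinearMap.finrank_le_finrank_of_injective (f := ((Φ.u z).toLinearMap.domRestrict (Φ.eig x (-s))).codRestrict
        (Φ.eig x s) fun v => Φ.mem_eig.mpr (by
          show Φ.u x (Φ.u z v) = s • Φ.u z v
          rw [Φ.comm x z, hxz, Φ.mem_eig.mp v.2, map_smul, smul_smul, neg_one_mul, neg_neg]))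
        fun a b h => Subtype.ext ((Φ.u z).injective (congrArg Subtype.val h))
    · exact LinearMap.finrank_le_finrank_of_injective (f := ((Φ.u z).toLinearMap.domRestrict (Φ.eig x s)).codRestrict
        (Φ.eig x (-s)) fun v => Φ.mem_eig.mpr (by
          show Φ.u x (Φ.u z v) = -s • Φ.u z v
          rw [Φ.comm x z, hxz, Φ.mem_eig.mp v.2, map_smul, smul_smul, neg_one_mul]))
        fun a b h => Subtype.ext ((Φ.u z).injective (congrArg Subtype.val h))
  omega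

variable (Φ) in
/-- The frame induced on an eigenspace. -/
noncomputable def sub (x z : A) (hxz : Φ.sg x z = -1) (s : F) (hs0 : s ≠ 0)
    (hs : ∀ v, Φ.u x (Φ.u x v) = (s * s) • v) : Data F (Φ.eig x s) (Φ.rest x z) where
  u p := restr (Φ.u p) (u_mem_eig (rest_cen p))
  sg p q := Φ.sg p q
  two := Φ.two
  elem p := Subtype.ext (Φ.elem p)
  mul p q := by
    obtain ⟨c, hc⟩ := Φ.mul p q
    exact ⟨c, fun v => Subtype.ext (hc v)⟩
  sign p q := Φ.sign p q
  comm p q v := Subtype.ext (Φ.comm p q v)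
  nd p hp := by
    by_contra hh
    push Not at hh
    have h1 : (p : A) ∈ Φ.perp (Φ.rest x z) := fun q hq =>
      (Φ.sign p q).resolve_right (hh ⟨q, hq⟩)
    rw [show Φ.perp (Φ.rest x z) = _ from Φ.perp_perp _] at h1
    obtain ⟨y, hy, y', hy', e⟩ := AddSubgroup.mem_sup.mp h1
    obtain ⟨hp1, hp2⟩ := Φ.mem_perp_two.mp p.2
    apply hp
    apply Subtype.ext
    show (p : A) = 0
    rcases Φ.mem_zmultiples.mp hy with h | h <;> rcases Φ.mem_zmultiples.mp hy' with h' | h' <;>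
      rw [h, h'] at e <;> rw [← e] at hp1 hp2 ⊢
    · exact zero_add 0
    · rw [zero_add, hxz] at hp1; exact absurd hp1.symm Φ.one_ne_neg
    · rw [add_zero, Φ.sg_symm, hxz] at hp2; exact absurd hp2.symm Φ.one_ne_neg
    · rw [Φ.sg_add, Φ.sg_self, one_mul, hxz] at hp1; exact absurd hp1.symm Φ.one_ne_neg
  dim := by
    have h1 := finrank_eig hxz hs0 hs
    have h2 := card_rest hxz
    have h3 := Φ.dim
    rw [← h1, ← h2, mul_pow] at h3
    omega

theorem sub_u_apply {x z : A} (hxz : Φ.sg x z = -1) {s : F} (hs0 : s ≠ 0)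
    (hs : ∀ v, Φ.u x (Φ.u x v) = (s * s) • v) (p : Φ.rest x z) (v : Φ.eig x s) :
    (((Φ.sub x z hxz s hs0 hs).u p v : Φ.eig x s) : V) = Φ.u p v := rfl

variable (Φ) in
/-- The group induced on an eigenspace by the elements of `G` commuting with the frame map. -/
def induced (G : Subgroup (PG F V)) (x : A) (s : F) : Subgroup (PG F (Φ.eig x s)) where
  carrier := {g | ∃ (k : V ≃ₗ[F] V) (l : Φ.eig x s ≃ₗ[F] Φ.eig x s), pr F V k ∈ G ∧
    (∀ v, k (Φ.u x v) = Φ.u x (k v)) ∧ (∀ v : Φ.eig x s, (l v : V) = k v) ∧ pr F _ l = g}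
  one_mem' := ⟨1, 1, by rw [map_one]; exact G.one_mem, fun _ => rfl, fun _ => rfl, map_one _⟩
  mul_mem' := by
    rintro _ _ ⟨k, l, hk, hkx, hl, rfl⟩ ⟨k', l', hk', hkx', hl', rfl⟩
    refine ⟨k * k', l * l', by rw [map_mul]; exact G.mul_mem hk hk', fun v => ?_, fun v => ?_, map_mul _ _ _⟩
    · rw [LinearEquiv.mul_apply, hkx', hkx]; rfl
    · rw [LinearEquiv.mul_apply, LinearEquiv.mul_apply, hl, hl']
  inv_mem' := by
    rintro _ ⟨k, l, hk, hkx, hl, rfl⟩
    refine ⟨k⁻¹, l⁻¹, by rw [map_inv]; exact G.inv_mem hk, fun v => k.injective ?_, fun v => k.injective ?_,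
      map_inv _ _⟩
    · rw [hkx, show ∀ y, k (k⁻¹ y) = y from k.apply_symm_apply, show ∀ y, k (k⁻¹ y) = y from k.apply_symm_apply]
    · rw [← hl, show ∀ y, k (k⁻¹ y) = y from k.apply_symm_apply, show ∀ y, l (l⁻¹ y) = y from l.apply_symm_apply]

theorem induced_full {G : Subgroup (PG F V)} (hG : Φ.Full G) {x z : A} (hxz : Φ.sg x z = -1) {s : F}
    (hs0 : s ≠ 0) (hs : ∀ v, Φ.u x (Φ.u x v) = (s * s) • v) :
    (Φ.sub x z hxz s hs0 hs).Full (Φ.induced G x s) := by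
  refine ⟨?_, fun p hp => ?_⟩
  · rintro _ ⟨p, rfl⟩
    refine ⟨Φ.u p, (Φ.sub x z hxz s hs0 hs).u p, hG.le (Φ.e_mem p), fun v => ?_, fun v => rfl, rfl⟩
    rw [Φ.comm p x, Φ.sg_symm x p, Φ.mem_cen.mp (rest_cen p), one_smul]
  · obtain ⟨t, ht, htG⟩ := hG.single p (fun e => hp (Subtype.ext e))
    obtain ⟨ζ, h1, h2⟩ := id ht
    have hcom : ∀ v, t (Φ.u x v) = Φ.u x (t v) :=
      ht.comm (by rw [Φ.sg_symm]; exact Φ.mem_cen.mp (rest_cen p))
    have hinv : ∀ v ∈ Φ.eig x s, t v ∈ Φ.eig x s := fun v hv => by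
      rw [Φ.mem_eig] at hv ⊢
      rw [← hcom, hv, map_smul]
    exact ⟨restr t hinv, ⟨ζ, fun v => Subtype.ext (h1 v), fun v => Subtype.ext (h2 v)⟩,
      ⟨t, restr t hinv, htG, hcom, fun v => rfl, rfl⟩⟩

theorem split_of_induced {G : Subgroup (PG F V)} {x : A} (hx : x ≠ 0) (hr : Φ.Roots)
    (h : ∀ (z : A) (hxz : Φ.sg x z = -1) (s : F) (hs0 : s ≠ 0) (hs : ∀ v, Φ.u x (Φ.u x v) = (s * s) • v),
      Φ.induced G x s ≤ (Φ.sub x z hxz s hs0 hs).N) : Φ.Split G x := by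
  intro k hkG hkx s p hp
  obtain ⟨z, hxz⟩ := Φ.nd x hx
  by_cases hsx : ∃ v, v ≠ 0 ∧ Φ.u x v = s • v
  swap
  · push Not at hsx
    refine ⟨p, hp, 1, fun v hv => ?_⟩
    rcases eq_or_ne v 0 with rfl | hv0
    · simp
    · exact absurd hv (hsx v hv0)
  obtain ⟨s0, hs00, hs0'⟩ := hr x
  have hs : ∀ v, Φ.u x (Φ.u x v) = (s * s) • v := by
    obtain ⟨v, hv0, hv⟩ := hsx
    have e := hs0' v
    rw [hv, map_smul, hv, smul_smul] at e
    intro w
    rw [smul_left_injective F hv0 e]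
    exact hs0' w
  have hsne : s ≠ 0 := by
    rintro rfl
    obtain ⟨v, hv0, hv⟩ := hsx
    exact hv0 ((Φ.u x).map_eq_zero_iff.mp (by rw [hv, zero_smul]))
  have hinv : ∀ v ∈ Φ.eig x s, k v ∈ Φ.eig x s := fun v hv => by
    rw [Φ.mem_eig] at hv ⊢
    rw [← hkx, hv, map_smul]
  have hmem : pr F _ (restr k hinv) ∈ (Φ.sub x z hxz s hsne hs).N :=
    h z hxz s hsne hs ⟨k, restr k hinv, hkG, hkx, fun v => rfl, rfl⟩
  obtain ⟨p0, hp0, hpp⟩ := exists_rest hxz hp
  obtain ⟨q0, hq0⟩ := (Φ.sub x z hxz s hsne hs).conj_of_mem_N hmem ⟨p0, hp0⟩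
  obtain ⟨c, hc⟩ := pr_conj.mp hq0
  have hc' : ∀ v, Φ.u x v = s • v → k (Φ.u p0 v) = c • Φ.u q0 (k v) := fun v hv =>
    congrArg Subtype.val (hc ⟨v, Φ.mem_eig.mpr hv⟩)
  refine ⟨q0, rest_cen q0, ?_⟩
  rcases hpp with rfl | rfl
  · exact ⟨c, hc'⟩
  · obtain ⟨m, hm⟩ := Φ.mul p0 x
    refine ⟨m⁻¹ * s * c, fun v hv => ?_⟩
    rw [← inv_smul_smul₀ (Φ.mul_ne hm) (Φ.u (p0 + x) v), ← hm, map_smul, hv, map_smul, map_smul, hc' v hv,
      smul_smul, smul_smul, mul_assoc]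

end Data

end Cfsg.Agent.Classical.Frame
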