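/-
The zero form and hermitian forms over a quadratic extension of a prime field: transvections and the notion of a
group containing all of them.
-/
import Cfsg.Agent.Lib.Classical.Frame.Sub

set_option autoImplicit false
set_option linter.unusedSectionVars false

namespace Cfsg.Agent.Classical.Frame

open Module

universe u v w

variable {F : Type u} [Field F] {V : Type v} [AddCommGroup V] [Module F V] [FiniteDimensional F V]

/-- The zero form over a prime field, or a hermitian form over a quadratic extension of a prime field. -/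
structure Geom (F : Type u) [Field F] (V : Type v) [AddCommGroup V] [Module F V] where
  σ : F ≃+* F
  f : V → V → F
  add_left : ∀ v v' w, f (v + v') w = f v w + f v' w
  smul_left : ∀ (c : F) v w, f (c • v) w = c * f v w
  herm : ∀ v w, f w v = σ (f v w)
  invol : ∀ c, σ (σ c) = c
  kind : ((∀ v w, f v w = 0) ∧ ∀ c : F, ∃ n : ℕ, (n : F) = c) ∨
    ((∀ v, (∀ w, f v w = 0) → v = 0) ∧ (∃ c, σ c ≠ c) ∧ (∀ c, σ c = c → ∃ n : ℕ, (n : F) = c) ∧
      ∀ t, σ t = t → ∃ c, c * σ c = t)

namespace Geom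

variable (B : Geom F V)

/-- The form is zero. -/
def IsZero : Prop := (∀ v w, B.f v w = 0) ∧ ∀ c : F, ∃ n : ℕ, (n : F) = c

/-- The form is hermitian and nondegenerate. -/
def IsHerm : Prop :=
  (∀ v, (∀ w, B.f v w = 0) → v = 0) ∧ (∃ c, B.σ c ≠ c) ∧ (∀ c, B.σ c = c → ∃ n : ℕ, (n : F) = c) ∧
    ∀ t, B.σ t = t → ∃ c, c * B.σ c = t

theorem cases : B.IsZero ∨ B.IsHerm := B.kind

theorem add_right (v w w' : V) : B.f v (w + w') = B.f v w + B.f v w' := by
  rw [B.herm, B.add_left, map_add, ← B.herm, ← B.herm]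

theorem smul_right (c : F) (v w : V) : B.f v (c • w) = B.σ c * B.f v w := by
  rw [B.herm, B.smul_left, map_mul, ← B.herm]

theorem zero_left (w : V) : B.f 0 w = 0 := by rw [← zero_smul F (0 : V), B.smul_left, zero_mul]

theorem zero_right (v : V) : B.f v 0 = 0 := by rw [B.herm, B.zero_left, map_zero]

theorem sub_left (v v' w : V) : B.f (v - v') w = B.f v w - B.f v' w := by
  rw [sub_eq_add_neg, ← neg_one_smul F v', B.add_left, B.smul_left]; ring

theorem sub_right (v w w' : V) : B.f v (w - w') = B.f v w - B.f v w' := by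
  rw [sub_eq_add_neg, ← neg_one_smul F w', B.add_right, B.smul_right, map_neg, map_one]; ring

theorem norm_fixed (v : V) : B.σ (B.f v v) = B.f v v := (B.herm v v).symm

/-- An isometry. -/
def Isom (g : V ≃ₗ[F] V) : Prop := ∀ v w, B.f (g v) (g w) = B.f v w

theorem Isom.mul {g h : V ≃ₗ[F] V} (hg : B.Isom g) (hh : B.Isom h) : B.Isom (g * h) := fun v w => by
  rw [LinearEquiv.mul_apply, LinearEquiv.mul_apply, hg, hh]

theorem Isom.inv {g : V ≃ₗ[F] V} (hg : B.Isom g) : B.Isom g⁻¹ := fun v w => by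
  conv_rhs => rw [← show g (g⁻¹ v) = v from g.apply_symm_apply v, ← show g (g⁻¹ w) = w from g.apply_symm_apply w, hg]

theorem isom_of_zero (hB : B.IsZero) (g : V ≃ₗ[F] V) : B.Isom g := fun v w => by rw [hB.1, hB.1]

/-- `G` contains every isometric transvection. -/
def Big (G : Subgroup (PG F V)) : Prop :=
  ∀ (g : V ≃ₗ[F] V) (a : V) (φ : V →ₗ[F] F), (∀ v, g v = v + φ v • a) → φ a = 0 → B.Isom g → pr F V g ∈ G

/-- The transvection `v ↦ v + f v w • a` with the given functional is isometric. -/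
theorem isom_trans {g : V ≃ₗ[F] V} {a : V} {t : F} (hg : ∀ v, g v = v + (t * B.f v a) • a) (ha : B.f a a = 0)
    (ht : t + B.σ t = 0) : B.Isom g := fun v w => by
  rw [hg, hg, B.add_left, B.smul_left, B.add_right, B.smul_right, B.add_right, B.smul_right, ha, map_mul,
    ← B.herm w a]
  linear_combination (B.f v a * B.f a w) * ht

variable {B}

/-- The shape of an isometric transvection of a hermitian form. -/
theorem IsHerm.shape (hB : B.IsHerm) {g : V ≃ₗ[F] V} {a : V} {φ : V →ₗ[F] F} (hg : ∀ v, g v = v + φ v • a)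
    (hφa : φ a = 0) (hi : B.Isom g) (hne : φ ≠ 0) (ha : a ≠ 0) :
    B.f a a = 0 ∧ ∃ t, t + B.σ t = 0 ∧ ∀ v, φ v = t * B.f v a := by
  have h : ∀ v w, φ v * B.f a w + B.σ (φ w) * B.f v a + φ v * B.σ (φ w) * B.f a a = 0 := fun v w => by
    have e := hi v w
    rw [hg, hg, B.add_left, B.smul_left, B.add_right, B.smul_right, B.add_right, B.smul_right] at e
    linear_combination e
  obtain ⟨w0, hw0⟩ : ∃ w, φ w ≠ 0 := by
    by_contra hh
    push Not at hh
    exact hne (LinearMap.ext hh)
  have hσ : B.σ (φ w0) ≠ 0 := (map_ne_zero B.σ).mpr hw0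
  have haa : B.f a a = 0 := by
    have e := h a w0
    rw [hφa] at e
    exact (mul_eq_zero.mp (show B.σ (φ w0) * B.f a a = 0 by linear_combination e)).resolve_left hσ
  have h' : ∀ v, φ v * B.f a w0 = -B.σ (φ w0) * B.f v a := fun v => by
    have e := h v w0
    rw [haa] at e
    linear_combination e
  obtain ⟨w1, hw1⟩ : ∃ w, B.f a w ≠ 0 := by
    by_contra hh
    push Not at hh
    exact ha (hB.1 a hh)
  set t := -B.σ (φ w1) / B.f a w1 with ht
  have hv : ∀ v, φ v = t * B.f v a := fun v => by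
    have e := h v w1
    rw [haa] at e
    rw [ht, div_mul_eq_mul_div, eq_div_iff hw1]
    linear_combination e
  refine ⟨haa, t, ?_, hv⟩
  have e := h w1 w1
  rw [haa, hv w1, map_mul, ← B.herm w1 a, mul_zero, add_zero] at e
  have hw1' : B.f w1 a ≠ 0 := by rw [B.herm a w1]; exact (map_ne_zero B.σ).mpr hw1
  exact (mul_eq_zero.mp (show (t + B.σ t) * (B.f w1 a * B.f a w1) = 0 by linear_combination e)).resolve_right
    (mul_ne_zero hw1' hw1)

theorem IsHerm.exists_skew (hB : B.IsHerm) : ∃ θ : F, θ ≠ 0 ∧ θ + B.σ θ = 0 := by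
  obtain ⟨c, hc⟩ := hB.2.1
  exact ⟨c - B.σ c, sub_ne_zero.mpr (Ne.symm hc), by rw [map_sub, B.invol]; ring⟩

theorem IsHerm.skew_nsmul (hB : B.IsHerm) {t t' : F} (ht0 : t ≠ 0) (ht : t + B.σ t = 0) (ht' : t' + B.σ t' = 0) :
    ∃ n : ℕ, t' = n * t := by
  obtain ⟨n, hn⟩ := hB.2.2.1 (t' / t) (by
    rw [map_div₀, eq_neg_of_add_eq_zero_right ht, eq_neg_of_add_eq_zero_right ht', neg_div_neg_eq])
  exact ⟨n, by rw [hn, div_mul_cancel₀ _ ht0]⟩

theorem nondeg_restrict (hB : B.IsHerm) {v : V} (hv : v ≠ 0) : ∃ w, B.f v w ≠ 0 := by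
  by_contra hh
  push Not at hh
  exact hv (hB.1 v hh)

/-- A vector of any fixed norm pattern: an anisotropic vector exists. -/
theorem IsHerm.exists_aniso (hB : B.IsHerm) {v : V} (hv : v ≠ 0) : ∃ u, B.f u u ≠ 0 := by
  by_contra hh
  push Not at hh
  obtain ⟨w, hw⟩ := nondeg_restrict hB hv
  obtain ⟨c, hc⟩ := hB.2.1
  have key : ∀ e : F, e * B.f v w + B.σ (e * B.f v w) = 0 := fun e => by
    have h := hh (e • v + w)
    rw [B.add_left, B.add_right, B.add_right, B.smul_left, B.smul_left, B.smul_right, B.smul_right, hh v, hh w,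
      B.herm v w] at h
    rw [map_mul]
    linear_combination h
  have k1 := key (1 / B.f v w)
  rw [div_mul_cancel₀ _ hw, map_one] at k1
  have k2 := key (c / B.f v w)
  rw [div_mul_cancel₀ _ hw] at k2
  exact hc (by linear_combination k2 - c * k1)

variable (B)

/-- The restriction to a subspace on which the form is nondegenerate or zero. -/
def restrict (W : Submodule F V) (hW : B.IsHerm → ∀ v ∈ W, (∀ w ∈ W, B.f v w = 0) → v = 0) : Geom F W where
  σ := B.σ
  f v w := B.f v w
  add_left v v' w := B.add_left v v' w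
  smul_left c v w := B.smul_left c v w
  herm v w := B.herm v w
  invol := B.invol
  kind := by
    rcases B.cases with h | h
    · exact Or.inl ⟨fun v w => h.1 v w, h.2⟩
    · exact Or.inr ⟨fun v hv => Subtype.ext (hW h v v.2 fun w hw => hv ⟨w, hw⟩), h.2⟩

variable {A : Type w} [AddCommGroup A] [Finite A] {Φ : Data F V A}

/-- The frame maps are isometries with eigenvalues of norm one. -/
def Compat (Φ : Data F V A) : Prop :=
  ∀ a, B.Isom (Φ.u a) ∧ (B.IsHerm → ∀ s : F, (∀ v, Φ.u a (Φ.u a v) = (s * s) • v) → s * B.σ s = 1)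

variable {B}

theorem IsHerm.eig_orth (hB : B.IsHerm) (hC : B.Compat Φ) {x : A} {s : F}
    (hs : ∀ v, Φ.u x (Φ.u x v) = (s * s) • v) {v w : V}
    (hv : Φ.u x v = s • v) (hw : Φ.u x w = -s • w) : B.f v w = 0 := by
  have h := (hC x).1 v w
  have e := (hC x).2 hB s hs
  rw [hv, hw, B.smul_left, B.smul_right, map_neg] at h
  exact (mul_eq_zero.mp (show (2 : F) * B.f v w = 0 by linear_combination -h - B.f v w * e)).resolve_left Φ.two

end Geom

end Cfsg.Agent.Classical.Frame
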