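/-
Transvections of a prime-field space or of a hermitian space: a normalised set containing one contains all, and
the orbits on anisotropic vectors.
-/
import Cfsg.Agent.Lib.Classical.Frame.Geom

set_option autoImplicit false
set_option linter.unusedSectionVars false

namespace Cfsg.Agent.Classical.Frame

open Module

universe u v w

variable {F : Type u} [Field F] {V : Type v} [AddCommGroup V] [Module F V] [FiniteDimensional F V]

namespace Geom

variable {B : Geom F V}

theorem exists_ne_of_ne {x : V} (hx : x ≠ 0) : ∃ φ : V →ₗ[F] F, φ x = 1 := by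
  obtain ⟨φ, hφ⟩ := (LinearMap.toSpanSingleton F V x).exists_leftInverse_of_injective
    (LinearMap.ker_eq_bot.mpr (smul_left_injective F hx))
  exact ⟨φ, by simpa using LinearMap.congr_fun hφ 1⟩

/-- A functional with prescribed values on two independent vectors. -/
theorem exists_dual_two {x y : V} (hx : x ≠ 0) (hy : ∀ c : F, c • x ≠ y) (a b : F) :
    ∃ φ : V →ₗ[F] F, φ x = a ∧ φ y = b := by
  obtain ⟨χ, hχ⟩ := exists_ne_of_ne (F := F) hx
  obtain ⟨ξ, hξ⟩ := exists_ne_of_ne (F := F) (x := y - χ y • x) (sub_ne_zero.mpr fun e => hy (χ y) e.symm)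
  set π := (ξ : V →ₗ[F] F) - (ξ x) • χ with hπ
  have h1 : π x = 0 := by simp [hπ, hχ]
  have h2 : π y = 1 := by
    rw [map_sub, map_smul] at hξ
    simp only [hπ, LinearMap.sub_apply, LinearMap.smul_apply, smul_eq_mul] at hξ ⊢
    linear_combination hξ
  refine ⟨a • χ + (b - a * χ y) • π, ?_, ?_⟩
  · simp [hχ, h1]
  · simp [h2]

/-- The set of transvections in a subgroup, closed under conjugation by all transvections. -/
def Normed (B : Geom F V) (S : Subgroup (V ≃ₗ[F] V)) : Prop :=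
  ∀ (g : V ≃ₗ[F] V) (a : V) (φ : V →ₗ[F] F), (∀ v, g v = v + φ v • a) → φ a = 0 → B.Isom g →
    ∀ h ∈ S, g * h * g⁻¹ ∈ S

/-- The transvection of a vector and a functional killing it lies in `S`. -/
def Has (S : Subgroup (V ≃ₗ[F] V)) (a : V) (φ : V →ₗ[F] F) : Prop :=
  φ a = 0 ∧ ∃ g ∈ S, ∀ v, g v = v + φ v • a

theorem Has.mem {S : Subgroup (V ≃ₗ[F] V)} {a : V} {φ : V →ₗ[F] F} (h : Has S a φ) {g : V ≃ₗ[F] V}
    (hg : ∀ v, g v = v + φ v • a) : g ∈ S := by
  obtain ⟨-, g', hg', hg''⟩ := h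
  exact (LinearEquiv.ext fun v => by rw [hg, hg''] : g = g') ▸ hg'

theorem Has.add {S : Subgroup (V ≃ₗ[F] V)} {a : V} {φ ψ : V →ₗ[F] F} (h : Has S a φ) (h' : Has S a ψ) :
    Has S a (φ + ψ) := by
  obtain ⟨hφ, g, hg, hge⟩ := h
  obtain ⟨hψ, g', hg', hge'⟩ := h'
  refine ⟨by simp [hφ, hψ], g * g', S.mul_mem hg hg', fun v => ?_⟩
  rw [LinearEquiv.mul_apply, hge', hge, map_add, map_smul, hφ, smul_eq_mul, mul_zero, add_zero, LinearMap.add_apply,
    add_smul, add_assoc, add_comm (ψ v • a)]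

theorem Has.natMul {S : Subgroup (V ≃ₗ[F] V)} {a : V} {φ : V →ₗ[F] F} (h : Has S a φ) :
    ∀ n : ℕ, Has S a ((n : F) • φ)
  | 0 => ⟨by simp, 1, S.one_mem, fun v => by simp⟩
  | n + 1 => by
    have e : ((n + 1 : ℕ) : F) • φ = (n : F) • φ + φ := by rw [Nat.cast_succ, add_smul, one_smul]
    rw [e]
    exact (Has.natMul h n).add h

theorem Has.conj {S : Subgroup (V ≃ₗ[F] V)} (hS : B.Normed S) {a b : V} {φ ψ : V →ₗ[F] F} (h : Has S a φ)
    {σ : V ≃ₗ[F] V} (hσ : ∀ v, σ v = v + ψ v • b) (hb : ψ b = 0) (hi : B.Isom σ) :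
    Has S (a + ψ a • b) (φ - φ b • ψ) := by
  obtain ⟨hφ, g, hg, hge⟩ := h
  have hσi : ∀ v, σ⁻¹ v = v - ψ v • b := fun v => σ.injective (by
    rw [show σ (σ⁻¹ v) = v from σ.apply_symm_apply v, hσ, map_sub, map_smul, hb, smul_zero, sub_zero,
      sub_add_cancel])
  refine ⟨?_, σ * g * σ⁻¹, hS σ b ψ hσ hb hi g hg, fun v => ?_⟩
  · simp [hφ, hb]; ring
  · rw [LinearEquiv.mul_apply, LinearEquiv.mul_apply, hge, map_add, map_smul,
      show σ (σ⁻¹ v) = v from σ.apply_symm_apply v, hσ a, hσi]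
    simp [mul_comm]

/-- Over a prime field one transvection gives all. -/
theorem IsZero.has_all (hB : B.IsZero) {S : Subgroup (V ≃ₗ[F] V)} (hS : B.Normed S) {a0 : V} {φ0 : V →ₗ[F] F}
    (h0 : Has S a0 φ0) (ha0 : a0 ≠ 0) (hφ0 : φ0 ≠ 0) {a : V} {φ : V →ₗ[F] F} (hφa : φ a = 0) : Has S a φ := by
  have conj : ∀ {a b : V} {φ ψ : V →ₗ[F] F}, Has S a φ → ψ b = 0 → Has S (a + ψ a • b) (φ - φ b • ψ) :=
    fun {a b φ ψ} h hb => h.conj hS (σ := LinearEquiv.transvection hb) (fun v => rfl) hb (isom_of_zero B hB _)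
  have fix : ∀ {a : V} {φ : V →ₗ[F] F}, Has S a φ → φ ≠ 0 → a ≠ 0 → ∀ ψ : V →ₗ[F] F, ψ a = 0 → Has S a ψ := by
    intro a φ h hφ ha ψ hψ
    by_cases hs : ∃ c : F, c • φ = ψ
    · obtain ⟨c, rfl⟩ := hs
      obtain ⟨n, rfl⟩ := hB.2 c
      exact h.natMul n
    · push Not at hs
      obtain ⟨b, hb1, hb2⟩ : ∃ b, φ b = -1 ∧ ψ b = 0 := by
        have hnle : ¬ LinearMap.ker ψ ≤ LinearMap.ker φ := by
          intro hle
          have hm := mem_span_of_iInf_ker_le_ker (L := fun _ : Fin 1 => ψ) (K := φ)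
            (by rw [iInf_const]; exact hle)
          rw [Set.range_const, Submodule.mem_span_singleton] at hm
          obtain ⟨c, hc⟩ := hm
          rcases eq_or_ne c 0 with rfl | hc0
          · exact hφ (by rw [← hc, zero_smul])
          · exact hs c⁻¹ (by rw [← hc, inv_smul_smul₀ hc0])
        obtain ⟨b, hb, hb'⟩ := SetLike.not_le_iff_exists.mp hnle
        exact ⟨-(φ b)⁻¹ • b, by simp [show φ b ≠ 0 from hb'], by simp [show ψ b = 0 from hb]⟩
      have h1 := conj h hb2
      rw [hψ, zero_smul, add_zero, hb1] at h1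
      have h2 : Has S a ((φ - (-1 : F) • ψ) + (-1 : F) • φ) := by
        obtain ⟨n, hn⟩ := hB.2 (-1)
        exact h1.add (hn ▸ h.natMul n)
      rwa [show (φ - (-1 : F) • ψ) + (-1 : F) • φ = ψ by module] at h2
  rcases eq_or_ne a 0 with rfl | ha
  · exact ⟨by simp, 1, S.one_mem, fun v => by simp⟩
  by_cases hs : ∃ c : F, c • a0 = a
  · obtain ⟨c, rfl⟩ := hs
    have hc : c ≠ 0 := by rintro rfl; simp at ha
    rw [map_smul, smul_eq_mul, mul_eq_zero] at hφa
    obtain ⟨h1, g, hg, hge⟩ := fix h0 hφ0 ha0 (c • φ) (by simp [hφa.resolve_left hc])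
    exact ⟨by simp [hφa.resolve_left hc], g, hg, fun v => by rw [hge]; simp [mul_comm c, smul_smul]⟩
  push Not at hs
  obtain ⟨ψ, hψ0, hψa⟩ := exists_dual_two ha0 hs 1 1
  have h1 := conj h0 (show ψ (a - a0) = 0 by rw [map_sub, hψ0, hψa, sub_self])
  rw [hψ0, one_smul, add_sub_cancel] at h1
  refine fix h1 (fun e => hφ0 ?_) ha φ hφa
  have h2 := LinearMap.congr_fun e a0
  simp only [LinearMap.sub_apply, LinearMap.smul_apply, LinearMap.zero_apply, hψ0, smul_eq_mul, mul_one,
    h0.1, zero_sub, neg_eq_zero] at h2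
  rwa [h2, zero_smul, sub_zero] at e

/-- The hermitian transvection with centre `a` and parameter `t` lies in `S`. -/
def HasU (B : Geom F V) (S : Subgroup (V ≃ₗ[F] V)) (a : V) (t : F) : Prop :=
  ∃ g ∈ S, ∀ v, g v = v + (t * B.f v a) • a

/-- The functional of a hermitian transvection. -/
def uform (B : Geom F V) (a : V) (t : F) : V →ₗ[F] F where
  toFun v := t * B.f v a
  map_add' v w := by rw [B.add_left, mul_add]
  map_smul' c v := by rw [B.smul_left, RingHom.id_apply, smul_eq_mul]; ring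

theorem uform_self (B : Geom F V) {a : V} (t : F) (ha : B.f a a = 0) : B.uform a t a = 0 := by
  show t * B.f a a = 0
  rw [ha, mul_zero]

/-- The hermitian transvection. -/
noncomputable def utrans (B : Geom F V) (a : V) (t : F) (ha : B.f a a = 0) : V ≃ₗ[F] V :=
  LinearEquiv.transvection (uform_self B t ha)

theorem utrans_apply (B : Geom F V) (a : V) (t : F) (ha : B.f a a = 0) (v : V) :
    B.utrans a t ha v = v + (t * B.f v a) • a := rfl

theorem isom_utrans (B : Geom F V) {a : V} {t : F} (ha : B.f a a = 0) (ht : t + B.σ t = 0) :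
    B.Isom (B.utrans a t ha) := B.isom_trans (B.utrans_apply a t ha) ha ht

theorem HasU.smul {S : Subgroup (V ≃ₗ[F] V)} {a : V} {t : F} (c : F) (h : B.HasU S (c • a) t) :
    B.HasU S a (t * B.σ c * c) := by
  obtain ⟨g, hg, hge⟩ := h
  exact ⟨g, hg, fun v => by rw [hge, B.smul_right, smul_smul]; ring_nf⟩

theorem HasU.natMul {S : Subgroup (V ≃ₗ[F] V)} {a : V} {t : F} (ha : B.f a a = 0) (h : B.HasU S a t) :
    ∀ n : ℕ, B.HasU S a ((n : F) * t)
  | 0 => ⟨1, S.one_mem, fun v => by simp⟩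
  | n + 1 => by
    obtain ⟨g, hg, hge⟩ := HasU.natMul ha h n
    obtain ⟨g', hg', hge'⟩ := h
    refine ⟨g * g', S.mul_mem hg hg', fun v => ?_⟩
    rw [LinearEquiv.mul_apply, hge', hge, B.add_left, B.smul_left, ha, Nat.cast_succ]
    module

theorem IsHerm.hasU_all (hB : B.IsHerm) {S : Subgroup (V ≃ₗ[F] V)} {a : V} (ha : B.f a a = 0) {t : F}
    (ht0 : t ≠ 0) (ht : t + B.σ t = 0) (h : B.HasU S a t) {t' : F} (ht' : t' + B.σ t' = 0) : B.HasU S a t' := by
  obtain ⟨n, rfl⟩ := hB.skew_nsmul ht0 ht ht'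
  exact h.natMul ha n

theorem HasU.conj {S : Subgroup (V ≃ₗ[F] V)} (hS : B.Normed S) {a b : V} {t r : F} (h : B.HasU S a t)
    (hb : B.f b b = 0) (hr : r + B.σ r = 0) : B.HasU S (B.utrans b r hb a) t := by
  obtain ⟨g, hg, hge⟩ := h
  set σ := B.utrans b r hb with hσ
  have hi : B.Isom σ := B.isom_utrans hb hr
  refine ⟨σ * g * σ⁻¹, hS σ b (B.uform b r) (fun v => B.utrans_apply b r hb v) (uform_self B r hb) hi g hg,
    fun v => ?_⟩
  obtain ⟨w, rfl⟩ := σ.surjective v
  rw [LinearEquiv.mul_apply, LinearEquiv.mul_apply, show σ⁻¹ (σ w) = w from σ.symm_apply_apply w, hge, map_add,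
    map_smul, hi]

/-- In a hermitian space one transvection of a normalised subgroup gives all. -/
theorem IsHerm.hasU_of_one (hB : B.IsHerm) (h2 : (2 : F) ≠ 0) {S : Subgroup (V ≃ₗ[F] V)} (hS : B.Normed S) {a0 : V}
    {t0 : F} (ha0 : B.f a0 a0 = 0) (hne : a0 ≠ 0) (ht00 : t0 ≠ 0) (ht0 : t0 + B.σ t0 = 0) (h0 : B.HasU S a0 t0)
    {a : V} (ha : B.f a a = 0) {t : F} (ht : t + B.σ t = 0) : B.HasU S a t := by
  rcases eq_or_ne a 0 with rfl | han
  · exact ⟨1, S.one_mem, fun v => by simp⟩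
  have step : ∀ {a b : V}, B.f a a = 0 → B.f b b = 0 → B.f a b ≠ 0 → (∀ t, t + B.σ t = 0 → B.HasU S a t) →
      ∀ t, t + B.σ t = 0 → B.HasU S b t := by
    intro a b ha hb hab h t ht
    obtain ⟨c, hc⟩ := hB.2.1
    -- a multiple of `b` differing from `a` by an isotropic vector
    set l := B.σ ((c - B.σ c) / B.f a b) with hl
    have e : B.f a (l • b) = c - B.σ c := by
      rw [B.smul_right, hl, B.invol, div_mul_cancel₀ _ hab]
    have hd : B.f (a - l • b) (a - l • b) = 0 := by
      rw [B.sub_left, B.sub_right, B.sub_right, ha, e, B.herm a (l • b), e, B.smul_left, B.smul_right, hb,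
        map_sub, B.invol]
      ring
    have hr0 : B.f a (a - l • b) = -(c - B.σ c) := by rw [B.sub_right, ha, e, zero_sub]
    have hcne : c - B.σ c ≠ 0 := sub_ne_zero.mpr (Ne.symm hc)
    have hr : 1 / (c - B.σ c) + B.σ (1 / (c - B.σ c)) = 0 := by
      rw [map_div₀, map_one, map_sub, B.invol, ← neg_sub c (B.σ c), div_neg, add_neg_cancel]
    have hlb : B.utrans (a - l • b) (1 / (c - B.σ c)) hd a = l • b := by
      rw [B.utrans_apply, hr0, mul_neg, div_mul_cancel₀ _ hcne, neg_one_smul]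
      abel
    have h1 : ∀ t, t + B.σ t = 0 → B.HasU S (l • b) t := fun t ht => hlb ▸ (h t ht).conj hS hd hr
    have hl0 : l ≠ 0 := by
      rw [hl]
      exact (map_ne_zero B.σ).mpr (div_ne_zero hcne hab)
    have hll : B.σ l * l ≠ 0 := mul_ne_zero ((map_ne_zero B.σ).mpr hl0) hl0
    have h2 := (h1 (t / (B.σ l * l)) (by
      rw [map_div₀, map_mul, B.invol, mul_comm l, ← add_div, ht, zero_div])).smul l
    rwa [mul_assoc, div_mul_cancel₀ _ hll] at h2
  have base : ∀ t, t + B.σ t = 0 → B.HasU S a0 t := fun t ht => hB.hasU_all ha0 ht00 ht0 h0 ht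
  by_cases hab : B.f a0 a = 0
  swap
  · exact step ha0 ha hab base t ht
  -- an isotropic vector orthogonal to neither
  obtain ⟨w, hw1, hw2⟩ : ∃ w, B.f w a0 ≠ 0 ∧ B.f w a ≠ 0 := by
    obtain ⟨p, hp⟩ := nondeg_restrict hB hne
    obtain ⟨q, hq⟩ := nondeg_restrict hB han
    rw [B.herm p a0, map_ne_zero] at hp
    rw [B.herm q a, map_ne_zero] at hq
    by_cases e1 : B.f p a = 0
    · by_cases e2 : B.f q a0 = 0
      · exact ⟨p + q, by rw [B.add_left, e2, add_zero]; exact hp, by rw [B.add_left, e1, zero_add]; exact hq⟩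
      · exact ⟨q, e2, hq⟩
    · exact ⟨p, hp, e1⟩
  set μ := -B.f w w / (2 * B.f a0 w) with hμ
  have h0w : B.f a0 w ≠ 0 := by rw [B.herm w a0]; exact (map_ne_zero B.σ).mpr hw1
  have hb : B.f (w + μ • a0) (w + μ • a0) = 0 := by
    have h2w : (2 : F) * B.f a0 w ≠ 0 := mul_ne_zero h2 h0w
    have e2 : B.σ μ * B.f w a0 = -B.f w w / 2 := by
      have h3 : (2 : F) * B.f w a0 ≠ 0 := mul_ne_zero h2 hw1
      rw [hμ, map_div₀, map_neg, B.norm_fixed, map_mul, map_ofNat, ← B.herm a0 w]
      field_simp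
    have e3 : μ * B.f a0 w = -B.f w w / 2 := by rw [hμ]; field_simp
    rw [B.add_left, B.add_right, B.add_right, B.smul_left, B.smul_left, B.smul_right, B.smul_right, ha0, e2, e3]
    field_simp
    ring
  have h1 : B.f a0 (w + μ • a0) ≠ 0 := by rw [B.add_right, B.smul_right, ha0, mul_zero, add_zero]; exact h0w
  have h3 : B.f (w + μ • a0) a ≠ 0 := by rw [B.add_left, B.smul_left, hab, mul_zero, add_zero]; exact hw2
  exact step hb ha h3 (step ha0 hb h1 base) t ht

/-- Two vectors of equal nonzero norm in a hyperbolic plane are joined by transvections of the plane. -/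
theorem IsHerm.plane_orbit (hB : B.IsHerm) (h2 : (2 : F) ≠ 0) (T : Subgroup (V ≃ₗ[F] V))
    (hT : ∀ (a : V) (t : F) (ha : B.f a a = 0), t + B.σ t = 0 → B.utrans a t ha ∈ T)
    {u u' : V} {n : F} (hn : n ≠ 0) (hu : B.f u u = n) (hu' : B.f u' u' = n)
    (hm : B.f (u' - (B.f u' u / n) • u) (u' - (B.f u' u / n) • u) ≠ 0) : ∃ g ∈ T, g u = u' := by
  have hσn : B.σ n = n := by rw [← hu]; exact B.norm_fixed u
  obtain ⟨w, hwd⟩ : ∃ z, z = u' - (B.f u' u / n) • u := ⟨_, rfl⟩
  rw [← hwd] at hm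
  obtain ⟨m, hmd⟩ : ∃ z, z = B.f w w := ⟨_, rfl⟩
  rw [← hmd] at hm
  have hwu : B.f w u = 0 := by rw [hwd, B.sub_left, B.smul_left, hu, div_mul_cancel₀ _ hn, sub_self]
  have huw : B.f u w = 0 := by rw [B.herm w u, hwu, map_zero]
  obtain ⟨l, hl⟩ := hB.2.2.2 (-m / n) (by rw [map_div₀, map_neg, hσn, hmd, B.norm_fixed])
  have hl0 : l ≠ 0 := by
    rintro rfl
    rw [zero_mul, eq_comm, div_eq_zero_iff] at hl
    exact hl.elim (fun h => hm (neg_eq_zero.mp h)) hn
  have hlln : l * B.σ l * n = -m := by rw [hl, div_mul_cancel₀ _ hn]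
  obtain ⟨θ, hθ0, hθ⟩ := hB.exists_skew
  obtain ⟨e1, he1⟩ : ∃ z, z = w + l • u := ⟨_, rfl⟩
  obtain ⟨e2, he2⟩ : ∃ z, z = (θ / (2 * m)) • (w - l • u) := ⟨_, rfl⟩
  have h11 : B.f e1 e1 = 0 := by
    rw [he1, B.add_left, B.add_right, B.add_right, B.smul_left, B.smul_left, B.smul_right, B.smul_right, hwu, huw,
      hu, ← hmd]
    linear_combination hlln
  have h22 : B.f e2 e2 = 0 := by
    rw [he2, B.smul_left, B.smul_right, B.sub_left, B.sub_right, B.sub_right, B.smul_left, B.smul_left, B.smul_right,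
      B.smul_right, hwu, huw, hu, ← hmd]
    linear_combination θ / (2 * m) * B.σ (θ / (2 * m)) * hlln
  have h2m : (2 : F) * m ≠ 0 := mul_ne_zero h2 hm
  have h21 : B.f e2 e1 = θ := by
    rw [he2, he1, B.smul_left, B.sub_left, B.add_right, B.add_right, B.smul_left, B.smul_left, B.smul_right,
      B.smul_right, hwu, huw, hu, ← hmd]
    have e : θ / (2 * m) * (2 * m) = θ := div_mul_cancel₀ _ h2m
    linear_combination e - θ / (2 * m) * hlln
  have h12 : B.f e1 e2 = -θ := by rw [B.herm e2 e1, h21]; linear_combination hθ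
  have hθi : (1 / θ : F) + B.σ (1 / θ) = 0 := by
    rw [map_div₀, map_one, eq_neg_of_add_eq_zero_right hθ, div_neg, add_neg_cancel]
  -- elementary operations
  have lo : ∀ (k α β : F), B.σ k = k → ∃ g ∈ T, g (α • e1 + β • e2) = (α + k * β) • e1 + β • e2 := by
    intro k α β hk
    refine ⟨B.utrans e1 (k * (1 / θ)) h11, hT _ _ h11 (by rw [map_mul, hk]; linear_combination k * hθi), ?_⟩
    rw [B.utrans_apply, B.add_left, B.smul_left, B.smul_left, h11, h21,
      show k * (1 / θ) * (α * 0 + β * θ) = k * β by field_simp; ring]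
    module
  have up : ∀ (k α β : F), B.σ k = k → ∃ g ∈ T, g (α • e1 + β • e2) = α • e1 + (β + k * α) • e2 := by
    intro k α β hk
    refine ⟨B.utrans e2 (-k * (1 / θ)) h22,
      hT _ _ h22 (by rw [map_mul, map_neg, hk]; linear_combination -k * hθi), ?_⟩
    rw [B.utrans_apply, B.add_left, B.smul_left, B.smul_left, h22, h12,
      show -k * (1 / θ) * (α * -θ + β * 0) = k * α by field_simp; ring]
    module
  -- coordinates
  have hcoord : ∀ a b : F, ∃ α β, a • u + b • w = α • e1 + β • e2 := fun a b => by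
    refine ⟨(b + a / l) / 2, (b - a / l) / 2 * (2 * m / θ), ?_⟩
    have d1 : θ / (2 * m) * (2 * m / θ) = 1 := by field_simp
    have d2 : a / l * l = a := div_mul_cancel₀ _ hl0
    have d3 : (2 : F)⁻¹ * 2 = 1 := inv_mul_cancel₀ h2
    rw [he1, he2, smul_smul, show (b - a / l) / 2 * (2 * m / θ) * (θ / (2 * m)) = (b - a / l) / 2 by
      rw [mul_assoc, mul_comm (2 * m / θ), d1, mul_one]]
    match_scalars <;> field_simp <;> ring
  obtain ⟨α, β, huc⟩ := hcoord 1 0
  obtain ⟨α', β', huc'⟩ := hcoord (B.f u' u / n) 1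
  rw [one_smul, zero_smul, add_zero] at huc
  rw [one_smul, show (B.f u' u / n) • u + w = u' by rw [hwd]; abel] at huc'
  have norm : ∀ a b : F, B.f (a • e1 + b • e2) (a • e1 + b • e2) = θ * (b * B.σ a - a * B.σ b) := fun a b => by
    rw [B.add_left, B.add_right, B.add_right, B.smul_left, B.smul_left, B.smul_left, B.smul_left, B.smul_right,
      B.smul_right, B.smul_right, B.smul_right, h11, h22, h12, h21]
    ring
  obtain ⟨D, hD⟩ : ∃ z, z = β * B.σ α - α * B.σ β := ⟨_, rfl⟩
  have hDn : θ * D = n := by rw [hD, ← norm, ← huc, hu]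
  have hD0 : D ≠ 0 := fun e => hn (by rw [← hDn, e, mul_zero])
  have hD' : β' * B.σ α' - α' * B.σ β' = D := by
    refine mul_left_cancel₀ hθ0 ?_
    rw [← norm, ← huc', hu', hDn]
  have hσD : B.σ D = -D := by rw [hD, map_sub, map_mul, map_mul, B.invol, B.invol]; ring
  -- the matrix carrying `(α, β)` to `(α', β')`
  obtain ⟨a, hadef⟩ : ∃ z, z = (β * B.σ α' - α' * B.σ β) / D := ⟨_, rfl⟩
  obtain ⟨b, hbdef⟩ : ∃ z, z = (α' * B.σ α - α * B.σ α') / D := ⟨_, rfl⟩
  obtain ⟨c, hcdef⟩ : ∃ z, z = (β * B.σ β' - β' * B.σ β) / D := ⟨_, rfl⟩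
  obtain ⟨d, hddef⟩ : ∃ z, z = (β' * B.σ α - α * B.σ β') / D := ⟨_, rfl⟩
  have hreal : ∀ p q : F, B.σ ((p * B.σ q - q * B.σ p) / D) = (p * B.σ q - q * B.σ p) / D := fun p q => by
    rw [map_div₀, hσD, map_sub, map_mul, map_mul, B.invol, B.invol, div_eq_div_iff (neg_ne_zero.mpr hD0) hD0]
    ring
  have e1' : α' = a * α + b * β := by rw [hadef, hbdef]; field_simp; rw [hD]; ring
  have e2' : β' = c * α + d * β := by rw [hcdef, hddef]; field_simp; rw [hD]; ring
  have edet : a * d - b * c = 1 := by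
    rw [hadef, hbdef, hcdef, hddef]
    field_simp
    have h := hD'
    rw [hD] at h ⊢
    linear_combination (β * B.σ α - α * B.σ β) * h
  have main : ∀ (α β : F) (a b c d : F), B.σ a = a → B.σ c = c → B.σ d = d → a * d - b * c = 1 → c ≠ 0 →
      ∃ g ∈ T, g (α • e1 + β • e2) = (a * α + b * β) • e1 + (c * α + d * β) • e2 := by
    intro α β a b c d ha hc hd hdet hc0
    obtain ⟨g1, hg1, hg1e⟩ := lo ((d - 1) / c) α β (by rw [map_div₀, map_sub, hd, map_one, hc])
    obtain ⟨g2, hg2, hg2e⟩ := up c (α + (d - 1) / c * β) β hc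
    obtain ⟨g3, hg3, hg3e⟩ := lo ((a - 1) / c) (α + (d - 1) / c * β) (β + c * (α + (d - 1) / c * β))
      (by rw [map_div₀, map_sub, ha, map_one, hc])
    refine ⟨g3 * (g2 * g1), T.mul_mem hg3 (T.mul_mem hg2 hg1), ?_⟩
    rw [LinearEquiv.mul_apply, LinearEquiv.mul_apply, hg1e, hg2e, hg3e]
    congr 2
    · field_simp
      linear_combination β * hdet
    · field_simp
      ring
  rw [huc, huc', e1', e2']
  by_cases hc0 : c = 0
  · obtain ⟨g0, hg0, hg0e⟩ := up 1 α β (map_one _)
    obtain ⟨g, hg, hge⟩ := main α (β + 1 * α) (a - b) b (c - d) d (by rw [map_sub, hadef, hbdef, hreal, hreal]) (by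
      rw [map_sub, hcdef, hddef, hreal, hreal]) (by first | (rw [hadef]; exact hreal _ _) | (rw [hcdef]; exact hreal _ _) | (rw [hddef]; exact hreal _ _)) (by linear_combination edet) (by
      rw [hc0, zero_sub, neg_ne_zero]
      intro hd0
      rw [hd0, hc0] at edet
      simp at edet)
    refine ⟨g * g0, T.mul_mem hg hg0, ?_⟩
    rw [LinearEquiv.mul_apply, hg0e, hge]
    congr 2 <;> ring
  · exact main α β a b c d (by first | (rw [hadef]; exact hreal _ _) | (rw [hcdef]; exact hreal _ _) | (rw [hddef]; exact hreal _ _)) (by first | (rw [hadef]; exact hreal _ _) | (rw [hcdef]; exact hreal _ _) | (rw [hddef]; exact hreal _ _)) (by first | (rw [hadef]; exact hreal _ _) | (rw [hcdef]; exact hreal _ _) | (rw [hddef]; exact hreal _ _)) edet hc0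

theorem IsHerm.zero_of_isotropic (hB : B.IsHerm) (P : Submodule F V) (h : ∀ v ∈ P, B.f v v = 0) {v w : V}
    (hv : v ∈ P) (hw : w ∈ P) : B.f v w = 0 := by
  by_contra hne
  obtain ⟨c, hc⟩ := hB.2.1
  have key : ∀ e : F, e * B.f v w + B.σ (e * B.f v w) = 0 := fun e => by
    have e0 := h _ (P.add_mem (P.smul_mem e hv) hw)
    rw [B.add_left, B.add_right, B.add_right, B.smul_left, B.smul_left, B.smul_right, B.smul_right, h v hv, h w hw,
      B.herm v w] at e0
    rw [map_mul]
    linear_combination e0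
  have k1 := key (1 / B.f v w)
  rw [div_mul_cancel₀ _ hne, map_one] at k1
  have k2 := key (c / B.f v w)
  rw [div_mul_cancel₀ _ hne] at k2
  exact hc (by linear_combination k2 - c * k1)

/-- Transvections are transitive on the vectors of a given nonzero norm. -/
theorem IsHerm.norm_orbit (hB : B.IsHerm) (h2 : (2 : F) ≠ 0) (hdim : finrank F V = 2 ∨ 4 ≤ finrank F V)
    (T : Subgroup (V ≃ₗ[F] V)) (hT : ∀ (a : V) (t : F) (ha : B.f a a = 0), t + B.σ t = 0 → B.utrans a t ha ∈ T)
    {u u' : V} {n : F} (hn : n ≠ 0) (hu : B.f u u = n) (hu' : B.f u' u' = n) : ∃ g ∈ T, g u = u' := by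
  have hσn : B.σ n = n := by rw [← hu]; exact B.norm_fixed u
  by_cases hm : B.f (u' - (B.f u' u / n) • u) (u' - (B.f u' u / n) • u) ≠ 0
  · exact hB.plane_orbit h2 T hT hn hu hu' hm
  push Not at hm
  set c := B.f u' u / n with hc
  set r := u' - c • u with hrd
  have hru : B.f r u = 0 := by rw [hrd, B.sub_left, B.smul_left, hu, hc, div_mul_cancel₀ _ hn, sub_self]
  have hur : B.f u r = 0 := by rw [B.herm r u, hru, map_zero]
  -- an anisotropic vector orthogonal to both
  obtain ⟨y, hy, hyu, hyr⟩ : ∃ y, B.f y y ≠ 0 ∧ B.f y u = 0 ∧ B.f y r = 0 := by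
    by_contra hno
    push Not at hno
    let K : Submodule F V := LinearMap.ker
      ({ toFun := fun z => (B.f z u, B.f z r)
         map_add' := fun z z' => by simp [B.add_left]
         map_smul' := fun e z => by simp [B.smul_left] } : V →ₗ[F] F × F)
    have hK : ∀ z, z ∈ K ↔ B.f z u = 0 ∧ B.f z r = 0 := fun z => by simp [K, LinearMap.mem_ker]
    have hiso : ∀ z ∈ K, B.f z z = 0 := fun z hz => by
      by_contra hzz
      exact hno z hzz ((hK z).mp hz).1 ((hK z).mp hz).2
    rcases eq_or_ne r 0 with hr0 | hr0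
    · -- the orthogonal of `u` would be totally isotropic
      obtain ⟨z, hzK, hz0⟩ : ∃ z ∈ K, z ≠ 0 := by
        by_contra h
        push Not at h
        have h1 : Submodule.span F {u} = (⊤ : Submodule F V) := by
          refine Submodule.eq_top_iff'.mpr fun z => Submodule.mem_span_singleton.mpr ⟨B.f z u / n, ?_⟩
          have := h (z - (B.f z u / n) • u) ((hK _).mpr ⟨by
            rw [B.sub_left, B.smul_left, hu, div_mul_cancel₀ _ hn, sub_self], by rw [hr0, B.zero_right]⟩)
          exact (sub_eq_zero.mp this).symm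
        have h2 := finrank_span_singleton (K := F) (show u ≠ 0 by
          rintro rfl; rw [B.zero_left] at hu; exact hn hu.symm)
        rw [h1, finrank_top] at h2
        omega
      obtain ⟨w, hw⟩ := nondeg_restrict hB hz0
      have hwK : w - (B.f w u / n) • u ∈ K := (hK _).mpr ⟨by
        rw [B.sub_left, B.smul_left, hu, div_mul_cancel₀ _ hn, sub_self], by rw [hr0, B.zero_right]⟩
      have h0 := hB.zero_of_isotropic K hiso hzK hwK
      rw [B.sub_right, B.smul_right, ((hK z).mp hzK).1, mul_zero, sub_zero] at h0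
      exact hw h0
    · have hrK : r ∈ K := (hK r).mpr ⟨hru, hm⟩
      obtain ⟨w0, hw0⟩ := nondeg_restrict hB hr0
      set w := w0 - (B.f w0 u / n) • u with hw
      have hwu : B.f w u = 0 := by rw [hw, B.sub_left, B.smul_left, hu, div_mul_cancel₀ _ hn, sub_self]
      have hrw : B.f r w ≠ 0 := by rw [hw, B.sub_right, B.smul_right, hru, mul_zero, sub_zero]; exact hw0
      have hwr : B.f w r ≠ 0 := by rw [B.herm r w]; exact (map_ne_zero B.σ).mpr hrw
      have key : ∀ z ∈ K, z = (B.f z w / B.f r w) • r := by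
        intro z hz
        refine sub_eq_zero.mp (hB.1 _ fun y => ?_)
        have hzK : z - (B.f z w / B.f r w) • r ∈ K := K.sub_mem hz (K.smul_mem _ hrK)
        obtain ⟨hzu, hzr⟩ := (hK _).mp hzK
        have hzw : B.f (z - (B.f z w / B.f r w) • r) w = 0 := by
          rw [B.sub_left, B.smul_left, div_mul_cancel₀ _ hrw, sub_self]
        have hy1 : y - (B.f y u / n) • u - ((B.f y r) / B.f w r) • w ∈ K := (hK _).mpr ⟨by
          rw [B.sub_left, B.sub_left, B.smul_left, B.smul_left, hu, hwu, div_mul_cancel₀ _ hn]; ring, by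
          rw [B.sub_left, B.sub_left, B.smul_left, B.smul_left, hur, div_mul_cancel₀ _ hwr]; ring⟩
        have h0 := hB.zero_of_isotropic K hiso hzK hy1
        rw [B.sub_right, B.sub_right, B.smul_right, B.smul_right, hzu, hzw] at h0
        linear_combination h0
      have h1 : Submodule.span F (Set.range ![u, r, w]) = (⊤ : Submodule F V) := by
        refine Submodule.eq_top_iff'.mpr fun z => ?_
        set z' := z - (B.f z u / n) • u - (B.f z r / B.f w r) • w with hz'
        have hzK : z' ∈ K := (hK _).mpr ⟨by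
          rw [hz', B.sub_left, B.sub_left, B.smul_left, B.smul_left, hu, hwu, div_mul_cancel₀ _ hn]; ring, by
          rw [hz', B.sub_left, B.sub_left, B.smul_left, B.smul_left, hur, div_mul_cancel₀ _ hwr]; ring⟩
        rw [show z = (B.f z u / n) • u + (B.f z r / B.f w r) • w + z' by rw [hz']; abel, key z' hzK]
        exact add_mem (add_mem (Submodule.smul_mem _ _ (Submodule.subset_span ⟨0, rfl⟩))
          (Submodule.smul_mem _ _ (Submodule.subset_span ⟨2, rfl⟩)))
          (Submodule.smul_mem _ _ (Submodule.subset_span ⟨1, rfl⟩))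
      have h3 := finrank_range_le_card (R := F) ![u, r, w]
      rw [Set.finrank, h1, finrank_top, Fintype.card_fin] at h3
      rcases hdim with hd | hd
      · -- in a plane the orthogonal of `u` is anisotropic
        have hu0 : u ≠ 0 := fun e => hn (by rw [← hu, e, B.zero_left])
        have hlin : LinearIndependent F ![u, r, w] := by
          rw [Fintype.linearIndependent_iff]
          intro g hg i
          rw [Fin.sum_univ_three] at hg
          simp only [Matrix.cons_val_zero, Matrix.cons_val_one, Matrix.cons_val_two, Matrix.tail_cons,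
            Matrix.head_cons] at hg
          have a1 := congrArg (fun z => B.f z u) hg
          simp only [B.add_left, B.smul_left, hu, hru, hwu, B.zero_left, mul_zero, add_zero, mul_eq_zero,
            or_iff_left hn] at a1
          have a2 := congrArg (fun z => B.f z r) hg
          simp only [B.add_left, B.smul_left, hur, hm, B.zero_left, mul_zero, zero_add, mul_eq_zero,
            or_iff_left hwr] at a2
          have a3 := congrArg (fun z => B.f z w) hg
          simp only [B.add_left, B.smul_left, a1, a2, B.zero_left, zero_mul, add_zero, zero_add, mul_eq_zero,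
            or_iff_left hrw] at a3
          fin_cases i <;> assumption
        have := hlin.fintype_card_le_finrank
        rw [Fintype.card_fin] at this
        omega
      · omega
  obtain ⟨e, he⟩ := hB.2.2.2 (n / B.f y y) (by rw [map_div₀, hσn, B.norm_fixed])
  have hy' : B.f (e • y) (e • y) = n := by rw [B.smul_left, B.smul_right, ← mul_assoc, he, div_mul_cancel₀ _ hy]
  have h1 : B.f (e • y) u = 0 := by rw [B.smul_left, hyu, mul_zero]
  have h2' : B.f u' (e • y) = 0 := by
    have h : B.f (e • y) u' = 0 := by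
      rw [show u' = r + c • u by rw [hrd]; abel, B.add_right, B.smul_right, h1, B.smul_left, hyr]; ring
    rw [B.herm (e • y) u', h, map_zero]
  obtain ⟨g1, hg1, hg1e⟩ := hB.plane_orbit h2 T hT hn hu hy' (by
    rw [h1, zero_div, zero_smul, sub_zero, hy']; exact hn)
  obtain ⟨g2, hg2, hg2e⟩ := hB.plane_orbit h2 T hT hn hy' hu' (by
    rw [h2', zero_div, zero_smul, sub_zero, hu']; exact hn)
  exact ⟨g2 * g1, T.mul_mem hg2 hg1, by rw [LinearEquiv.mul_apply, hg1e, hg2e]⟩

end Geom

end Cfsg.Agent.Classical.Frame
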