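/-
A transvection supported on an eigenspace of a frame map, from a big induced group.
-/
import Cfsg.Agent.Lib.Classical.Frame.Orbit

set_option autoImplicit false
set_option linter.unusedSectionVars false

namespace Cfsg.Agent.Classical.Frame

open Module

universe u v w

variable {F : Type u} [Field F] {V : Type v} [AddCommGroup V] [Module F V] [FiniteDimensional F V]
  {A : Type w} [AddCommGroup A] [Finite A]

namespace Geom

variable {B : Geom F V} {Φ : Data F V A}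

/-- Every vector is a sum of eigenvectors. -/
theorem decomp {x : A} {s : F} (hs0 : s ≠ 0) (hs : ∀ v, Φ.u x (Φ.u x v) = (s * s) • v) (v : V) :
    ∃ a ∈ Φ.eig x s, ∃ b ∈ Φ.eig x (-s), v = a + b := by
  refine ⟨(2 * s)⁻¹ • (Φ.u x v + s • v), ?_, -(2 * s)⁻¹ • (Φ.u x v - s • v), ?_, ?_⟩
  · rw [Φ.mem_eig, map_smul, map_add, map_smul, hs, smul_comm s, smul_add s, smul_smul s s, add_comm]
  · rw [Φ.mem_eig, map_smul, map_sub, map_smul, hs, smul_comm (-s)]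
    congr 1
    module
  · have e : (2 * s)⁻¹ * (2 * s) = 1 := inv_mul_cancel₀ (mul_ne_zero Φ.two hs0)
    linear_combination (norm := module) -e • v

theorem nd_eig (hC : B.Compat Φ) {x : A} {s : F} (hs0 : s ≠ 0) (hs : ∀ v, Φ.u x (Φ.u x v) = (s * s) • v) :
    B.IsHerm → ∀ v ∈ Φ.eig x s, (∀ w ∈ Φ.eig x s, B.f v w = 0) → v = 0 := fun hB v hv h =>
  hB.1 v fun w => by
    obtain ⟨a, ha, b, hb, rfl⟩ := decomp hs0 hs w
    rw [B.add_right, h a ha, zero_add, hB.eig_orth hC hs (Φ.mem_eig.mp hv) (Φ.mem_eig.mp hb)]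

/-- The form on an eigenspace. -/
noncomputable abbrev onEig (B : Geom F V) (hC : B.Compat Φ) (x : A) {s : F} (hs0 : s ≠ 0)
    (hs : ∀ v, Φ.u x (Φ.u x v) = (s * s) • v) : Geom F (Φ.eig x s) :=
  B.restrict (Φ.eig x s) (nd_eig hC hs0 hs)

theorem onEig_zero (hB : B.IsZero) (hC : B.Compat Φ) (x : A) {s : F} (hs0 : s ≠ 0)
    (hs : ∀ v, Φ.u x (Φ.u x v) = (s * s) • v) : (B.onEig hC x hs0 hs).IsZero :=
  ⟨fun v w => hB.1 v w, hB.2⟩

theorem onEig_herm (hB : B.IsHerm) (hC : B.Compat Φ) (x : A) {s : F} (hs0 : s ≠ 0)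
    (hs : ∀ v, Φ.u x (Φ.u x v) = (s * s) • v) : (B.onEig hC x hs0 hs).IsHerm :=
  ⟨fun v hv => Subtype.ext (nd_eig hC hs0 hs hB v v.2 fun w hw => hv ⟨w, hw⟩), hB.2⟩

variable (Φ) in
/-- The restrictions of the elements of `G` trivial on the other eigenspace. -/
def supported (G : Subgroup (PG F V)) (x : A) (s : F) : Subgroup (Φ.eig x s ≃ₗ[F] Φ.eig x s) where
  carrier := {σ | ∃ g : V ≃ₗ[F] V, pr F V g ∈ G ∧ (∀ v : Φ.eig x s, g v = σ v) ∧ ∀ v ∈ Φ.eig x (-s), g v = v}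
  one_mem' := ⟨1, by rw [map_one]; exact G.one_mem, fun _ => rfl, fun _ _ => rfl⟩
  mul_mem' := by
    rintro σ τ ⟨g, hg, hgσ, hg'⟩ ⟨h, hh, hhτ, hh'⟩
    refine ⟨g * h, by rw [map_mul]; exact G.mul_mem hg hh, fun v => ?_, fun v hv => ?_⟩
    · rw [LinearEquiv.mul_apply, hhτ, hgσ, LinearEquiv.mul_apply]
    · rw [LinearEquiv.mul_apply, hh' v hv, hg' v hv]
  inv_mem' := by
    rintro σ ⟨g, hg, hgσ, hg'⟩
    refine ⟨g⁻¹, by rw [map_inv]; exact G.inv_mem hg, fun v => g.injective ?_, fun v hv => g.injective ?_⟩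
    · rw [show ∀ y, g (g⁻¹ y) = y from g.apply_symm_apply, hgσ, show ∀ y, σ (σ⁻¹ y) = y from σ.apply_symm_apply]
    · rw [show ∀ y, g (g⁻¹ y) = y from g.apply_symm_apply, hg' v hv]

variable {G : Subgroup (PG F V)} {x z : A} {s : F}

theorem exists_lift {hC : B.Compat Φ} {hs0 : s ≠ 0} {hs : ∀ v, Φ.u x (Φ.u x v) = (s * s) • v}
    (hbig : (B.onEig hC x hs0 hs).Big (Φ.induced G x s)) (T : Φ.eig x s ≃ₗ[F] Φ.eig x s)
    (hT : pr F _ T ∈ Φ.induced G x s) : ∃ (k : V ≃ₗ[F] V) (c : F), c ≠ 0 ∧ pr F V k ∈ G ∧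
      (∀ v, k (Φ.u x v) = Φ.u x (k v)) ∧ ∀ v : Φ.eig x s, k v = c • (T v : V) := by
  obtain ⟨k, l, hk, hkx, hl, hlT⟩ := hT
  obtain ⟨c, hc⟩ := pr_eq_pr.mp hlT
  have hx : ∀ v : Φ.eig x s, (T v : V) = c • k v := fun v => by
    rw [hc, Submodule.coe_smul, hl]
  rcases eq_or_ne c 0 with rfl | hc0
  · refine ⟨k, 1, one_ne_zero, hk, hkx, fun v => ?_⟩
    have h0 : T v = 0 := Subtype.ext (by rw [hx, zero_smul]; rfl)
    rw [T.map_eq_zero_iff.mp h0]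
    simp
  · exact ⟨k, c⁻¹, inv_ne_zero hc0, hk, hkx, fun v => by rw [hx, inv_smul_smul₀ hc0]⟩

theorem maps_eig {k : V ≃ₗ[F] V} (hkx : ∀ v, k (Φ.u x v) = Φ.u x (k v)) {t : F} :
    ∀ v ∈ Φ.eig x t, k v ∈ Φ.eig x t := fun v hv => by
  rw [Φ.mem_eig] at hv ⊢
  rw [← hkx, hv, map_smul]

theorem normed_supported {hC : B.Compat Φ} {hs0 : s ≠ 0} {hs : ∀ v, Φ.u x (Φ.u x v) = (s * s) • v}
    (hbig : (B.onEig hC x hs0 hs).Big (Φ.induced G x s)) :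
    (B.onEig hC x hs0 hs).Normed (supported Φ G x s) := by
  rintro σ a φ hσ hφ hi τ ⟨g, hg, hgτ, hg'⟩
  obtain ⟨k, c, hc, hk, hkx, hkv⟩ := exists_lift hbig σ (hbig σ a φ hσ hφ hi)
  have hk1 : ∀ y, k (k⁻¹ y) = y := k.apply_symm_apply
  have hkx' : ∀ v, k⁻¹ (Φ.u x v) = Φ.u x (k⁻¹ v) := fun v => k.injective (by rw [hkx, hk1, hk1])
  refine ⟨k * g * k⁻¹, by rw [map_mul, map_mul, map_inv]; exact G.mul_mem (G.mul_mem hk hg) (G.inv_mem hk),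
    fun v => ?_, fun v hv => ?_⟩
  · have hki : k⁻¹ (v : V) = c⁻¹ • ((σ⁻¹ v : Φ.eig x s) : V) := k.injective (by
      rw [hk1, map_smul, hkv, inv_smul_smul₀ hc, show σ (σ⁻¹ v) = v from σ.apply_symm_apply v])
    rw [LinearEquiv.mul_apply, LinearEquiv.mul_apply, hki, map_smul, hgτ, map_smul, hkv, inv_smul_smul₀ hc]
    rfl
  · rw [LinearEquiv.mul_apply, LinearEquiv.mul_apply, hg' _ (maps_eig hkx' v hv), hk1]

/-- For an index commuting with `x`, some element of `G` is that frame map on one eigenspace and scalar on the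
other. -/
theorem exists_pauli (hG : Φ.Full G) (hx : x ≠ 0) (hs0 : s ≠ 0) (hs : ∀ v, Φ.u x (Φ.u x v) = (s * s) • v) {b : A}
    (hb : Φ.sg x b = 1) (hb0 : b ≠ 0) (hbx : b ≠ x) :
    ∃ (h : V ≃ₗ[F] V) (c d : F), pr F V h ∈ G ∧ (∀ v, h (Φ.u x v) = Φ.u x (h v)) ∧
      (∀ v ∈ Φ.eig x s, h v = c • Φ.u b v) ∧ ∀ v ∈ Φ.eig x (-s), h v = d • v := by
  obtain ⟨t, ht, htG⟩ := hG.single b hb0
  obtain ⟨t', ht', htG'⟩ := hG.single (b + x) (Φ.add_ne_zero hbx)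
  obtain ⟨ζ, hζ, hsq, htv⟩ := ht.apply_sq
  obtain ⟨ζ', hζ', hsq', htv'⟩ := ht'.apply_sq
  obtain ⟨m, hm⟩ := Φ.mul b x
  have hm0 := Φ.mul_ne hm
  have hcx : ∀ v, t (Φ.u x v) = Φ.u x (t v) := ht.comm (by rw [Φ.sg_symm]; exact hb)
  have hcx' : ∀ v, t' (Φ.u x v) = Φ.u x (t' v) :=
    ht'.comm (by rw [Φ.sg_add_left, Φ.sg_self, mul_one, Φ.sg_symm]; exact hb)
  have hb' : ∀ {y : F} {v : V}, v ∈ Φ.eig x y → Φ.u b v ∈ Φ.eig x y := fun hv =>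
    Data.u_mem_eig (Φ.mem_cen.mpr hb) _ hv
  have hu : ∀ {y : F} {v : V}, v ∈ Φ.eig x y → Φ.u (b + x) v = (m⁻¹ * y) • Φ.u b v := fun hv => by
    rw [← inv_smul_smul₀ hm0 (Φ.u (b + x) _), ← hm, Φ.mem_eig.mp hv, map_smul, smul_smul]
  obtain ⟨η, hη⟩ : ∃ η, η = ζ' * (m⁻¹ * s) := ⟨_, rfl⟩
  have hprod : ∀ v, v ∈ Φ.eig x s → t' (t v) = v + (ζ + η) • Φ.u b v + (η * ζ) • (-(ζ * ζ)⁻¹) • v := fun v hv => by
    have h1 : Φ.u (b + x) (t v) = (m⁻¹ * s) • Φ.u b (t v) := hu (maps_eig hcx v hv)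
    rw [htv', h1, smul_smul, ← hη, htv, map_add, map_smul, hsq]
    module
  have hprod' : ∀ v, v ∈ Φ.eig x (-s) → t' (t v) = v + (ζ - η) • Φ.u b v + (-η * ζ) • (-(ζ * ζ)⁻¹) • v :=
    fun v hv => by
    have h1 : Φ.u (b + x) (t v) = (m⁻¹ * -s) • Φ.u b (t v) := hu (maps_eig hcx v hv)
    rw [htv', h1, smul_smul, show ζ' * (m⁻¹ * -s) = -η by rw [hη]; ring, htv, map_add, map_smul, hsq]
    module
  obtain ⟨v0, hv0, hv0e⟩ := Φ.exists_eigen hx hs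
  have hηη : η * η = ζ * ζ := by
    have hv : v0 ∈ Φ.eig x s := Φ.mem_eig.mpr hv0e
    have h1 := hsq' v0
    rw [hu hv, map_smul, hu (hb' hv), hsq, smul_smul, smul_smul] at h1
    have h2 := smul_left_injective F hv0 h1
    rw [hη]
    field_simp at h2 ⊢
    linear_combination -h2
  rcases mul_self_eq_mul_self_iff.mp hηη with e | e
  · refine ⟨t' * t, 2 * ζ, 2, by rw [map_mul]; exact G.mul_mem htG' htG,
      fun v => by rw [LinearEquiv.mul_apply, hcx, hcx', LinearEquiv.mul_apply], fun v hv => ?_, fun v hv => ?_⟩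
    · rw [LinearEquiv.mul_apply, hprod v hv, e]
      have e1 : ζ * ζ * (ζ * ζ)⁻¹ = 1 := mul_inv_cancel₀ (mul_ne_zero hζ hζ)
      linear_combination (norm := module) -e1 • v
    · rw [LinearEquiv.mul_apply, hprod' v hv, e]
      have e1 : ζ * ζ * (ζ * ζ)⁻¹ = 1 := mul_inv_cancel₀ (mul_ne_zero hζ hζ)
      linear_combination (norm := module) e1 • v
  · refine ⟨Φ.u b * (t' * t), 2, 2 * ζ * -(ζ * ζ)⁻¹, by
      rw [map_mul, map_mul]; exact G.mul_mem (hG.le (Φ.e_mem b)) (G.mul_mem htG' htG), fun v => ?_,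
      fun v hv => ?_, fun v hv => ?_⟩
    · simp only [LinearEquiv.mul_apply]
      rw [hcx, hcx', Φ.comm b x, Φ.sg_symm x b, hb, one_smul]
    · rw [LinearEquiv.mul_apply, LinearEquiv.mul_apply, hprod v hv, e, add_neg_cancel, zero_smul, add_zero,
        smul_smul, show -ζ * ζ * -(ζ * ζ)⁻¹ = 1 by field_simp, one_smul, ← two_smul F v, map_smul]
    · rw [LinearEquiv.mul_apply, LinearEquiv.mul_apply, hprod' v hv, e]
      have e1 : ζ * ζ * (ζ * ζ)⁻¹ = 1 := mul_inv_cancel₀ (mul_ne_zero hζ hζ)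
      rw [map_add, map_add, map_smul, map_smul, map_smul, hsq]
      linear_combination (norm := module) -e1 • Φ.u b v

/-- The commutator of a frame map with a lifted map is supported. -/
theorem comm_mem (hG : Φ.Full G) (hx : x ≠ 0) (hs0 : s ≠ 0) (hs : ∀ v, Φ.u x (Φ.u x v) = (s * s) • v) {b : A}
    (hb : Φ.sg x b = 1) (hb0 : b ≠ 0) (hbx : b ≠ x) {k : V ≃ₗ[F] V} {c : F} (hc : c ≠ 0) (hk : pr F V k ∈ G)
    (hkx : ∀ v, k (Φ.u x v) = Φ.u x (k v)) {T : Φ.eig x s ≃ₗ[F] Φ.eig x s}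
    (hT : ∀ v : Φ.eig x s, k v = c • (T v : V)) :
    Data.restr (Φ.u b) (Data.u_mem_eig (Φ.mem_cen.mpr hb)) * T *
      (Data.restr (Φ.u b) (Data.u_mem_eig (s := s) (Φ.mem_cen.mpr hb)))⁻¹ * T⁻¹ ∈ supported Φ G x s := by
  obtain ⟨h, c', d, hh, hhx, hhs, hhn⟩ := exists_pauli hG hx hs0 hs hb hb0 hbx
  obtain ⟨r, hr⟩ : ∃ r, r = Data.restr (Φ.u b) (Data.u_mem_eig (s := s) (Φ.mem_cen.mpr hb)) := ⟨_, rfl⟩
  rw [← hr]
  have hr' : ∀ v : Φ.eig x s, (r v : V) = Φ.u b v := fun v => by rw [hr]; rfl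
  have hk1 : ∀ y, k (k⁻¹ y) = y := k.apply_symm_apply
  have hh1 : ∀ y, h (h⁻¹ y) = y := h.apply_symm_apply
  have hkx' : ∀ v, k⁻¹ (Φ.u x v) = Φ.u x (k⁻¹ v) := fun v => k.injective (by rw [hkx, hk1, hk1])
  have hhx' : ∀ v, h⁻¹ (Φ.u x v) = Φ.u x (h⁻¹ v) := fun v => h.injective (by rw [hhx, hh1, hh1])
  have hhs' : ∀ v : Φ.eig x s, h v = c' • (r v : V) := fun v => by rw [hhs v v.2, hr']
  have hc' : ∀ v : Φ.eig x s, (v : V) ≠ 0 → c' ≠ 0 := by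
    rintro v hv rfl
    exact hv (h.map_eq_zero_iff.mp (by rw [hhs', zero_smul]))
  refine ⟨h * k * h⁻¹ * k⁻¹, by
    rw [map_mul, map_mul, map_mul, map_inv, map_inv]
    exact G.mul_mem (G.mul_mem (G.mul_mem hh hk) (G.inv_mem hh)) (G.inv_mem hk), fun v => ?_, fun v hv => ?_⟩
  · rcases eq_or_ne (v : V) 0 with hv0 | hv0
    · rw [Subtype.ext hv0 (a2 := (0 : Φ.eig x s))]
      simp
    have e1 : k⁻¹ (v : V) = c⁻¹ • ((T⁻¹ v : Φ.eig x s) : V) := k.injective (by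
      rw [hk1, map_smul, hT, inv_smul_smul₀ hc, show T (T⁻¹ v) = v from T.apply_symm_apply v])
    have e2 : ∀ w : Φ.eig x s, h⁻¹ (w : V) = c'⁻¹ • ((r⁻¹ w : Φ.eig x s) : V) := fun w => h.injective (by
      rw [hh1, map_smul, hhs', inv_smul_smul₀ (hc' v hv0), show r (r⁻¹ w) = w from r.apply_symm_apply w])
    simp only [LinearEquiv.mul_apply, e1, map_smul, e2, hT, hhs', smul_smul]
    have e : c⁻¹ * (c'⁻¹ * (c * c')) = 1 := by have := hc' v hv0; field_simp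
    rw [e, one_smul]
  · simp only [LinearEquiv.mul_apply]
    have hmem : h⁻¹ (k⁻¹ v) ∈ Φ.eig x (-s) := maps_eig hhx' _ (maps_eig hkx' v hv)
    rw [hhn _ (maps_eig hkx _ hmem)]
    have e : h (h⁻¹ (k⁻¹ v)) = d • h⁻¹ (k⁻¹ v) := hhn _ hmem
    rw [hh1] at e
    rw [← map_smul, ← e, hk1]

end Geom

end Cfsg.Agent.Classical.Frame
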