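/-
A big induced group gives a transvection supported on the eigenspace.
-/
import Cfsg.Agent.Lib.Classical.Frame.BigUp

set_option autoImplicit false
set_option linter.unusedSectionVars false

namespace Cfsg.Agent.Classical.Frame

open Module

universe u v w

variable {F : Type u} [Field F] {V : Type v} [AddCommGroup V] [Module F V] [FiniteDimensional F V]
  {A : Type w} [AddCommGroup A] [Finite A]

namespace Geom

variable {B : Geom F V} {Φ : Data F V A} {G : Subgroup (PG F V)} {x : A} {s : F}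

theorem restr_eigen_ne {b : A} (hb : Φ.sg x b = 1) (hb0 : b ∉ AddSubgroup.zmultiples x) (hx : x ≠ 0)
    (hs : ∀ v, Φ.u x (Φ.u x v) = (s * s) • v) {r : F} (hr : ∀ v, Φ.u b (Φ.u b v) = (r * r) • v) :
    ∃ v : Φ.eig x s, v ≠ 0 ∧ Φ.u b v = r • (v : V) := by
  obtain ⟨v, hv, h1, h2⟩ := Φ.exists_joint (by rw [Φ.sg_symm]; exact hb) hb0 hx hs hr
  exact ⟨⟨v, Φ.mem_eig.mpr h1⟩, fun e => hv (congrArg Subtype.val e), h2⟩

/-- Over a prime field. -/
theorem exists_trans_zero (hG : Φ.Full G) (hr : Φ.Roots) (hC : B.Compat Φ) (hB : B.IsZero) (hx : x ≠ 0)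
    (hs0 : s ≠ 0) (hs : ∀ v, Φ.u x (Φ.u x v) = (s * s) • v)
    (hbig : (B.onEig hC x hs0 hs).Big (Φ.induced G x s)) {b : A} (hb : Φ.sg x b = 1)
    (hb0 : b ∉ AddSubgroup.zmultiples x) :
    ∃ a φ, a ≠ 0 ∧ φ ≠ 0 ∧ Has (supported Φ G x s) a φ := by
  obtain ⟨r, hr0, hrr⟩ := hr b
  obtain ⟨p, hp0, hpe⟩ := restr_eigen_ne hb hb0 hx hs hrr
  obtain ⟨q, hq0, hqe⟩ := restr_eigen_ne (r := -r) hb hb0 hx hs (by simpa using hrr)
  have hind : ∀ c : F, c • p ≠ q := by
    intro c e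
    have h1 : Φ.u b (q : V) = r • (q : V) := by rw [← e, Submodule.coe_smul, map_smul, hpe, smul_comm]
    rw [hqe] at h1
    have h2 : (2 * r) • (q : V) = 0 := by linear_combination (norm := module) -h1
    exact hq0 (Subtype.ext ((smul_eq_zero.mp h2).resolve_left (mul_ne_zero Φ.two hr0)))
  obtain ⟨φ, hφp, hφq⟩ := exists_dual_two hp0 hind (0 : F) 1
  set T := LinearEquiv.transvection hφp with hT
  have hTb := hbig T p φ (fun v => rfl) hφp (isom_of_zero _ (onEig_zero hB hC x hs0 hs) _)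
  obtain ⟨k, c, hc, hk, hkx, hkv⟩ := exists_lift hbig T hTb
  have hb0' : b ≠ 0 := fun e => hb0 (e ▸ zero_mem _)
  have hbx : b ≠ x := fun e => hb0 (e ▸ AddSubgroup.mem_zmultiples x)
  have hmem := comm_mem hG hx hs0 hs hb hb0' hbx hc hk hkx hkv
  set R := Data.restr (Φ.u b) (Data.u_mem_eig (s := s) (Φ.mem_cen.mpr hb)) with hR
  have hRp : R p = r • p := Subtype.ext hpe
  have hRq : R q = -r • q := Subtype.ext hqe
  have hRip : R⁻¹ p = r⁻¹ • p := R.injective (by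
    rw [map_smul, hRp, show R (R⁻¹ p) = p from R.apply_symm_apply p, inv_smul_smul₀ hr0])
  have hRiq : R⁻¹ q = (-r)⁻¹ • q := R.injective (by
    rw [map_smul, hRq, show R (R⁻¹ q) = q from R.apply_symm_apply q, inv_smul_smul₀ (neg_ne_zero.mpr hr0)])
  refine ⟨p, r • φ.comp (R⁻¹ : Φ.eig x s ≃ₗ[F] Φ.eig x s).toLinearMap - φ, hp0, fun e => ?_, ?_, _, hmem,
    fun v => ?_⟩
  · have h1 := LinearMap.congr_fun e q
    simp only [LinearMap.sub_apply, LinearMap.smul_apply, LinearMap.comp_apply, LinearEquiv.coe_coe,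
      LinearMap.zero_apply, smul_eq_mul] at h1
    rw [hRiq, map_smul, hφq, smul_eq_mul, mul_one, inv_neg, mul_neg, mul_inv_cancel₀ hr0] at h1
    exact Φ.two (by linear_combination -h1)
  · simp only [LinearMap.sub_apply, LinearMap.smul_apply, LinearMap.comp_apply, LinearEquiv.coe_coe]
    rw [hRip, map_smul, hφp]
    simp
  · have hTi : T⁻¹ v = v - φ v • p := T.injective (by
      rw [show T (T⁻¹ v) = v from T.apply_symm_apply v]
      show v = (v - φ v • p) + φ (v - φ v • p) • p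
      rw [map_sub, map_smul, hφp, smul_zero, sub_zero, sub_add_cancel])
    rw [LinearEquiv.mul_apply, LinearEquiv.mul_apply, LinearEquiv.mul_apply, hTi]
    show R (R⁻¹ (v - φ v • p) + φ (R⁻¹ (v - φ v • p)) • p) = _
    rw [map_add, map_smul, show R (R⁻¹ (v - φ v • p)) = v - φ v • p from R.apply_symm_apply _, map_sub, map_smul,
      hRip, map_sub, map_smul, map_smul, hφp, hRp]
    simp only [LinearMap.sub_apply, LinearMap.smul_apply, LinearMap.comp_apply, LinearEquiv.coe_coe, smul_eq_mul]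
    module

/-- The restricted frame map is an isometry. -/
theorem restr_isom (hC : B.Compat Φ) (hs0 : s ≠ 0) (hs : ∀ v, Φ.u x (Φ.u x v) = (s * s) • v) {b : A}
    (hb : Φ.sg x b = 1) :
    (B.onEig hC x hs0 hs).Isom (Data.restr (Φ.u b) (Data.u_mem_eig (s := s) (Φ.mem_cen.mpr hb))) :=
  fun v w => (hC b).1 (v : V) (w : V)

theorem exists_isotropic (hB : B.IsHerm) {p q : V} (hp : B.f p p ≠ 0) (hq : B.f q q ≠ 0) (hpq : B.f p q = 0) :
    ∃ l : F, l ≠ 0 ∧ B.f (p + l • q) (p + l • q) = 0 := by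
  obtain ⟨l, hl⟩ := hB.2.2.2 (-(B.f p p) / B.f q q) (by rw [map_div₀, map_neg, B.norm_fixed, B.norm_fixed])
  have hl0 : l ≠ 0 := by
    rintro rfl
    rw [zero_mul, eq_comm, div_eq_zero_iff] at hl
    exact hl.elim (fun h => hp (neg_eq_zero.mp h)) hq
  refine ⟨l, hl0, ?_⟩
  have e : l * B.σ l * B.f q q = -(B.f p p) := by rw [hl, div_mul_cancel₀ _ hq]
  rw [B.add_left, B.add_right, B.add_right, B.smul_left, B.smul_left, B.smul_right, B.smul_right, B.herm p q, hpq]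
  simp only [map_zero]
  linear_combination e

/-- An anisotropic joint eigenvector. -/
theorem exists_aniso_joint (hC : B.Compat Φ) (hB : B.IsHerm) (hx : x ≠ 0) (hs0 : s ≠ 0)
    (hs : ∀ v, Φ.u x (Φ.u x v) = (s * s) • v) {b : A} (hb : Φ.sg x b = 1) (hb0 : b ∉ AddSubgroup.zmultiples x)
    {r : F} (hr0 : r ≠ 0) (hr : ∀ v, Φ.u b (Φ.u b v) = (r * r) • v) :
    ∃ p : Φ.eig x s, B.f (p : V) p ≠ 0 ∧ Φ.u b p = r • (p : V) := by
  by_contra hh
  push Not at hh
  obtain ⟨v, hv0, hv⟩ := restr_eigen_ne hb hb0 hx hs hr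
  let P : Submodule F V := Φ.eig x s ⊓ Φ.eig b r
  have hP : ∀ y ∈ P, B.f y y = 0 := fun y hy => by
    by_contra hne
    exact hh ⟨y, hy.1⟩ hne (Φ.mem_eig.mp hy.2)
  refine hv0 (Subtype.ext (nd_eig hC hs0 hs hB v v.2 fun w hw => ?_))
  obtain ⟨w1, hw1, w2, hw2, rfl⟩ := decomp hr0 hr w
  have hw1' : w1 ∈ Φ.eig x s := by
    have e : w1 = (2 * r)⁻¹ • (Φ.u b (w1 + w2) + r • (w1 + w2)) := by
      rw [map_add, Φ.mem_eig.mp hw1, Φ.mem_eig.mp hw2,
        show r • w1 + -r • w2 + r • (w1 + w2) = (2 * r) • w1 by module,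
        inv_smul_smul₀ (mul_ne_zero Φ.two hr0)]
    rw [e]
    exact Submodule.smul_mem _ _ (Submodule.add_mem _ (Data.u_mem_eig (Φ.mem_cen.mpr hb) _ hw)
      (Submodule.smul_mem _ _ hw))
  rw [B.add_right, hB.zero_of_isotropic P hP (Submodule.mem_inf.mpr ⟨v.2, Φ.mem_eig.mpr hv⟩)
    (Submodule.mem_inf.mpr ⟨hw1', hw1⟩), hB.eig_orth hC hr hv (Φ.mem_eig.mp hw2), add_zero]

/-- A torus element from transvections with two isotropic centres. -/
theorem exists_torus {W : Type v} [AddCommGroup W] [Module F W] [FiniteDimensional F W] (C : Geom F W) (hC : C.IsHerm)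
    (H : Subgroup (W ≃ₗ[F] W)) (hH : ∀ (a : W) (t : F) (ha : C.f a a = 0), t + C.σ t = 0 → C.utrans a t ha ∈ H)
    {a a' : W} (ha : C.f a a = 0) (ha' : C.f a' a' = 0) {μ : F} (hμ : C.f a a' = μ) (hμ0 : μ ≠ 0) {lam : F}
    (hl : C.σ lam = lam) (hl0 : lam ≠ 0) : ∃ T ∈ H, T a = lam • a ∧ T a' = lam⁻¹ • a' := by
  obtain ⟨θ, hθ0, hθ⟩ := hC.exists_skew
  have hμ' : C.f a' a = C.σ μ := by rw [C.herm a a', hμ]
  have hσμ : C.σ μ ≠ 0 := (map_ne_zero C.σ).mpr hμ0
  have hskew : ∀ k : F, C.σ k = k → θ * k + C.σ (θ * k) = 0 := fun k hk => by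
    rw [map_mul, hk]; linear_combination k * hθ
  have hσθ : C.σ θ = -θ := by linear_combination hθ
  -- `U k : a' ↦ a' + k • a` and `L k : a ↦ a + k • a'` for the allowed parameters
  have up : ∀ j : F, C.σ j = j → ∃ g ∈ H, ∀ α β : F,
      g (α • a + β • a') = (α + β * (θ * j * C.σ μ)) • a + β • a' := fun j hj => by
    refine ⟨C.utrans a (θ * j) ha, hH a _ ha (hskew j hj), fun α β => ?_⟩
    rw [C.utrans_apply, C.add_left, C.smul_left, C.smul_left, ha, hμ']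
    module
  have lo : ∀ j : F, C.σ j = j → ∃ g ∈ H, ∀ α β : F,
      g (α • a + β • a') = α • a + (β + α * (θ * j * μ)) • a' := fun j hj => by
    refine ⟨C.utrans a' (θ * j) ha', hH a' _ ha' (hskew j hj), fun α β => ?_⟩
    rw [C.utrans_apply, C.add_left, C.smul_left, C.smul_left, ha', hμ]
    module
  obtain ⟨N, hN⟩ : ∃ N, N = θ * θ * (C.σ μ * μ) := ⟨_, rfl⟩
  have hN0 : N ≠ 0 := by rw [hN]; exact mul_ne_zero (mul_ne_zero hθ0 hθ0) (mul_ne_zero hσμ hμ0)
  have hNf : C.σ N = N := by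
    rw [hN, map_mul, map_mul, map_mul, C.invol, hσθ]
    ring
  -- the Weyl element of parameter `j`
  have weyl : ∀ j : F, C.σ j = j → j ≠ 0 → ∃ g ∈ H, ∀ α β : F,
      g (α • a + β • a') = (β * (θ * j * C.σ μ)) • a + (-(α / (θ * j * C.σ μ))) • a' := by
    intro j hj hj0
    obtain ⟨g1, hg1, e1⟩ := up j hj
    obtain ⟨g2, hg2, e2⟩ := lo (-1 / (j * N)) (by rw [map_div₀, map_neg, map_one, map_mul, hj, hNf])
    refine ⟨g1 * (g2 * g1), H.mul_mem hg1 (H.mul_mem hg2 hg1), fun α β => ?_⟩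
    rw [LinearEquiv.mul_apply, LinearEquiv.mul_apply, e1, e2, e1]
    congr 2 <;> rw [hN] <;> field_simp <;> ring
  obtain ⟨g, hg, eg⟩ := weyl lam hl hl0
  obtain ⟨g', hg', eg'⟩ := weyl (-1) (by rw [map_neg, map_one]) (neg_ne_zero.mpr one_ne_zero)
  have e : ∀ α β : F, (g * g') (α • a + β • a') = (α * lam) • a + (β * lam⁻¹) • a' := fun α β => by
    rw [LinearEquiv.mul_apply, eg', eg]
    congr 2 <;> field_simp
  refine ⟨g * g', H.mul_mem hg hg', ?_, ?_⟩
  · simpa using e 1 0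
  · simpa using e 0 1

/-- The lifts of a big induced group. -/
theorem mem_induced_utrans {hC : B.Compat Φ} {hs0 : s ≠ 0} {hs : ∀ v, Φ.u x (Φ.u x v) = (s * s) • v}
    (hbig : (B.onEig hC x hs0 hs).Big (Φ.induced G x s)) (a : Φ.eig x s) (t : F)
    (ha : (B.onEig hC x hs0 hs).f a a = 0) (ht : t + (B.onEig hC x hs0 hs).σ t = 0) :
    (B.onEig hC x hs0 hs).utrans a t ha ∈ (Φ.induced G x s).comap (pr F _) :=
  hbig _ a ((B.onEig hC x hs0 hs).uform a t) (fun _ => rfl) (uform_self _ t ha) (isom_utrans _ ha ht)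

/-- In a hermitian eigenspace, when a fixed scalar is not a fourth root of unity. -/
theorem exists_trans_torus (hG : Φ.Full G) (hr : Φ.Roots) (hC : B.Compat Φ) (hB : B.IsHerm) (hx : x ≠ 0)
    (hs0 : s ≠ 0) (hs : ∀ v, Φ.u x (Φ.u x v) = (s * s) • v)
    (hbig : (B.onEig hC x hs0 hs).Big (Φ.induced G x s)) {b : A} (hb : Φ.sg x b = 1)
    (hb0 : b ∉ AddSubgroup.zmultiples x) {lam : F} (hl : B.σ lam = lam) (hl4 : lam ^ 4 ≠ 1) (hl0 : lam ≠ 0) :
    ∃ a t, a ≠ 0 ∧ (B.onEig hC x hs0 hs).f a a = 0 ∧ t ≠ 0 ∧ t + B.σ t = 0 ∧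
      (B.onEig hC x hs0 hs).HasU (supported Φ G x s) a t := by
  have hW : (B.onEig hC x hs0 hs).IsHerm := onEig_herm hB hC x hs0 hs
  obtain ⟨r, hr0, hrr⟩ := hr b
  obtain ⟨p, hpp, hpe⟩ := exists_aniso_joint hC hB hx hs0 hs hb hb0 hr0 hrr
  obtain ⟨q, hqq, hqe⟩ :=
    exists_aniso_joint (r := -r) hC hB hx hs0 hs hb hb0 (neg_ne_zero.mpr hr0) (by simpa using hrr)
  have hpq : B.f (p : V) q = 0 := hB.eig_orth hC hrr hpe hqe
  have hqp : B.f (q : V) p = 0 := by rw [B.herm (p : V) q, hpq, map_zero]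
  obtain ⟨l, -, hiso⟩ := exists_isotropic hB hpp hqq hpq
  have hb0' : b ≠ 0 := fun e => hb0 (e ▸ zero_mem _)
  have hbx : b ≠ x := fun e => hb0 (e ▸ AddSubgroup.mem_zmultiples x)
  set R := Data.restr (Φ.u b) (Data.u_mem_eig (s := s) (Φ.mem_cen.mpr hb)) with hR
  obtain ⟨a, ha⟩ : ∃ a, a = p + l • q := ⟨_, rfl⟩
  have haa : (B.onEig hC x hs0 hs).f a a = 0 := by rw [ha]; exact hiso
  have hRi := restr_isom hC hs0 hs hb (B := B)
  have haa' : (B.onEig hC x hs0 hs).f (R a) (R a) = 0 := (hRi a a).trans haa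
  have hRa : (R a : V) = r • (p : V) - (r * l) • (q : V) := by
    rw [ha, Data.restr_apply, Submodule.coe_add, Submodule.coe_smul, map_add, map_smul, hpe, hqe]
    module
  have hRR : R (R a) = (r * r) • a := Subtype.ext (by rw [Data.restr_apply, Data.restr_apply, hrr]; rfl)
  have hμ0 : (B.onEig hC x hs0 hs).f a (R a) ≠ 0 := by
    show B.f (a : V) (R a : V) ≠ 0
    intro h
    rw [hRa, ha, Submodule.coe_add, Submodule.coe_smul, B.add_left, B.sub_right, B.sub_right, B.smul_left,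
      B.smul_left, B.smul_right, B.smul_right, B.smul_right, B.smul_right, hpq, hqp, map_mul] at h
    have e1 := hiso
    rw [B.add_left, B.add_right, B.add_right, B.smul_left, B.smul_left, B.smul_right, B.smul_right, hpq, hqp] at e1
    have e2 : (2 : F) * B.σ r * B.f (p : V) p = 0 := by linear_combination h + B.σ r * e1
    exact hpp ((mul_eq_zero.mp e2).resolve_left (mul_ne_zero Φ.two ((map_ne_zero B.σ).mpr hr0)))
  let Iso : Subgroup (Φ.eig x s ≃ₗ[F] Φ.eig x s) :=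
    { carrier := {σ | (B.onEig hC x hs0 hs).Isom σ}
      one_mem' := fun _ _ => rfl
      mul_mem' := fun h h' => Isom.mul _ h h'
      inv_mem' := fun h => Isom.inv _ h }
  obtain ⟨T, ⟨hT, hTiso⟩, hTa, hTa'⟩ := exists_torus _ hW ((Φ.induced G x s).comap (pr F _) ⊓ Iso)
    (fun a t ha ht => ⟨mem_induced_utrans hbig a t ha ht, isom_utrans _ ha ht⟩) haa haa' rfl hμ0
    (lam := lam) hl hl0
  obtain ⟨k, c, hc, hk, hkx, hkv⟩ := exists_lift hbig T hT
  have hD := comm_mem hG hx hs0 hs hb hb0' hbx hc hk hkx hkv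
  rw [← hR] at hD
  set D := R * T * R⁻¹ * T⁻¹ with hDd
  have hll : lam * lam ≠ 0 := mul_ne_zero hl0 hl0
  have hRi1 : R⁻¹ a = (r * r)⁻¹ • R a := R.injective (by
    rw [map_smul, hRR, inv_smul_smul₀ (mul_ne_zero hr0 hr0), show R (R⁻¹ a) = a from R.apply_symm_apply a])
  have hTi : T⁻¹ a = lam⁻¹ • a := T.injective (by
    rw [map_smul, hTa, inv_smul_smul₀ hl0, show T (T⁻¹ a) = a from T.apply_symm_apply a])
  have hDa : D a = (lam * lam)⁻¹ • a := by
    simp only [hDd, LinearEquiv.mul_apply, hTi, map_smul, hRi1, hTa', hRR, smul_smul]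
    congr 1
    field_simp
  have hDiso : (B.onEig hC x hs0 hs).Isom D := by
    exact Isom.mul _ (Isom.mul _ (Isom.mul _ hRi hTiso) (Isom.inv _ hRi)) (Isom.inv _ hTiso)
  obtain ⟨θ, hθ0, hθ⟩ := hB.exists_skew
  set τ := (B.onEig hC x hs0 hs).utrans a θ haa with hτ
  have hcomm : D * (τ * D⁻¹ * τ⁻¹) ∈ supported Φ G x s :=
    (supported Φ G x s).mul_mem hD (normed_supported hbig τ a _ (fun _ => rfl) (uform_self _ θ haa)
      (isom_utrans _ haa hθ) D⁻¹ ((supported Φ G x s).inv_mem hD))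
  have hθ' : ((lam ^ 4)⁻¹ - 1) * θ + B.σ (((lam ^ 4)⁻¹ - 1) * θ) = 0 := by
    rw [map_mul, map_sub, map_inv₀, map_pow, hl, map_one]
    linear_combination ((lam ^ 4)⁻¹ - 1) * hθ
  refine ⟨a, ((lam ^ 4)⁻¹ - 1) * θ, ?_, haa, mul_ne_zero (sub_ne_zero.mpr fun e => hl4 ?_) hθ0, hθ', _, hcomm,
    fun v => ?_⟩
  · intro e
    apply hμ0
    rw [e, map_zero]
    exact Geom.zero_left _ _
  · rw [← inv_inv (lam ^ 4), e, inv_one]
  · have hτi : τ⁻¹ v = v - (θ * (B.onEig hC x hs0 hs).f v a) • a := τ.injective (by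
      rw [show τ (τ⁻¹ v) = v from τ.apply_symm_apply v, hτ, utrans_apply, Geom.sub_left, Geom.smul_left, haa,
        mul_zero, sub_zero, sub_add_cancel])
    rw [LinearEquiv.mul_apply D, LinearEquiv.mul_apply (τ * D⁻¹), LinearEquiv.mul_apply τ, hτi]
    have hDi : ∀ w, (B.onEig hC x hs0 hs).f (D⁻¹ w) a = (lam * lam)⁻¹ * (B.onEig hC x hs0 hs).f w a := by
      intro w
      have h1 := hDiso (D⁻¹ w) a
      rw [show D (D⁻¹ w) = w from D.apply_symm_apply w, hDa, Geom.smul_right] at h1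
      rw [← h1]
      show B.σ ((lam * lam)⁻¹) * _ = _
      rw [map_inv₀, map_mul, hl]
    rw [hτ, utrans_apply, map_add, map_smul, show D (D⁻¹ _) = _ from D.apply_symm_apply _, hDa, hDi, Geom.sub_left,
      Geom.smul_left, haa]
    match_scalars <;> field_simp <;> ring

end Geom

end Cfsg.Agent.Classical.Frame
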