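/-
A supported transvection from commutators, when the eigenspaces are hermitian of dimension at least four.
-/
import Cfsg.Agent.Lib.Classical.Frame.BigMake

set_option autoImplicit false
set_option linter.unusedSectionVars false

namespace Cfsg.Agent.Classical.Frame

open Module

universe u v w

variable {F : Type u} [Field F] {V : Type v} [AddCommGroup V] [Module F V] [FiniteDimensional F V]
  {A : Type w} [AddCommGroup A] [Finite A]

namespace Geom

variable {B : Geom F V} {Φ : Data F V A} {G : Subgroup (PG F V)} {x z : A} {s : F}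

/-- A hermitian space of dimension at least two has a hyperbolic pair with a prescribed product. -/
theorem exists_hyperbolic (hB : B.IsHerm) (h2 : (2 : F) ≠ 0) (hdim : 2 ≤ finrank F V) (c : F) :
    ∃ a w : V, a ≠ 0 ∧ B.f a a = 0 ∧ B.f w w = 0 ∧ B.f a w = c := by
  obtain ⟨v, hv⟩ : ∃ v : V, v ≠ 0 := by
    haveI : Nontrivial V := Module.nontrivial_of_finrank_pos (R := F) (by omega)
    exact _root_.exists_ne 0
  obtain ⟨p, hp⟩ := hB.exists_aniso hv
  let P : Submodule F V := LinearMap.ker ({ toFun := fun y => B.f y p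
                                            map_add' := fun y y' => B.add_left y y' p
                                            map_smul' := fun e y => B.smul_left e y p } : V →ₗ[F] F)
  have hP : ∀ y, y ∈ P ↔ B.f y p = 0 := fun y => by simp [P, LinearMap.mem_ker]
  obtain ⟨q, hqP, hq⟩ : ∃ q ∈ P, B.f q q ≠ 0 := by
    by_contra hh
    push Not at hh
    have h0 : ∀ y ∈ P, y = 0 := fun y hy => hB.1 y fun w => by
      have hw : w - (B.f w p / B.f p p) • p ∈ P := (hP _).mpr (by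
        rw [B.sub_left, B.smul_left, div_mul_cancel₀ _ hp, sub_self])
      have h1 := hB.zero_of_isotropic P hh hy hw
      rwa [B.sub_right, B.smul_right, (hP y).mp hy, mul_zero, sub_zero] at h1
    have h1 : Submodule.span F {p} = (⊤ : Submodule F V) := by
      refine Submodule.eq_top_iff'.mpr fun y => Submodule.mem_span_singleton.mpr ⟨B.f y p / B.f p p, ?_⟩
      exact (sub_eq_zero.mp (h0 (y - (B.f y p / B.f p p) • p) ((hP _).mpr (by
        rw [B.sub_left, B.smul_left, div_mul_cancel₀ _ hp, sub_self])))).symm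
    have h3 := finrank_span_singleton (K := F) (show p ≠ 0 by rintro rfl; exact hp (B.zero_left _))
    rw [h1, finrank_top] at h3
    omega
  have hqp : B.f q p = 0 := (hP q).mp hqP
  have hpq : B.f p q = 0 := by rw [B.herm q p, hqp, map_zero]
  obtain ⟨l, hl0, hiso⟩ := exists_isotropic hB hp hq hpq
  have e : B.f p p + l * B.σ l * B.f q q = 0 := by
    have := hiso
    rw [B.add_left, B.add_right, B.add_right, B.smul_left, B.smul_left, B.smul_right, B.smul_right, hpq, hqp] at this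
    linear_combination this
  have hiso' : B.f (p - l • q) (p - l • q) = 0 := by
    rw [B.sub_left, B.sub_right, B.sub_right, B.smul_left, B.smul_left, B.smul_right, B.smul_right, hpq, hqp]
    linear_combination e
  have hpair : B.f (p + l • q) (p - l • q) = 2 * B.f p p := by
    rw [B.add_left, B.sub_right, B.sub_right, B.smul_left, B.smul_left, B.smul_right, B.smul_right, hpq, hqp]
    linear_combination -e
  refine ⟨p + l • q, B.σ (c / (2 * B.f p p)) • (p - l • q), fun e0 => ?_, hiso, ?_, ?_⟩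
  · rw [e0, B.zero_left] at hpair
    exact mul_ne_zero h2 hp hpair.symm
  · rw [B.smul_left, B.smul_right, hiso']; ring
  · rw [B.smul_right, B.invol, hpair, div_mul_cancel₀ _ (mul_ne_zero h2 hp)]

theorem compat_sub (hC : B.Compat Φ) (hxz : Φ.sg x z = -1) (hs0 : s ≠ 0)
    (hs : ∀ v, Φ.u x (Φ.u x v) = (s * s) • v) :
    (B.onEig hC x hs0 hs).Compat (Φ.sub x z hxz s hs0 hs) := by
  intro p
  refine ⟨fun v w => (hC p).1 (v : V) (w : V), fun hW t ht => (hC p).2 ?_ t ?_⟩
  · rcases B.cases with h | h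
    · exfalso
      obtain ⟨v, hv⟩ := (Φ.sub x z hxz s hs0 hs).exists_ne
      exact hv (hW.1 v fun w => h.1 _ _)
    · exact h
  · obtain ⟨d, -, hd⟩ := Φ.sq p
    obtain ⟨v, hv⟩ := (Φ.sub x z hxz s hs0 hs).exists_ne
    have h1 := congrArg Subtype.val (ht v)
    rw [Data.sub_u_apply, Data.sub_u_apply, hd, Submodule.coe_smul] at h1
    intro y
    rw [hd, smul_left_injective F (fun e => hv (Subtype.ext e)) h1]

/-- In a hermitian eigenspace of dimension at least four. -/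
theorem exists_trans_heis (hG : Φ.Full G) (hr : Φ.Roots) (hC : B.Compat Φ) (hB : B.IsHerm)
    (hxz : Φ.sg x z = -1) (hs0 : s ≠ 0) (hs : ∀ v, Φ.u x (Φ.u x v) = (s * s) • v)
    (hbig : (B.onEig hC x hs0 hs).Big (Φ.induced G x s)) {b b' : Φ.rest x z}
    (hbb : Φ.sg (b : A) b' = -1) (hdim : 4 ≤ finrank F (Φ.eig x s)) :
    ∃ a t, a ≠ 0 ∧ (B.onEig hC x hs0 hs).f a a = 0 ∧ t ≠ 0 ∧ t + B.σ t = 0 ∧
      (B.onEig hC x hs0 hs).HasU (supported Φ G x s) a t := by
  have hx : x ≠ 0 := by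
    rintro rfl
    rw [Φ.sg_symm, Φ.sg_zero] at hxz
    exact Φ.one_ne_neg hxz
  obtain ⟨hb, hbz⟩ := Φ.mem_perp_two.mp b.2
  have hb0' : (b : A) ≠ 0 := by
    intro e
    rw [e, Φ.sg_symm, Φ.sg_zero] at hbb
    exact Φ.one_ne_neg hbb
  have hbx : (b : A) ≠ x := by
    intro e
    rw [e, Φ.sg_symm, hxz] at hbz
    exact Φ.one_ne_neg hbz.symm
  obtain ⟨W, hWd⟩ : ∃ W, W = B.onEig hC x hs0 hs := ⟨_, rfl⟩
  have hW : W.IsHerm := by rw [hWd]; exact onEig_herm hB hC x hs0 hs
  have hWσ : ∀ c, W.σ c = B.σ c := fun c => by rw [hWd]; rfl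
  set Ψ := Φ.sub x z hxz s hs0 hs with hΨ
  have hCW : W.Compat Ψ := by rw [hWd]; exact compat_sub hC hxz hs0 hs
  obtain ⟨r, hr0, hrr⟩ := hr b
  have hrW : ∀ v, Ψ.u b (Ψ.u b v) = (r * r) • v := fun v => Subtype.ext (hrr v)
  have hrW' : ∀ v, Ψ.u b (Ψ.u b v) = (-r * -r) • v := fun v => by rw [neg_mul_neg]; exact hrW v
  have hrn : r * B.σ r = 1 := (hC b).2 hB r hrr
  have hd1 := Data.finrank_eig (Φ := Ψ) (x := b) (z := b') hbb hr0 hrW
  have hd2 := Data.finrank_eig (Φ := Ψ) (x := b) (z := b') hbb (neg_ne_zero.mpr hr0) hrW'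
  obtain ⟨θ, hθ0, hθ⟩ := hB.exists_skew
  obtain ⟨a, -, ha0, haa, -, -⟩ := exists_hyperbolic (B := W.onEig hCW b hr0 hrW)
    (onEig_herm hW hCW b hr0 hrW) Φ.two (by omega) 0
  obtain ⟨c1, c2, -, hc11, hc22, hc12⟩ := exists_hyperbolic (B := W.onEig hCW b (neg_ne_zero.mpr hr0) hrW')
    (onEig_herm hW hCW b (neg_ne_zero.mpr hr0) hrW') Φ.two (by omega) θ
  have hRa : Ψ.u b a.1 = r • a.1 := Ψ.mem_eig.mp a.2
  have hR1 : Ψ.u b c1.1 = -r • c1.1 := Ψ.mem_eig.mp c1.2
  have hR2 : Ψ.u b c2.1 = -r • c2.1 := Ψ.mem_eig.mp c2.2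
  have h1a : W.f c1.1 a.1 = 0 := by
    rw [W.herm a.1 c1.1, hW.eig_orth hCW hrW hRa hR1, map_zero]
  have h2a : W.f c2.1 a.1 = 0 := by
    rw [W.herm a.1 c2.1, hW.eig_orth hCW hrW hRa hR2, map_zero]
  have ha1 : W.f a.1 c1.1 = 0 := hW.eig_orth hCW hrW hRa hR1
  have ha2 : W.f a.1 c2.1 = 0 := hW.eig_orth hCW hrW hRa hR2
  have haa : W.f a.1 a.1 = 0 := haa
  have hc11 : W.f c1.1 c1.1 = 0 := hc11
  have hc22 : W.f c2.1 c2.1 = 0 := hc22
  have hc12 : W.f c1.1 c2.1 = θ := hc12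
  have hc21 : W.f c2.1 c1.1 = -θ := by rw [W.herm c1.1 c2.1, hc12, hWσ]; linear_combination hθ
  -- the commutator of the frame map with a transvection of centre `a + c`
  have hk : ∀ c : Φ.eig x s, Ψ.u b c = -r • c → W.f c a.1 = 0 → W.f a.1 c = 0 → W.f c c = 0 →
      ∃ g ∈ supported Φ G x s, (∀ v, g v = v + (-2 * θ * W.f v c) • a.1 + (-2 * θ * W.f v a.1) • c) ∧
        ∀ v, g⁻¹ v = v + (2 * θ * W.f v c) • a.1 + (2 * θ * W.f v a.1) • c := by
    intro c hRc hca hac hcc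
    have hiso : W.f (a.1 + c) (a.1 + c) = 0 := by
      rw [W.add_left, W.add_right, W.add_right, haa, hac, hca, hcc]; ring
    have hT : W.utrans (a.1 + c) θ hiso ∈ (Φ.induced G x s).comap (pr F _) := by
      subst hWd
      exact mem_induced_utrans hbig _ θ hiso hθ
    obtain ⟨k, e, he, hkG, hkx, hkv⟩ := exists_lift hbig _ hT
    refine ⟨_, comm_mem hG hx hs0 hs hb hb0' hbx he hkG hkx hkv, ?_⟩
    set R := Data.restr (Φ.u (b : A)) (Data.u_mem_eig (s := s) (Φ.mem_cen.mpr hb)) with hR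
    have hRΨ : ∀ v, R v = Ψ.u b v := fun v => rfl
    have hRi : ∀ v, R (R⁻¹ v) = v := R.apply_symm_apply
    set T := W.utrans (a.1 + c) θ hiso with hTd
    have hTi : ∀ v, T⁻¹ v = v - (θ * W.f v (a.1 + c)) • (a.1 + c) := fun v => T.injective (by
      rw [show T (T⁻¹ v) = v from T.apply_symm_apply v, hTd, W.utrans_apply, W.sub_left, W.smul_left, hiso, mul_zero,
        sub_zero, sub_add_cancel])
    have hRf : ∀ v, W.f (R⁻¹ v) (a.1 + c) = B.σ r⁻¹ * (W.f v (a.1 - c) ) * 1 ∨ True := fun v => Or.inr trivial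
    have hRf' : ∀ v, W.f (R⁻¹ v) (a.1 + c) = B.σ r * W.f v (a.1 - c) := fun v => by
      have h1 := (hCW b).1 (R⁻¹ v) (a.1 + c)
      rw [← h1, ← hRΨ (R⁻¹ v), hRi, map_add, hRa, hRc,
        show r • a.1 + -r • c = r • (a.1 - c) by module, W.smul_right, hWσ]
    have hRac : R (a.1 + c) = r • (a.1 - c) := by rw [hRΨ, map_add, hRa, hRc]; module
    have hgv : ∀ v, (R * T * R⁻¹ * T⁻¹) v = v + (-2 * θ * W.f v c) • a.1 + (-2 * θ * W.f v a.1) • c := fun v => by
      simp only [LinearEquiv.mul_apply, hTi]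
      rw [show T (R⁻¹ (v - (θ * W.f v (a.1 + c)) • (a.1 + c))) = R⁻¹ (v - (θ * W.f v (a.1 + c)) • (a.1 + c))
          + (θ * W.f (R⁻¹ (v - (θ * W.f v (a.1 + c)) • (a.1 + c))) (a.1 + c)) • (a.1 + c) from rfl,
        map_add, map_smul, hRi, hRac, hRf', smul_smul]
      simp only [W.sub_left, W.smul_left, W.sub_right, W.add_left, W.add_right, haa, hac, hca, hcc]
      match_scalars <;> first | ring1 | linear_combination (θ * (W.f v a.1 - W.f v c)) * hrn | linear_combination -(θ * (W.f v a.1 - W.f v c)) * hrn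
    refine ⟨hgv, fun v => ?_⟩
    set g := R * T * R⁻¹ * T⁻¹ with hg
    refine g.injective ?_
    rw [show g (g⁻¹ v) = v from g.apply_symm_apply v, hgv]
    simp only [W.add_left, W.smul_left, haa, hac, hca, hcc]
    module
  obtain ⟨g1, hg1, e1, e1'⟩ := hk c1.1 hR1 h1a ha1 hc11
  obtain ⟨g2, hg2, e2, e2'⟩ := hk c2.1 hR2 h2a ha2 hc22
  refine ⟨a.1, -8 * θ * θ * θ, fun e => ha0 (Subtype.ext e), ?_, ?_, ?_, g1 * g2 * g1⁻¹ * g2⁻¹, ?_, fun v => ?_⟩
  · rw [← hWd]; exact haa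
  · have h8 : (-8 : F) = -(2 * 2 * 2) := by norm_num
    rw [h8]
    exact mul_ne_zero (mul_ne_zero (mul_ne_zero (neg_ne_zero.mpr (mul_ne_zero (mul_ne_zero Φ.two Φ.two) Φ.two)) hθ0)
      hθ0) hθ0
  · rw [map_mul, map_mul, map_mul, map_neg, map_ofNat, eq_neg_of_add_eq_zero_right hθ]
    ring
  · exact Subgroup.mul_mem _ (Subgroup.mul_mem _ (Subgroup.mul_mem _ hg1 hg2) (Subgroup.inv_mem _ hg1))
      (Subgroup.inv_mem _ hg2)
  · rw [← hWd]
    simp only [LinearEquiv.mul_apply, e1, e2, e1', e2', W.add_left, W.smul_left, haa, ha1, ha2, h1a, h2a, hc11, hc22,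
      hc12, hc21]
    match_scalars <;> ring

end Geom

end Cfsg.Agent.Classical.Frame
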