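/-
From one supported transvection to all transvections.
-/
import Cfsg.Agent.Lib.Classical.Frame.BigHeis

set_option autoImplicit false
set_option linter.unusedSectionVars false

namespace Cfsg.Agent.Classical.Frame

open Module

universe u v w

variable {F : Type u} [Field F] {V : Type v} [AddCommGroup V] [Module F V] [FiniteDimensional F V]
  {A : Type w} [AddCommGroup A] [Finite A]

namespace Geom

variable {B : Geom F V} {Φ : Data F V A} {G : Subgroup (PG F V)}

/-- The elements of `G` are similitudes. -/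
def Pres (B : Geom F V) (G : Subgroup (PG F V)) : Prop :=
  ∀ g : V ≃ₗ[F] V, pr F V g ∈ G → ∃ μ : F, μ ≠ 0 ∧ ∀ v w, B.f (g v) (g w) = μ * B.f v w

/-- All isometric transvections inside an eigenspace of `u x` lie in `G`. -/
def EigAll (B : Geom F V) (Φ : Data F V A) (G : Subgroup (PG F V)) (x : A) : Prop :=
  ∀ (s : F) (g : V ≃ₗ[F] V) (a : V) (φ : V →ₗ[F] F), a ∈ Φ.eig x s → (∀ v ∈ Φ.eig x (-s), φ v = 0) →
    (∀ v, g v = v + φ v • a) → φ a = 0 → B.Isom g → pr F V g ∈ G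

theorem root_of_mem {x : A} {s : F} {a : V} (ha : a ∈ Φ.eig x s) (ha0 : a ≠ 0) :
    s ≠ 0 ∧ ∀ v, Φ.u x (Φ.u x v) = (s * s) • v := by
  rw [Φ.mem_eig] at ha
  refine ⟨?_, fun v => ?_⟩
  · rintro rfl
    exact ha0 ((Φ.u x).map_eq_zero_iff.mp (by rw [ha, zero_smul]))
  · obtain ⟨d, -, hd⟩ := Φ.sq x
    have h := hd a
    rw [ha, map_smul, ha, smul_smul] at h
    rw [hd, smul_left_injective F ha0 h]

theorem restr_trans {x : A} {s : F} {g : V ≃ₗ[F] V} {a : V} {φ : V →ₗ[F] F} (ha : a ∈ Φ.eig x s)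
    (hg : ∀ v, g v = v + φ v • a) : ∀ v ∈ Φ.eig x s, g v ∈ Φ.eig x s := fun v hv => by
  rw [hg]; exact add_mem hv (Submodule.smul_mem _ _ ha)

/-- All transvections of one eigenspace, from one. -/
theorem supported_all {x : A} {s : F} {hC : B.Compat Φ} {hs0 : s ≠ 0}
    {hs : ∀ v, Φ.u x (Φ.u x v) = (s * s) • v} (h2 : (2 : F) ≠ 0)
    (hN : (B.onEig hC x hs0 hs).Normed (supported Φ G x s))
    (hone : (B.IsZero ∧ ∃ a φ, a ≠ 0 ∧ φ ≠ 0 ∧ Has (supported Φ G x s) a φ) ∨
      (B.IsHerm ∧ ∃ a t, a ≠ 0 ∧ (B.onEig hC x hs0 hs).f a a = 0 ∧ t ≠ 0 ∧ t + B.σ t = 0 ∧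
        (B.onEig hC x hs0 hs).HasU (supported Φ G x s) a t))
    {g : V ≃ₗ[F] V} {a : V} {φ : V →ₗ[F] F} (ha : a ∈ Φ.eig x s) (hφ : ∀ v ∈ Φ.eig x (-s), φ v = 0)
    (hg : ∀ v, g v = v + φ v • a) (hφa : φ a = 0) (hi : B.Isom g) : pr F V g ∈ G := by
  set σ := Data.restr g (restr_trans ha hg) with hσd
  have hσ : ∀ v, σ v = v + (φ.domRestrict (Φ.eig x s)) v • (⟨a, ha⟩ : Φ.eig x s) := fun v => Subtype.ext (hg v)
  suffices hmem : σ ∈ supported Φ G x s by
    obtain ⟨g', hg', e1, e2⟩ := hmem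
    have e : g = g' := LinearEquiv.ext fun v => by
      obtain ⟨p, hp, q, hq, rfl⟩ := decomp hs0 hs v
      rw [map_add, map_add, e2 q hq, e1 ⟨p, hp⟩, hg q, hφ q hq, zero_smul, add_zero]
      rfl
    exact e ▸ hg'
  rcases hone with ⟨hB, a0, φ0, ha0, hφ0, h0⟩ | ⟨hB, a0, t0, ha0, ha00, ht00, ht0, h0⟩
  · exact ((onEig_zero hB hC x hs0 hs).has_all hN h0 ha0 hφ0 (a := ⟨a, ha⟩) (φ := φ.domRestrict (Φ.eig x s))
      hφa).mem hσ
  · have hW := onEig_herm hB hC x hs0 hs
    have hiσ : (B.onEig hC x hs0 hs).Isom σ := fun v w => hi (v : V) (w : V)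
    by_cases htriv : φ.domRestrict (Φ.eig x s) = 0 ∨ (⟨a, ha⟩ : Φ.eig x s) = 0
    · have e : σ = 1 := LinearEquiv.ext fun v => by
        rw [hσ]
        rcases htriv with h | h <;> rw [h] <;> simp
      rw [e]
      exact (supported Φ G x s).one_mem
    push Not at htriv
    obtain ⟨haa, t, ht, hshape⟩ := hW.shape hσ hφa hiσ htriv.1 htriv.2
    obtain ⟨h, hh, hhe⟩ := hW.hasU_of_one h2 hN ha00 ha0 ht00 ht0 h0 haa ht
    exact (LinearEquiv.ext fun v => by rw [hσ, hhe, hshape] : σ = h) ▸ hh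

/-- A similitude in `G` carrying `u x` to `u x'` carries the property of `x` to `x'`. -/
theorem EigAll.transport {x x' : A} (h : B.EigAll Φ G x) (hP : B.Pres G) {k : V ≃ₗ[F] V} (hk : pr F V k ∈ G)
    {c : F} (hkx : ∀ v, k (Φ.u x v) = c • Φ.u x' (k v)) : B.EigAll Φ G x' := by
  intro s g a φ ha hφ hg hφa hi
  have hk1 : ∀ y, k (k⁻¹ y) = y := k.apply_symm_apply
  have hmap : ∀ (t : F) (y : V), y ∈ Φ.eig x (c * t) ↔ k y ∈ Φ.eig x' t ∨ c = 0 := by
    intro t y
    rw [Φ.mem_eig, Φ.mem_eig]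
    constructor
    · intro e
      rcases eq_or_ne c 0 with hc | hc
      · exact Or.inr hc
      · left
        have h1 := hkx y
        rw [e, map_smul, mul_smul] at h1
        exact (smul_right_injective V hc h1).symm
    · rintro (e | e)
      · exact k.injective (by rw [hkx, e, map_smul, smul_smul])
      · exact k.injective (by rw [hkx, e, zero_mul, zero_smul, zero_smul, map_zero])
  have hc : c ≠ 0 := by
    rintro rfl
    obtain ⟨v, hv⟩ := Φ.exists_ne
    exact hv ((Φ.u x).map_eq_zero_iff.mp (k.map_eq_zero_iff.mp (by rw [hkx, zero_smul])))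
  obtain ⟨μ, hμ, hkf⟩ := hP k hk
  have hiso : B.Isom (k⁻¹ * g * k) := fun v w => by
    refine mul_left_cancel₀ hμ ?_
    rw [← hkf, ← hkf, LinearEquiv.mul_apply, LinearEquiv.mul_apply, LinearEquiv.mul_apply, LinearEquiv.mul_apply,
      hk1, hk1]
    exact hi (k v) (k w)
  have h1 := h (c * s) (k⁻¹ * g * k) (k⁻¹ a) (φ.comp k.toLinearMap) ((hmap s _).mpr (Or.inl (by rwa [hk1])))
    (fun v hv => hφ (k v) (((hmap (-s) v).mp (by rwa [mul_neg])).resolve_right hc))
    (fun v => k.injective (by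
      rw [LinearEquiv.mul_apply, LinearEquiv.mul_apply, hk1, hg, map_add, map_smul, hk1]
      rfl))
    (by show φ (k (k⁻¹ a)) = 0; rw [hk1, hφa]) hiso
  rw [map_mul, map_mul, map_inv] at h1
  have h2 := G.mul_mem (G.mul_mem hk h1) (G.inv_mem hk)
  rwa [show pr F V k * ((pr F V k)⁻¹ * pr F V g * pr F V k) * (pr F V k)⁻¹ = pr F V g by group] at h2

theorem eigAll_of_one {x : A} {s : F} {hC : B.Compat Φ} {hs0 : s ≠ 0}
    {hs : ∀ v, Φ.u x (Φ.u x v) = (s * s) • v} (hx : x ≠ 0) (hG : Φ.Full G) (hP : B.Pres G)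
    (hbig : (B.onEig hC x hs0 hs).Big (Φ.induced G x s))
    (hone : (B.IsZero ∧ ∃ a φ, a ≠ 0 ∧ φ ≠ 0 ∧ Has (supported Φ G x s) a φ) ∨
      (B.IsHerm ∧ ∃ a t, a ≠ 0 ∧ (B.onEig hC x hs0 hs).f a a = 0 ∧ t ≠ 0 ∧ t + B.σ t = 0 ∧
        (B.onEig hC x hs0 hs).HasU (supported Φ G x s) a t)) :
    ∀ y : A, y ≠ 0 → B.EigAll Φ G y := by
  have hplus : ∀ (g : V ≃ₗ[F] V) (a : V) (φ : V →ₗ[F] F), a ∈ Φ.eig x s → (∀ v ∈ Φ.eig x (-s), φ v = 0) →
      (∀ v, g v = v + φ v • a) → φ a = 0 → B.Isom g → pr F V g ∈ G :=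
    fun g a φ ha hφ hg hφa hi => supported_all Φ.two (normed_supported hbig) hone ha hφ hg hφa hi
  have hself : B.EigAll Φ G x := by
    intro t g a φ ha hφ hg hφa hi
    rcases eq_or_ne a 0 with rfl | ha0
    · have e : g = 1 := LinearEquiv.ext fun v => by rw [hg, smul_zero, add_zero]; rfl
      rw [e, map_one]; exact G.one_mem
    obtain ⟨-, ht⟩ := root_of_mem ha ha0
    obtain ⟨v0, hv0⟩ := Φ.exists_ne
    have hst : t * t = s * s := smul_left_injective F hv0 ((ht v0).symm.trans (hs v0))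
    rcases mul_self_eq_mul_self_iff.mp hst with e | e <;> subst e
    · exact hplus g a φ ha hφ hg hφa hi
    · obtain ⟨z, hxz⟩ := Φ.nd x hx
      have hk1 : ∀ y, Φ.u z ((Φ.u z)⁻¹ y) = y := (Φ.u z).apply_symm_apply
      have hmove : ∀ (r : F) (y : V), Φ.u z y ∈ Φ.eig x r → y ∈ Φ.eig x (-r) := fun r y hy => by
        rw [Φ.mem_eig] at hy ⊢
        refine (Φ.u z).injective ?_
        rw [map_smul, Φ.comm z x, Φ.sg_symm x z, hxz, hy, neg_one_smul, neg_smul]
      have hmove' : ∀ (r : F) (y : V), y ∈ Φ.eig x r → Φ.u z y ∈ Φ.eig x (-r) := fun r y hy => by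
        rw [Φ.mem_eig] at hy ⊢
        rw [Φ.comm x z, hxz, hy, map_smul, smul_smul, neg_one_mul]
      have h1 := hplus ((Φ.u z)⁻¹ * g * Φ.u z) ((Φ.u z)⁻¹ a) (φ.comp (Φ.u z).toLinearMap)
        (by have := hmove (-s) ((Φ.u z)⁻¹ a) (by rwa [hk1]); rwa [neg_neg] at this)
        (fun v hv => hφ _ (hmove' (-s) v hv))
        (fun v => (Φ.u z).injective (by
          rw [LinearEquiv.mul_apply, LinearEquiv.mul_apply, hk1, hg, map_add, map_smul, hk1]; rfl))
        (by show φ (Φ.u z ((Φ.u z)⁻¹ a)) = 0; rw [hk1, hφa])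
        (Isom.mul B (Isom.mul B (Isom.inv B (hC z).1) hi) (hC z).1)
      have he : pr F V (Φ.u z) ∈ G := hG.le (Φ.e_mem z)
      rw [map_mul, map_mul, map_inv] at h1
      have h2 := G.mul_mem (G.mul_mem he h1) (G.inv_mem he)
      rwa [show pr F V (Φ.u z) * ((pr F V (Φ.u z))⁻¹ * pr F V g * pr F V (Φ.u z)) * (pr F V (Φ.u z))⁻¹ = pr F V g
        by group] at h2
  intro y hy
  obtain ⟨n, hn, f, hf, hfx⟩ := Data.exists_move_top hG.single hx hy
  obtain ⟨k, rfl⟩ := pr_surjective n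
  obtain ⟨c, hc⟩ := pr_conj.mp (hfx ▸ hf x)
  exact hself.transport hP hn hc

/-- The preimage of `G`. -/
def lift (G : Subgroup (PG F V)) : Subgroup (V ≃ₗ[F] V) := G.comap (pr F V)

/-- The projection on an eigenspace. -/
noncomputable def proj (Φ : Data F V A) (x : A) (s : F) : V →ₗ[F] V := (2 * s)⁻¹ • (Φ.m x + s • LinearMap.id)

theorem proj_self {x : A} {s : F} (hs0 : s ≠ 0) {v : V} (hv : v ∈ Φ.eig x s) : proj Φ x s v = v := by
  rw [Φ.mem_eig] at hv
  show (2 * s)⁻¹ • (Φ.u x v + s • v) = v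
  rw [hv, ← add_smul, ← two_mul, inv_smul_smul₀ (mul_ne_zero Φ.two hs0)]

theorem proj_other {x : A} {s : F} {v : V} (hv : v ∈ Φ.eig x (-s)) : proj Φ x s v = 0 := by
  rw [Φ.mem_eig] at hv
  show (2 * s)⁻¹ • (Φ.u x v + s • v) = 0
  rw [hv, ← add_smul, neg_add_cancel, zero_smul, smul_zero]

/-- **Prime field: all transvections.** -/
theorem big_of_eigAll_zero (hB : B.IsZero) (hall : ∀ y : A, y ≠ 0 → B.EigAll Φ G y) (hr : Φ.Roots) {x b : A}
    (hx : x ≠ 0) (hb : Φ.sg x b = 1) (hbn : b ∉ AddSubgroup.zmultiples x) : B.Big G := by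
  obtain ⟨s, hs0, hs⟩ := hr x
  obtain ⟨r, hr0, hrr⟩ := hr b
  have hiso : ∀ g : V ≃ₗ[F] V, B.Isom g := isom_of_zero B hB
  have hb0 : b ≠ 0 := fun e => hbn (e ▸ zero_mem _)
  have hH : ∀ {y : A} {t : F}, y ≠ 0 → t ≠ 0 → ∀ {a : V} {φ : V →ₗ[F] F}, a ∈ Φ.eig y t → φ a = 0 →
      Has (lift G) a (φ.comp (proj Φ y t)) := by
    intro y t hy ht a φ ha hφ
    have h0 : (φ.comp (proj Φ y t)) a = 0 := by rw [LinearMap.comp_apply, proj_self ht ha, hφ]
    exact ⟨h0, LinearEquiv.transvection h0,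
      hall y hy t _ a _ ha (fun v hv => by rw [LinearMap.comp_apply, proj_other hv, map_zero]) (fun v => rfl) h0
        (hiso _), fun v => rfl⟩
  have conj : ∀ {a c : V} {φ ψ : V →ₗ[F] F}, Has (lift G) a φ → Has (lift G) c ψ →
      Has (lift G) (a + ψ a • c) (φ - φ c • ψ) := by
    intro a c φ ψ h h'
    obtain ⟨hψ, σ, hσG, hσ⟩ := h'
    obtain ⟨hφ, g, hg, hge⟩ := h
    have hσi : ∀ v, σ⁻¹ v = v - ψ v • c := fun v => σ.injective (by
      rw [show σ (σ⁻¹ v) = v from σ.apply_symm_apply v, hσ, map_sub, map_smul, hψ, smul_zero, sub_zero,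
        sub_add_cancel])
    refine ⟨by simp [hφ, hψ]; ring, σ * g * σ⁻¹, Subgroup.mul_mem _ (Subgroup.mul_mem _ hσG hg)
      (Subgroup.inv_mem _ hσG), fun v => ?_⟩
    rw [LinearEquiv.mul_apply, LinearEquiv.mul_apply, hge, map_add, map_smul,
      show σ (σ⁻¹ v) = v from σ.apply_symm_apply v, hσ a, hσi]
    simp [mul_comm]
  have smul : ∀ {a : V} {φ : V →ₗ[F] F}, Has (lift G) a φ → ∀ c : F, Has (lift G) a (c • φ) := by
    intro a φ h c
    obtain ⟨n, rfl⟩ := hB.2 c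
    exact h.natMul n
  -- every functional, for a vector of an eigenspace of `u x`
  have block : ∀ t : F, t ≠ 0 → (∀ v, Φ.u x (Φ.u x v) = (t * t) • v) → ∀ {a : V} {φ : V →ₗ[F] F},
      a ∈ Φ.eig x t → φ a = 0 → Has (lift G) a φ := by
    intro t ht0 ht
    obtain ⟨a0, ha00, ha0x, ha0b⟩ := Φ.exists_joint (by rw [Φ.sg_symm]; exact hb) hbn hx ht hrr
    obtain ⟨y, hy0, hyx, hyb⟩ :=
      Φ.exists_joint (s := -t) (by rw [Φ.sg_symm]; exact hb) hbn hx (by simpa using ht) hrr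
    have hya : ∀ c : F, c • a0 ≠ y := by
      intro c e
      have h1 : Φ.u x y = t • y := by rw [← e, map_smul, ha0x, smul_comm]
      rw [hyx] at h1
      have h2 : (2 * t) • y = 0 := by linear_combination (norm := module) -h1
      exact hy0 ((smul_eq_zero.mp h2).resolve_left (mul_ne_zero Φ.two ht0))
    obtain ⟨η, hη0, hη1⟩ := exists_dual_two ha00 hya (0 : F) 1
    have hy' : y ∈ Φ.eig x (-t) := Φ.mem_eig.mpr hyx
    have hax : a0 ∈ Φ.eig x t := Φ.mem_eig.mpr ha0x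
    have h1 : Has (lift G) a0 (η.comp (proj Φ b r)) := hH hb0 hr0 (Φ.mem_eig.mpr ha0b) hη0
    have h2 : Has (lift G) a0 ((η.comp (proj Φ b r)).comp (proj Φ x t)) := hH hx ht0 hax h1.1
    obtain ⟨η', hη'⟩ : ∃ η', η' = η.comp (proj Φ b r) + (-1 : F) • (η.comp (proj Φ b r)).comp (proj Φ x t) :=
      ⟨_, rfl⟩
    have h3 : Has (lift G) a0 η' := hη' ▸ h1.add (smul h2 (-1))
    have hη'W : ∀ v ∈ Φ.eig x t, η' v = 0 := fun v hv => by
      rw [hη']; simp [proj_self ht0 hv]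
    have hη'y : η' y = 1 := by
      rw [hη']; simp [proj_other hy', proj_self hr0 (Φ.mem_eig.mpr hyb), hη1]
    -- every functional killing the eigenspace
    have kill : ∀ ψ : V →ₗ[F] F, (∀ v ∈ Φ.eig x t, ψ v = 0) → Has (lift G) a0 ψ := by
      intro ψ hψ
      by_cases hs : ∀ v ∈ Φ.eig x (-t), η' v = 0 → ψ v = 0
      · have e : ψ = ψ y • η' := by
          refine LinearMap.ext fun v => ?_
          obtain ⟨p, hp, q, hq, rfl⟩ := decomp ht0 ht v
          have hq' := hs (q - η' q • y) (Submodule.sub_mem _ hq (Submodule.smul_mem _ _ hy'))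
            (by rw [map_sub, map_smul, hη'y, smul_eq_mul, mul_one, sub_self])
          rw [map_sub, map_smul, smul_eq_mul, sub_eq_zero] at hq'
          rw [LinearMap.smul_apply, map_add, map_add, hψ p hp, hη'W p hp, hq', smul_eq_mul]
          ring
        rw [e]
        exact smul h3 _
      · push Not at hs
        obtain ⟨c, hc, hc1, hc2⟩ := hs
        obtain ⟨b0, hb0', hb1, hb2⟩ : ∃ b0 ∈ Φ.eig x (-t), η' b0 = -1 ∧ ψ b0 = 0 := by
          refine ⟨-(y - (ψ y / ψ c) • c), Submodule.neg_mem _ (Submodule.sub_mem _ hy' (Submodule.smul_mem _ _ hc)),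
            ?_, ?_⟩
          · rw [map_neg, map_sub, map_smul, hη'y, hc1, smul_zero, sub_zero]
          · rw [map_neg, map_sub, map_smul, smul_eq_mul, div_mul_cancel₀ _ hc2, sub_self, neg_zero]
        have h4 := hH hx (neg_ne_zero.mpr ht0) hb0' hb2
        have e : ψ.comp (proj Φ x (-t)) = ψ := LinearMap.ext fun v => by
          obtain ⟨p, hp, q, hq, rfl⟩ := decomp ht0 ht v
          rw [LinearMap.comp_apply, map_add, map_add, proj_other (by rwa [neg_neg]), map_add, map_zero,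
            proj_self (neg_ne_zero.mpr ht0) hq, hψ p hp]
        rw [e] at h4
        have h5 := conj h3 h4
        rw [hψ a0 hax, zero_smul, add_zero, hb1] at h5
        have h6 := h5.add (smul h3 (-1))
        rwa [show η' - (-1 : F) • ψ + (-1 : F) • η' = ψ by module] at h6
    intro a φ ha hφ
    rcases eq_or_ne a 0 with rfl | hane
    · exact ⟨hφ, 1, Subgroup.one_mem _, fun v => by simp⟩
    have h7 := hH hx ht0 ha hφ
    have hkill : ∀ v ∈ Φ.eig x t, (φ - φ.comp (proj Φ x t)) v = 0 := fun v hv => by simp [proj_self ht0 hv]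
    suffices h8 : Has (lift G) a (φ - φ.comp (proj Φ x t)) by
      have h9 := h8.add h7
      rwa [sub_add_cancel] at h9
    generalize φ - φ.comp (proj Φ x t) = ψ at hkill
    by_cases hdep : ∃ c : F, c • a0 = a
    · obtain ⟨c, rfl⟩ := hdep
      obtain ⟨-, g, hg, hge⟩ := kill (c • ψ) fun v hv => by simp [hkill v hv]
      exact ⟨hkill _ ha, g, hg, fun v => by rw [hge]; simp [mul_comm c, smul_smul]⟩
    · push Not at hdep
      obtain ⟨χ, hχ0, hχa⟩ := exists_dual_two ha00 hdep (1 : F) 1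
      have hmem : a - a0 ∈ Φ.eig x t := Submodule.sub_mem _ ha hax
      have h5 := conj (kill ψ hkill) (hH hx ht0 hmem (show χ (a - a0) = 0 by rw [map_sub, hχ0, hχa, sub_self]))
      rwa [LinearMap.comp_apply, proj_self ht0 hax, hχ0, one_smul, add_sub_cancel, hkill _ hmem, zero_smul,
        sub_zero] at h5
  intro g a φ hg hφa _
  suffices h : Has (lift G) a φ from h.mem hg
  obtain ⟨p, hp, q, hq, rfl⟩ := decomp hs0 hs a
  have hs' : ∀ v, Φ.u x (Φ.u x v) = (-s * -s) • v := fun v => by rw [neg_mul_neg]; exact hs v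
  rcases eq_or_ne p 0 with rfl | hp0
  · rw [zero_add] at hφa ⊢
    exact block (-s) (neg_ne_zero.mpr hs0) hs' hq hφa
  rcases eq_or_ne q 0 with rfl | hq0
  · rw [add_zero] at hφa ⊢
    exact block s hs0 hs hp hφa
  obtain ⟨χ, hχ⟩ := exists_ne_of_ne (F := F) hp0
  set ψ := χ.comp (proj Φ x s) with hψd
  have hψp : ψ p = 1 := by rw [hψd, LinearMap.comp_apply, proj_self hs0 hp, hχ]
  have hψq : ψ q = 0 := by rw [hψd, LinearMap.comp_apply, proj_other hq, map_zero]
  have h1 : Has (lift G) q ψ := block (-s) (neg_ne_zero.mpr hs0) hs' hq hψq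
  have h2 : Has (lift G) p (φ + φ q • ψ) := block s hs0 hs hp (by
    rw [LinearMap.add_apply, LinearMap.smul_apply, hψp, smul_eq_mul, mul_one, ← map_add, hφa])
  have h5 := conj h2 h1
  rwa [hψp, one_smul, LinearMap.add_apply, LinearMap.smul_apply, hψq, smul_zero, add_zero,
    add_sub_cancel_right] at h5

/-- The hermitian transvection has been placed in `G`. -/
theorem big_of_centres (hB : B.IsHerm) (h : ∀ a : V, B.f a a = 0 → ∀ t, t + B.σ t = 0 → B.HasU (lift G) a t) :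
    B.Big G := by
  intro g a φ hg hφa hi
  by_cases htriv : φ = 0 ∨ a = 0
  · have e : g = 1 := LinearEquiv.ext fun v => by
      rw [hg]
      rcases htriv with rfl | rfl <;> simp
    rw [e, map_one]; exact G.one_mem
  push Not at htriv
  obtain ⟨haa, t, ht, hshape⟩ := hB.shape hg hφa hi htriv.1 htriv.2
  obtain ⟨g', hg', he⟩ := h a haa t ht
  exact (LinearEquiv.ext fun v => by rw [hg, he, hshape] : g = g') ▸ hg'

/-- **Hermitian: all transvections.** -/
theorem big_of_eigAll_herm (hB : B.IsHerm) (hC : B.Compat Φ) (hall : ∀ y : A, y ≠ 0 → B.EigAll Φ G y)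
    (hr : Φ.Roots) {x b : A} (hx : x ≠ 0) (hb : Φ.sg x b = 1) (hbn : b ∉ AddSubgroup.zmultiples x)
    (hdim : ∀ s : F, s ≠ 0 → (∀ v, Φ.u x (Φ.u x v) = (s * s) • v) →
      finrank F (Φ.eig x s) = 2 ∨ 4 ≤ finrank F (Φ.eig x s)) : B.Big G := by
  obtain ⟨s, hs0, hs⟩ := hr x
  obtain ⟨r, hr0, hrr⟩ := hr b
  have hb0 : b ≠ 0 := fun e => hbn (e ▸ zero_mem _)
  have hs' : ∀ v, Φ.u x (Φ.u x v) = (-s * -s) • v := fun v => by rw [neg_mul_neg]; exact hs v
  refine big_of_centres hB ?_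
  -- the centres inside an eigenspace
  have heig : ∀ (y : A) (t : F), y ≠ 0 → ∀ a ∈ Φ.eig y t, B.f a a = 0 → ∀ c, c + B.σ c = 0 →
      B.HasU (lift G) a c := by
    intro y t hy a ha haa c hc
    refine ⟨B.utrans a c haa, ?_, fun v => rfl⟩
    refine hall y hy t _ a (B.uform a c) ha (fun v hv => ?_) (fun v => rfl) (uform_self _ c haa) (isom_utrans _ haa hc)
    show c * B.f v a = 0
    rcases eq_or_ne a 0 with rfl | ha0
    · rw [B.zero_right, mul_zero]
    obtain ⟨-, ht⟩ := root_of_mem ha ha0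
    have e : B.f v a = 0 := by
      rw [B.herm a v, hB.eig_orth hC ht (Φ.mem_eig.mp ha) (Φ.mem_eig.mp hv), map_zero]
    rw [e, mul_zero]
  let Good : V → Prop := fun a => B.f a a = 0 ∧ ∀ c, c + B.σ c = 0 → B.HasU (lift G) a c
  have hgood : ∀ {a b : V} {r : F} (hb : B.f b b = 0), Good a → Good b → r + B.σ r = 0 →
      Good (B.utrans b r hb a) := by
    intro a b r hb ⟨ha, hA⟩ ⟨_, hB'⟩ hr
    set σ := B.utrans b r hb with hσ
    have hi : B.Isom σ := isom_utrans B hb hr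
    refine ⟨by rw [hi, ha], fun c hc => ?_⟩
    obtain ⟨g, hg, hge⟩ := hA c hc
    obtain ⟨g', hg', hge'⟩ := hB' r hr
    have e : σ = g' := LinearEquiv.ext fun v => by rw [hσ, B.utrans_apply, hge']
    refine ⟨σ * g * σ⁻¹, Subgroup.mul_mem _ (Subgroup.mul_mem _ (e ▸ hg') hg) (Subgroup.inv_mem _ (e ▸ hg')),
      fun v => ?_⟩
    obtain ⟨w, rfl⟩ := σ.surjective v
    rw [LinearEquiv.mul_apply, LinearEquiv.mul_apply, show σ⁻¹ (σ w) = w from σ.symm_apply_apply w, hge, map_add,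
      map_smul, hi]
  have hblock : ∀ (t : F), t ≠ 0 → (∀ v, Φ.u x (Φ.u x v) = (t * t) • v) → ∀ {p p' : V}, p ∈ Φ.eig x t →
      p' ∈ Φ.eig x t → B.f p p ≠ 0 → B.f p' p' = B.f p p →
      ∀ q ∈ Φ.eig x (-t), Good (p + q) → Good (p' + q) := by
    intro t ht0 ht p p' hp hp' hpp hp'p q hq hpq
    let T : Subgroup (Φ.eig x t ≃ₗ[F] Φ.eig x t) :=
      { carrier := {σ | ∀ v : Φ.eig x t, Good ((v : V) + q) ↔ Good ((σ v : V) + q)}
        one_mem' := fun _ => Iff.rfl
        mul_mem' := fun {σ τ} hσ hτ v => (hτ v).trans (hσ (τ v))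
        inv_mem' := fun {σ} hσ v => by
          have e := hσ (σ⁻¹ v)
          rw [show σ (σ⁻¹ v) = v from σ.apply_symm_apply v] at e
          exact e.symm }
    have hW := onEig_herm hB hC x ht0 ht
    obtain ⟨σ, hσ, hσp⟩ := hW.norm_orbit Φ.two (hdim t ht0 ht) T (fun a c ha hc0 => fun v => by
      have hc : c + B.σ c = 0 := hc0
      have haa : B.f (a : V) a = 0 := ha
      have hqa : B.f q a = 0 := by
        rw [B.herm (a : V) q, hB.eig_orth hC ht (Φ.mem_eig.mp a.2) (Φ.mem_eig.mp hq), map_zero]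
      have hGa : Good (a : V) := ⟨haa, heig x t hx a a.2 haa⟩
      have e : ∀ d, B.utrans (a : V) d haa ((v : V) + q) = (v : V) + (d * B.f v a) • (a : V) + q := fun d => by
        rw [B.utrans_apply, B.add_left, hqa, add_zero]; abel
      constructor
      · intro h
        have h1 := hgood (r := c) haa h hGa hc
        rw [e] at h1
        exact h1
      · intro h
        have h1 := hgood (r := -c) haa h hGa (by rw [map_neg]; linear_combination -hc)
        have e2 : B.utrans (a : V) (-c) haa ((v : V) + (c * B.f v a) • (a : V) + q) = (v : V) + q := by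
          rw [B.utrans_apply, B.add_left, B.add_left, B.smul_left, haa, hqa]
          module
        exact e2 ▸ h1) (u := ⟨p, hp⟩) (u' := ⟨p', hp'⟩) (n := B.f p p) hpp rfl hp'p
    have h := (hσ ⟨p, hp⟩).mp hpq
    rwa [hσp] at h
  -- anisotropic components
  have hmix : ∀ p ∈ Φ.eig x s, ∀ q ∈ Φ.eig x (-s), B.f p p ≠ 0 → B.f (p + q) (p + q) = 0 → Good (p + q) := by
    intro p hp q hq hpp hiso
    have hpq : B.f p q = 0 := hB.eig_orth hC hs (Φ.mem_eig.mp hp) (Φ.mem_eig.mp hq)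
    have hsum : B.f p p + B.f q q = 0 := by
      rw [B.add_left, B.add_right, B.add_right, B.herm p q, hpq, map_zero] at hiso
      linear_combination hiso
    have hqq : B.f q q ≠ 0 := fun e => hpp (by linear_combination hsum - e)
    obtain ⟨p0, hp0, hp0b⟩ := exists_aniso_joint hC hB hx hs0 hs hb hbn hr0 hrr
    obtain ⟨q0, hq0, hq0b⟩ := exists_aniso_joint (s := -s) hC hB hx (neg_ne_zero.mpr hs0) hs' hb hbn hr0 hrr
    obtain ⟨l, hl⟩ := hB.2.2.2 (B.f p p / B.f (p0 : V) p0) (by rw [map_div₀, B.norm_fixed, B.norm_fixed])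
    obtain ⟨m, hm⟩ := hB.2.2.2 (B.f q q / B.f (q0 : V) q0) (by rw [map_div₀, B.norm_fixed, B.norm_fixed])
    have hp1 : B.f (l • (p0 : V)) (l • (p0 : V)) = B.f p p := by
      rw [B.smul_left, B.smul_right, ← mul_assoc, hl, div_mul_cancel₀ _ hp0]
    have hq1 : B.f (m • (q0 : V)) (m • (q0 : V)) = B.f q q := by
      rw [B.smul_left, B.smul_right, ← mul_assoc, hm, div_mul_cancel₀ _ hq0]
    have h00 : B.f (p0 : V) q0 = 0 := hB.eig_orth hC hs (Φ.mem_eig.mp p0.2) (Φ.mem_eig.mp q0.2)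
    have hstart : Good (l • (p0 : V) + m • (q0 : V)) := by
      have hiso0 : B.f (l • (p0 : V) + m • (q0 : V)) (l • (p0 : V) + m • (q0 : V)) = 0 := by
        rw [B.add_left, B.add_right, B.add_right, hp1, hq1]
        simp only [B.smul_left, B.smul_right, h00, B.herm (p0 : V) q0, map_zero, mul_zero, add_zero, zero_add]
        exact hsum
      exact ⟨hiso0, heig b r hb0 _ (Submodule.add_mem _ (Submodule.smul_mem _ _ (Φ.mem_eig.mpr hp0b))
        (Submodule.smul_mem _ _ (Φ.mem_eig.mpr hq0b))) hiso0⟩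
    have h1 := hblock s hs0 hs (Submodule.smul_mem _ l p0.2) hp (by rw [hp1]; exact hpp) hp1.symm _
      (Submodule.smul_mem _ m q0.2) hstart
    rw [add_comm] at h1
    have h2 := hblock (-s) (neg_ne_zero.mpr hs0) hs' (Submodule.smul_mem _ m q0.2) hq (by rw [hq1]; exact hqq)
      hq1.symm p (by rwa [neg_neg]) h1
    rwa [add_comm] at h2
  intro a haa
  obtain ⟨p, hp, q, hq, rfl⟩ := decomp hs0 hs a
  have hpq : B.f p q = 0 := hB.eig_orth hC hs (Φ.mem_eig.mp hp) (Φ.mem_eig.mp hq)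
  have hqp : B.f q p = 0 := by rw [B.herm p q, hpq, map_zero]
  by_cases hpp : B.f p p = 0
  swap
  · exact (hmix p hp q hq hpp haa).2
  rcases eq_or_ne q 0 with rfl | hq0
  · rw [add_zero] at haa ⊢
    exact heig x s hx p hp haa
  rcases eq_or_ne p 0 with rfl | hp0
  · rw [zero_add] at haa ⊢
    exact heig x (-s) hx q hq haa
  -- an auxiliary centre with anisotropic components
  obtain ⟨y, hy, hyy, hpy⟩ : ∃ y ∈ Φ.eig x s, B.f y y ≠ 0 ∧ B.f p y ≠ 0 := by
    have hW := onEig_herm hB hC x hs0 hs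
    obtain ⟨w, hw⟩ := nondeg_restrict hW (v := ⟨p, hp⟩) fun e => hp0 (congrArg Subtype.val e)
    have hw' : B.f p w ≠ 0 := hw
    by_cases hww : B.f (w : V) w = 0
    · refine ⟨p + (1 / B.σ (B.f p w)) • (w : V), add_mem hp (Submodule.smul_mem _ _ w.2), ?_, ?_⟩
      · have hσ := (map_ne_zero B.σ).mpr hw'
        rw [B.add_left, B.add_right, B.add_right, B.smul_left, B.smul_left, B.smul_right, B.smul_right, hpp, hww,
          B.herm p w, map_div₀, map_one, B.invol, one_div_mul_cancel hw', one_div_mul_cancel hσ]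
        intro e
        exact Φ.two (by linear_combination e)
      · rw [B.add_right, B.smul_right, hpp, map_div₀, map_one, B.invol, zero_add]
        exact mul_ne_zero (div_ne_zero one_ne_zero hw') hw'
    · exact ⟨w, w.2, hww, hw'⟩
  obtain ⟨y', hy', hyy'⟩ : ∃ y' ∈ Φ.eig x (-s), B.f y' y' = -B.f y y := by
    obtain ⟨q0, hq00, -⟩ := exists_aniso_joint (s := -s) hC hB hx (neg_ne_zero.mpr hs0) hs' hb hbn hr0 hrr
    obtain ⟨m, hm⟩ := hB.2.2.2 (-B.f y y / B.f (q0 : V) q0) (by rw [map_div₀, map_neg, B.norm_fixed, B.norm_fixed])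
    exact ⟨m • (q0 : V), Submodule.smul_mem _ _ q0.2, by
      rw [B.smul_left, B.smul_right, ← mul_assoc, hm, div_mul_cancel₀ _ hq00]⟩
  obtain ⟨e, he, hX⟩ : ∃ e : F, (e = 1 ∨ e = -1) ∧ B.f p y + e * B.f q y' ≠ 0 := by
    by_contra hh
    push Not at hh
    have h1 := hh 1 (Or.inl rfl)
    have h2 := hh (-1) (Or.inr rfl)
    exact hpy ((mul_eq_zero.mp (show (2 : F) * B.f p y = 0 by linear_combination h1 + h2)).resolve_left Φ.two)
  obtain ⟨X, hXd⟩ : ∃ X, X = B.f p y + e * B.f q y' := ⟨_, rfl⟩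
  rw [← hXd] at hX
  have hσe : B.σ e = e := by rcases he with rfl | rfl <;> simp
  have hee : e * e = 1 := by rcases he with rfl | rfl <;> simp
  have hyq : B.f y q = 0 := hB.eig_orth hC hs (Φ.mem_eig.mp hy) (Φ.mem_eig.mp hq)
  have hyy0 : B.f y y' = 0 := hB.eig_orth hC hs (Φ.mem_eig.mp hy) (Φ.mem_eig.mp hy')
  have hpy' : B.f p y' = 0 := hB.eig_orth hC hs (Φ.mem_eig.mp hp) (Φ.mem_eig.mp hy')
  have hqy : B.f q y = 0 := by rw [B.herm y q, hyq, map_zero]
  have hy'y : B.f y' y = 0 := by rw [B.herm y y', hyy0, map_zero]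
  have hYY : B.f (y + e • y') (y + e • y') = 0 := by
    rw [B.add_left, B.add_right, B.add_right, B.smul_left, B.smul_left, B.smul_right, B.smul_right, hyy0, hy'y, hyy',
      hσe]
    linear_combination -(B.f y y) * hee
  have hYgood : Good (y + e • y') := hmix y hy (e • y') (Submodule.smul_mem _ _ hy') hyy hYY
  have hXY : B.f (p + q) (y + e • y') = X := by
    rw [B.add_left, B.add_right, B.add_right, B.smul_right, B.smul_right, hpy', hqy, hσe, hXd]; ring
  -- some multiple gives an anisotropic first component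
  obtain ⟨θ, hθ0, hθ⟩ := hB.exists_skew
  have hσθ : B.σ θ = -θ := by linear_combination hθ
  have hnorm : ∀ k : F, B.σ k = k → B.f (p + (θ * k * X) • y) (p + (θ * k * X) • y) =
      (θ * k) * ((X * B.σ (B.f p y) - B.σ X * B.f p y) - (θ * k) * (X * B.σ X * B.f y y)) := fun k hk => by
    rw [B.add_left, B.add_right, B.add_right, B.smul_left, B.smul_left, B.smul_right, B.smul_right, hpp, B.herm p y,
      map_mul, map_mul, hk, hσθ]
    ring
  obtain ⟨k, hk, hk0, hne⟩ : ∃ k : F, B.σ k = k ∧ k ≠ 0 ∧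
      (X * B.σ (B.f p y) - B.σ X * B.f p y) - (θ * k) * (X * B.σ X * B.f y y) ≠ 0 := by
    by_contra hh
    push Not at hh
    have h1 := hh 1 (map_one _) one_ne_zero
    have h2 := hh (-1) (by simp) (neg_ne_zero.mpr one_ne_zero)
    exact mul_ne_zero (mul_ne_zero Φ.two hθ0) (mul_ne_zero (mul_ne_zero hX ((map_ne_zero B.σ).mpr hX)) hyy)
      (by linear_combination h2 - h1)
  have hr1 : θ * k + B.σ (θ * k) = 0 := by rw [map_mul, hk]; linear_combination k * hθ
  have hv : B.utrans (y + e • y') (θ * k) hYY (p + q) = (p + (θ * k * X) • y) + (q + (θ * k * X * e) • y') := by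
    rw [B.utrans_apply, hXY]; module
  have hgv : Good ((p + (θ * k * X) • y) + (q + (θ * k * X * e) • y')) := by
    refine hmix _ (add_mem hp (Submodule.smul_mem _ _ hy)) _ (add_mem hq (Submodule.smul_mem _ _ hy')) ?_ ?_
    · rw [hnorm k hk]; exact mul_ne_zero (mul_ne_zero hθ0 hk0) hne
    · rw [← hv, isom_utrans B hYY hr1]; exact haa
  have h3 := hgood (r := -(θ * k)) hYY hgv hYgood (by rw [map_neg]; linear_combination -hr1)
  have e2 : B.utrans (y + e • y') (-(θ * k)) hYY ((p + (θ * k * X) • y) + (q + (θ * k * X * e) • y')) = p + q := by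
    rw [← hv, B.utrans_apply, B.utrans_apply, B.add_left (p + q), B.smul_left, hYY, hXY]
    module
  rw [e2] at h3
  exact h3.2

end Geom

end Cfsg.Agent.Classical.Frame
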