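/-
Frames on a plane: Dickson's classification leaves only the normaliser and the field-type groups.
-/
import Cfsg.Agent.Lib.Classical.Frame.BigAll
import Cfsg.Agent.Lib.Classical.Dickson.Classify

set_option autoImplicit false
set_option linter.unusedSectionVars false

namespace Cfsg.Agent.Classical.Frame

open Module Matrix
open Cfsg.Agent.Small

universe u v w x

variable {F : Type u} [Field F] {V : Type v} [AddCommGroup V] [Module F V] [FiniteDimensional F V]
  {A : Type w} [AddCommGroup A] [Finite A] {K : Type x} [Field K]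

local notation "S2" => Matrix.SpecialLinearGroup (Fin 2) K

variable (ι : F →+* K) (bs : Basis (Fin 2) F V)

/-- The matrix over `K` of a map. -/
noncomputable def mat (g : V ≃ₗ[F] V) : Matrix (Fin 2) (Fin 2) K :=
  (LinearMap.toMatrix bs bs g.toLinearMap).map ι

theorem mat_mul (g h : V ≃ₗ[F] V) : mat ι bs (g * h) = mat ι bs g * mat ι bs h := by
  rw [mat, mat, mat, ← Matrix.map_mul, ← LinearMap.toMatrix_comp]
  rfl

theorem mat_one : mat ι bs (1 : V ≃ₗ[F] V) = 1 := by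
  rw [mat, show (1 : V ≃ₗ[F] V).toLinearMap = LinearMap.id from rfl, LinearMap.toMatrix_id]
  exact Matrix.map_one _ (map_zero ι) (map_one ι)

theorem mat_mul_inv (g : V ≃ₗ[F] V) : mat ι bs g * mat ι bs g⁻¹ = 1 := by
  rw [← mat_mul, mul_inv_cancel, mat_one]

theorem det_mat_ne (g : V ≃ₗ[F] V) : (mat ι bs g).det ≠ 0 := fun e => by
  have h := congrArg Matrix.det (mat_mul_inv ι bs g)
  rw [Matrix.det_mul, e, zero_mul, Matrix.det_one] at h
  exact zero_ne_one h

theorem mat_smul {g h : V ≃ₗ[F] V} {c : F} (hgh : ∀ v, g v = c • h v) : mat ι bs g = ι c • mat ι bs h := by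
  rw [mat, mat, show g.toLinearMap = c • h.toLinearMap from LinearMap.ext hgh, map_smul]
  ext i j
  simp

theorem mat_inj {g h : V ≃ₗ[F] V} {c : F} (e : mat ι bs g = ι c • mat ι bs h) : ∀ v, g v = c • h v := by
  have h1 : LinearMap.toMatrix bs bs g.toLinearMap = LinearMap.toMatrix bs bs (c • h.toLinearMap) := by
    ext i j
    apply ι.injective
    have := congrFun (congrFun e i) j
    simpa [mat, map_smul] using this
  exact fun v => LinearMap.congr_fun ((LinearMap.toMatrix bs bs).injective h1) v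

/-- The scaled lifts to `SL₂(K)`. -/
def H0 (G : Subgroup (PG F V)) : Subgroup S2 where
  carrier := {y | ∃ g : V ≃ₗ[F] V, pr F V g ∈ G ∧ ∃ c : K, y.1 = c • mat ι bs g}
  one_mem' := ⟨1, by rw [map_one]; exact G.one_mem, 1, by rw [one_smul, mat_one]; rfl⟩
  mul_mem' := by
    rintro y z ⟨g, hg, c, hc⟩ ⟨h, hh, d, hd⟩
    refine ⟨g * h, by rw [map_mul]; exact G.mul_mem hg hh, c * d, ?_⟩
    rw [PSL2.val_mul, hc, hd, mat_mul, Matrix.smul_mul, Matrix.mul_smul, smul_smul]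
  inv_mem' := by
    rintro y ⟨g, hg, c, hc⟩
    refine ⟨g⁻¹, by rw [map_inv]; exact G.inv_mem hg, c⁻¹, ?_⟩
    have hc0 : c ≠ 0 := by
      rintro rfl
      have := y.2
      rw [hc, zero_smul, Matrix.det_zero] at this
      exact zero_ne_one this
    have e : y.1 * (c⁻¹ • mat ι bs g⁻¹) = 1 := by
      rw [hc, Matrix.smul_mul, Matrix.mul_smul, mat_mul_inv, smul_smul, mul_inv_cancel₀ hc0, one_smul]
    have e2 : (y⁻¹).1 * y.1 = 1 := by rw [← PSL2.val_mul, inv_mul_cancel]; rfl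
    calc (y⁻¹).1 = (y⁻¹).1 * (y.1 * (c⁻¹ • mat ι bs g⁻¹)) := by rw [e, mul_one]
      _ = c⁻¹ • mat ι bs g⁻¹ := by rw [← mul_assoc, e2, one_mul]

/-- `q` is the image of `g`. -/
def Img (g : V ≃ₗ[F] V) (q : Matrix.ProjectiveSpecialLinearGroup (Fin 2) K) : Prop :=
  ∃ y : S2, PSL2.pr y = q ∧ ∃ c : K, y.1 = c • mat ι bs g

variable {ι bs}

theorem ne_zero_of_val {y : S2} {c : K} {M : Matrix (Fin 2) (Fin 2) K} (h : y.1 = c • M) : c ≠ 0 := by
  rintro rfl
  have := y.2
  rw [h, zero_smul, Matrix.det_zero] at this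
  exact zero_ne_one this

theorem Img.unique {g h : V ≃ₗ[F] V} {q r : Matrix.ProjectiveSpecialLinearGroup (Fin 2) K} (hq : Img ι bs g q)
    (hr : Img ι bs h r) (e : pr F V g = pr F V h) : q = r := by
  obtain ⟨y, rfl, c, hc⟩ := hq
  obtain ⟨z, rfl, d, hd⟩ := hr
  obtain ⟨m, hm⟩ := pr_eq_pr.mp e.symm
  rw [mat_smul ι bs hm, smul_smul] at hc
  have hd0 := ne_zero_of_val hd
  refine (PSL2.pr_eq_iff _ _).mpr ⟨c * ι m / d, ?_, ?_⟩
  · have h1 := y.2
    have h2 := z.2
    rw [hc, Matrix.det_smul, Fintype.card_fin] at h1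
    rw [hd, Matrix.det_smul, Fintype.card_fin] at h2
    have h3 : (mat ι bs h).det ≠ 0 := det_mat_ne ι bs h
    field_simp
    exact mul_right_cancel₀ h3 (by linear_combination h1 - h2)
  · rw [hc, hd, smul_smul, div_mul_cancel₀ _ hd0]

theorem Img.inj {g h : V ≃ₗ[F] V} {q : Matrix.ProjectiveSpecialLinearGroup (Fin 2) K} (hq : Img ι bs g q)
    (hr : Img ι bs h q) : pr F V g = pr F V h := by
  obtain ⟨y, rfl, c, hc⟩ := hq
  obtain ⟨z, hz, d, hd⟩ := hr
  obtain ⟨ε, hε, hεe⟩ := (PSL2.pr_eq_iff _ _).mp hz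
  rw [hd, hc, smul_smul] at hεe
  -- `d • mat h = (ε c) • mat g`
  have hd0 := ne_zero_of_val hd
  obtain ⟨r, hr⟩ : ∃ r, r = d⁻¹ * (ε * c) := ⟨_, rfl⟩
  have e : mat ι bs h = r • mat ι bs g := by rw [hr, ← smul_smul, ← hεe, inv_smul_smul₀ hd0]
  obtain ⟨i, j, hij⟩ : ∃ i j, LinearMap.toMatrix bs bs g.toLinearMap i j ≠ 0 := by
    by_contra hh
    push Not at hh
    refine det_mat_ne ι bs g ?_
    rw [show mat ι bs g = 0 from Matrix.ext fun i j => by simp [mat, hh], Matrix.det_zero]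
  obtain ⟨m, hm⟩ : ∃ m, ι m = r := by
    refine ⟨LinearMap.toMatrix bs bs h.toLinearMap i j / LinearMap.toMatrix bs bs g.toLinearMap i j, ?_⟩
    rw [map_div₀, div_eq_iff ((map_ne_zero ι).mpr hij)]
    exact congrFun (congrFun e i) j
  exact pr_eq_pr.mpr ⟨m, mat_inj ι bs (hm ▸ e)⟩

theorem Img.mul {g h : V ≃ₗ[F] V} {q r : Matrix.ProjectiveSpecialLinearGroup (Fin 2) K} (hq : Img ι bs g q)
    (hr : Img ι bs h r) : Img ι bs (g * h) (q * r) := by
  obtain ⟨y, rfl, c, hc⟩ := hq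
  obtain ⟨z, rfl, d, hd⟩ := hr
  exact ⟨y * z, map_mul _ _ _, c * d, by rw [PSL2.val_mul, hc, hd, mat_mul, Matrix.smul_mul, Matrix.mul_smul,
    smul_smul]⟩

theorem Img.one : Img ι bs (1 : V ≃ₗ[F] V) (1 : Matrix.ProjectiveSpecialLinearGroup (Fin 2) K) :=
  ⟨1, map_one _, 1, by rw [one_smul, mat_one]; rfl⟩

theorem exists_img {g : V ≃ₗ[F] V} (h : IsSquare (mat ι bs g).det) :
    ∃ q, Img ι bs g q := by
  obtain ⟨δ, hδ⟩ := h
  have hδ0 : δ ≠ 0 := fun e => det_mat_ne ι bs g (by rw [hδ, e, zero_mul])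
  exact ⟨_, ⟨δ⁻¹ • mat ι bs g, by rw [Matrix.det_smul, Fintype.card_fin, hδ]; field_simp⟩, rfl, δ⁻¹, rfl⟩

/-- Facts about the symmetric and alternating groups of small degree. -/
theorem small_facts :
    (∀ x : alternatingGroup (Fin 4), x * x * (x * x) = 1 → x * x = 1) ∧
    (∀ x : alternatingGroup (Fin 5), x * x * (x * x) = 1 → x * x = 1) := by
  constructor <;> decide +kernel

theorem squares_perm_four :
    (Finset.univ.filter fun y : Equiv.Perm (Fin 4) => y ≠ 1 ∧ ∃ x, x * x * (x * x) = 1 ∧ x * x = y).card = 3 := by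
  decide +kernel

namespace Data

variable {Φ : Data F V A} {G : Subgroup (PG F V)}

/-- A frame of order four on a plane: either the group normalises it or it is of field type. -/
theorem plane_kind [Fintype K] (hG : Φ.Full G) {a b : A} (hab : Φ.sg a b = -1)
    (hsq : ∀ g : V ≃ₗ[F] V, pr F V g ∈ G → IsSquare (mat ι bs g).det) (hA : Nat.card A = 4) :
    G ≤ Φ.N ∨ ∃ (g : GL (Fin 2) K) (L : Subfield K),
      (∀ x ∈ L, PSL2.uS x ∈ (H0 ι bs G).map (PSL2.conjSL g).toMonoidHom ∧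
        PSL2.vS x ∈ (H0 ι bs G).map (PSL2.conjSL g).toMonoidHom) ∧
      ∀ y ∈ (H0 ι bs G).map (PSL2.conjSL g).toMonoidHom, ∃ c : K, ∃ M : Matrix (Fin 2) (Fin 2) K,
        (∀ i j, M i j ∈ L) ∧ y.1 = c • M := by
  classical
  have hne : a ≠ b := by
    rintro rfl
    rw [Φ.sg_self] at hab
    exact Φ.one_ne_neg hab
  have ha0 : a ≠ 0 := by
    rintro rfl
    rw [Φ.sg_symm, Φ.sg_zero] at hab
    exact Φ.one_ne_neg hab
  have hb0 : b ≠ 0 := by
    rintro rfl
    rw [Φ.sg_zero] at hab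
    exact Φ.one_ne_neg hab
  have h2K : (2 : K) ≠ 0 := by
    intro e
    exact Φ.two (ι.injective (by rw [map_ofNat, map_zero, e]))
  set H := H0 ι bs G with hH
  have hZ : Subgroup.center S2 ≤ H := fun z hz => by
    obtain ⟨r, -, hr⟩ := Matrix.SpecialLinearGroup.mem_center_iff.mp hz
    refine ⟨1, by rw [map_one]; exact G.one_mem, r, ?_⟩
    rw [mat_one, ← hr, Matrix.scalar_apply]
    exact (Matrix.smul_one_eq_diagonal r).symm
  set P := H.map PSL2.pr with hP
  have himg : ∀ n : PG F V, n ∈ G → ∃ g q, pr F V g = n ∧ Img ι bs g q ∧ q ∈ P := by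
    intro n hn
    obtain ⟨g, rfl⟩ := pr_surjective n
    obtain ⟨q, hq⟩ := exists_img (hsq g hn)
    obtain ⟨y, hy, c, hc⟩ := id hq
    exact ⟨g, q, rfl, hq, y, ⟨g, hn, c, hc⟩, hy⟩
  choose! lf θ hlf hθ hθP using himg
  have θmul : ∀ m n, m ∈ G → n ∈ G → θ (m * n) = θ m * θ n := fun m n hm hn =>
    (hθ _ (G.mul_mem hm hn)).unique ((hθ m hm).mul (hθ n hn))
      (by rw [hlf _ (G.mul_mem hm hn), map_mul, hlf m hm, hlf n hn])
  have θinj : ∀ m n, m ∈ G → n ∈ G → θ m = θ n → m = n := fun m n hm hn e => by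
    have h1 := hθ m hm
    rw [e] at h1
    rw [← hlf m hm, ← hlf n hn]
    exact h1.inj (hθ n hn)
  have θone : θ 1 = 1 := (hθ 1 G.one_mem).unique Img.one (by rw [hlf 1 G.one_mem, map_one])
  have θinv : ∀ m, m ∈ G → θ m⁻¹ = (θ m)⁻¹ := fun m hm => eq_inv_of_mul_eq_one_left (by
    rw [← θmul _ _ (G.inv_mem hm) hm, inv_mul_cancel, θone])
  have he : ∀ x, Φ.e x ∈ G := fun x => hG.le (Φ.e_mem x)
  obtain ⟨ta, hta, htaA⟩ := (hG.single a ha0).exists
  obtain ⟨tb, htb, htbA⟩ := (hG.single b hb0).exists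
  have hba : Φ.sg b a = -1 := by rw [Φ.sg_symm]; exact hab
  -- the lifted transvection squares to the frame element
  have hsquare : ∀ c, c ≠ 0 → ∃ n ∈ G, Φ.Acts n (Φ.tau c) ∧ n * n = Φ.e c := by
    intro c hc
    obtain ⟨t, ht, htG⟩ := hG.single c hc
    refine ⟨_, htG, ht.acts, ?_⟩
    obtain ⟨ζ, h1, htv⟩ := ht
    rw [← map_mul, Data.e, eq_comm, pr_eq_pr]
    exact ⟨2 * ζ, fun v => by
      rw [LinearEquiv.mul_apply, htv, htv, map_add, smul_add, h1]; module⟩
  have four : ∀ c, c ≠ 0 → ∃ n ∈ G, Φ.Acts n (Φ.tau c) ∧ θ n * θ n = θ (Φ.e c) ∧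
      θ n * θ n * (θ n * θ n) = 1 ∧ θ n * θ n ≠ 1 := by
    intro c hc
    obtain ⟨n, hn, hact, hnn⟩ := hsquare c hc
    have e : θ n * θ n = θ (Φ.e c) := by rw [← θmul n n hn hn, hnn]
    refine ⟨n, hn, hact, e, ?_, ?_⟩
    · rw [e, ← θmul _ _ (he c) (he c), Φ.e_sq, θone]
    · rw [e]
      exact fun h => hc (Φ.e_eq_one.mp (θinj _ _ (he c) G.one_mem (h.trans θone.symm)))
  have hnc : ∀ {p q : A}, Φ.sg p q = -1 → ∀ {n : PG F V}, n ∈ G → Φ.Acts n (Φ.tau p) →
      θ n * θ (Φ.e q) ≠ θ (Φ.e q) * θ n := by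
    intro p q hpq n hn hact h
    rw [← θmul _ _ hn (he q), ← θmul _ _ (he q) hn] at h
    have h1 := (hact.commute_iff q).mp (θinj _ _ (G.mul_mem hn (he q)) (G.mul_mem (he q) hn) h)
    rw [Φ.tau_of_neg hpq, add_eq_left] at h1
    subst h1
    rw [Φ.sg_symm, Φ.sg_zero] at hpq
    exact Φ.one_ne_neg hpq
  obtain ⟨na, hna, hnaA, hnaS, hna4, hna2⟩ := four a ha0
  obtain ⟨nb, hnb, hnbA, hnbS, hnb4, hnb2⟩ := four b hb0
  cases Dickson.kind hZ with
  | cyclic k hk hc hcard =>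
    exfalso
    haveI := hc
    exact hnc hab hna hnaA (congrArg Subtype.val
      (hc.commutative.is_comm.comm (⟨θ na, hθP na hna⟩ : P) ⟨θ (Φ.e b), hθP _ (he b)⟩))
  | dihedral k hk h2 hiso =>
    exfalso
    obtain ⟨f⟩ := hiso
    -- elements with nontrivial square are rotations
    have rot : ∀ (x : DihedralGroup k), x * x ≠ 1 → ∃ i, x = DihedralGroup.r i := fun x hx => by
      cases x with
      | r i => exact ⟨i, rfl⟩
      | sr i => exact absurd (DihedralGroup.sr_mul_self i) hx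
    obtain ⟨i, hi⟩ := rot (f ⟨θ na, hθP na hna⟩) (by
      rw [← map_mul, map_ne_one_iff f f.injective]
      exact fun e => hna2 (congrArg Subtype.val e))
    obtain ⟨j, hj⟩ := rot (f ⟨θ nb, hθP nb hnb⟩) (by
      rw [← map_mul, map_ne_one_iff f f.injective]
      exact fun e => hnb2 (congrArg Subtype.val e))
    have hcomm : θ na * θ nb = θ nb * θ na := by
      refine congrArg Subtype.val (f.injective (a₁ := (⟨θ na, hθP na hna⟩ : P) * ⟨θ nb, hθP nb hnb⟩)
        (a₂ := (⟨θ nb, hθP nb hnb⟩ : P) * ⟨θ na, hθP na hna⟩) ?_)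
      rw [map_mul, map_mul, hi, hj, DihedralGroup.r_mul_r, DihedralGroup.r_mul_r, add_comm]
    exact hnc hab hna hnaA (by rw [← hnbS, ← mul_assoc, hcomm, mul_assoc, hcomm, ← mul_assoc])
  | borel g hg hu =>
    exfalso
    have tri : ∀ c, ∃ M : Matrix (Fin 2) (Fin 2) K, M 1 0 = 0 ∧
        M = g.val * mat ι bs (Φ.u c) * g⁻¹.val := by
      intro c
      obtain ⟨q, y, -, d, hd⟩ := exists_img (hsq (Φ.u c) (he c))
      refine ⟨_, ?_, rfl⟩
      have h1 := hg (PSL2.conjSL g y) ⟨y, ⟨Φ.u c, he c, d, hd⟩, rfl⟩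
      have e : (PSL2.conjSL g y).1 = d • (g.val * mat ι bs (Φ.u c) * g⁻¹.val) := by
        show g.val * y.1 * g⁻¹.val = _
        rw [hd, Matrix.mul_smul, Matrix.smul_mul]
      rw [e, Matrix.smul_apply, smul_eq_mul, mul_eq_zero] at h1
      exact h1.resolve_left (ne_zero_of_val hd)
    obtain ⟨Ma, hMa, hMa'⟩ := tri a
    obtain ⟨Mb, hMb, hMb'⟩ := tri b
    have hanti : Ma * Mb = -(Mb * Ma) := by
      have e : mat ι bs (Φ.u a * Φ.u b) = ι (-1) • mat ι bs (Φ.u b * Φ.u a) :=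
        mat_smul ι bs fun v => by rw [LinearEquiv.mul_apply, LinearEquiv.mul_apply, Φ.comm a b, hab]
      rw [map_neg, map_one, neg_one_smul, mat_mul, mat_mul] at e
      rw [hMa', hMb']
      calc g.val * mat ι bs (Φ.u a) * g⁻¹.val * (g.val * mat ι bs (Φ.u b) * g⁻¹.val)
          = g.val * (mat ι bs (Φ.u a) * mat ι bs (Φ.u b)) * g⁻¹.val := by
            simp only [mul_assoc, Units.inv_mul_cancel_left]
        _ = -(g.val * mat ι bs (Φ.u b) * g⁻¹.val * (g.val * mat ι bs (Φ.u a) * g⁻¹.val)) := by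
            simp only [e, Matrix.mul_neg, Matrix.neg_mul, mul_assoc, Units.inv_mul_cancel_left]
    have hda : Ma.det ≠ 0 := by rw [hMa', Matrix.det_units_conj]; exact det_mat_ne ι bs _
    have hdb : Mb.det ≠ 0 := by rw [hMb', Matrix.det_units_conj]; exact det_mat_ne ι bs _
    rw [Matrix.det_fin_two, hMa, mul_zero, sub_zero, mul_ne_zero_iff] at hda
    rw [Matrix.det_fin_two, hMb, mul_zero, sub_zero, mul_ne_zero_iff] at hdb
    have h00 := congrFun (congrFun hanti 0) 0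
    rw [Matrix.neg_apply, Matrix.mul_apply, Matrix.mul_apply, Fin.sum_univ_two, Fin.sum_univ_two, hMa, hMb] at h00
    exact mul_ne_zero h2K (mul_ne_zero hda.1 hdb.1) (by linear_combination h00)
  | a4 h2 hiso =>
    exfalso
    obtain ⟨f⟩ := hiso
    have h := small_facts.1 (f ⟨θ na, hθP na hna⟩) (by
      rw [← map_mul, ← map_mul, ← map_one f]
      exact congrArg f (Subtype.ext hna4))
    rw [← map_mul, ← map_one f] at h
    exact hna2 (congrArg Subtype.val (f.injective h))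
  | a5 h2 hiso =>
    exfalso
    obtain ⟨f⟩ := hiso
    have h := small_facts.2 (f ⟨θ na, hθP na hna⟩) (by
      rw [← map_mul, ← map_mul, ← map_one f]
      exact congrArg f (Subtype.ext hna4))
    rw [← map_mul, ← map_one f] at h
    exact hna2 (congrArg Subtype.val (f.injective h))
  | field g L hlow hhigh hiso => exact Or.inr ⟨g, L, hlow, hhigh⟩
  | s4 h2 hiso =>
    left
    obtain ⟨f⟩ := hiso
    let T := Finset.univ.filter fun y : Equiv.Perm (Fin 4) => y ≠ 1 ∧ ∃ x, x * x * (x * x) = 1 ∧ x * x = y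
    haveI := Fintype.ofFinite A
    let img : A → Equiv.Perm (Fin 4) := fun c => f ⟨θ (Φ.e c), hθP _ (he c)⟩
    have himgT : ∀ m, ∀ hm : m ∈ G, ∀ c, c ≠ 0 →
        f ⟨θ (m * Φ.e c * m⁻¹), hθP _ (G.mul_mem (G.mul_mem hm (he c)) (G.inv_mem hm))⟩ ∈ T := by
      intro m hm c hc
      obtain ⟨n, hn, -, hnn, hn4, hn2⟩ := four c hc
      have hk : θ (m * Φ.e c * m⁻¹) = θ m * θ n * (θ m)⁻¹ * (θ m * θ n * (θ m)⁻¹) := by
        rw [θmul _ _ (G.mul_mem hm (he c)) (G.inv_mem hm), θmul _ _ hm (he c), θinv m hm, ← hnn]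
        group
      refine Finset.mem_filter.mpr ⟨Finset.mem_univ _, ?_, ?_⟩
      · rw [map_ne_one_iff f f.injective]
        intro e
        have e' : θ (m * Φ.e c * m⁻¹) = 1 := congrArg Subtype.val e
        have h3 := θinj _ _ (G.mul_mem (G.mul_mem hm (he c)) (G.inv_mem hm)) G.one_mem (e'.trans θone.symm)
        rw [mul_inv_eq_one, mul_eq_left, Φ.e_eq_one] at h3
        exact hc h3
      · refine ⟨f (⟨θ m, hθP m hm⟩ * ⟨θ n, hθP n hn⟩ * ⟨θ m, hθP m hm⟩⁻¹), ?_, ?_⟩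
        · rw [← map_mul, ← map_mul, ← map_one f]
          refine congrArg f (Subtype.ext ?_)
          show θ m * θ n * (θ m)⁻¹ * (θ m * θ n * (θ m)⁻¹) * (θ m * θ n * (θ m)⁻¹ * (θ m * θ n * (θ m)⁻¹)) = 1
          rw [show θ m * θ n * (θ m)⁻¹ * (θ m * θ n * (θ m)⁻¹) * (θ m * θ n * (θ m)⁻¹ * (θ m * θ n * (θ m)⁻¹))
            = θ m * (θ n * θ n * (θ n * θ n)) * (θ m)⁻¹ by group, hn4, mul_one, mul_inv_cancel]
        · rw [← map_mul]
          exact congrArg f (Subtype.ext hk.symm)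
    intro m hm
    refine Φ.mem_N_of fun c => ?_
    rcases eq_or_ne c 0 with rfl | hc
    · exact ⟨0, by rw [Φ.e_zero]; group⟩
    have hinj : Function.Injective img := fun p q e =>
      Φ.e_injective (θinj _ _ (he p) (he q) (congrArg Subtype.val (f.injective e)))
    have hsub : (Finset.univ.erase (0 : A)).image img ⊆ T := by
      intro y hy
      obtain ⟨p, hp, rfl⟩ := Finset.mem_image.mp hy
      have := himgT 1 G.one_mem p (Finset.ne_of_mem_erase hp)
      simpa [img] using this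
    have hcard : ((Finset.univ.erase (0 : A)).image img).card = 3 := by
      rw [Finset.card_image_of_injective _ hinj, Finset.card_erase_of_mem (Finset.mem_univ _), Finset.card_univ,
        ← Nat.card_eq_fintype_card, hA]
    have heq : (Finset.univ.erase (0 : A)).image img = T :=
      Finset.eq_of_subset_of_card_le hsub (by rw [hcard, squares_perm_four])
    obtain ⟨p, -, hp⟩ := Finset.mem_image.mp (heq ▸ himgT m hm c hc)
    exact ⟨p, θinj _ _ (G.mul_mem (G.mul_mem hm (he c)) (G.inv_mem hm)) (he p)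
      (congrArg Subtype.val (f.injective hp)).symm⟩

end Data

end Cfsg.Agent.Classical.Frame
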