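/-
Pairs of projective images of the one-qubit normaliser and of a diagonal element of order three contain a diagonal
nontrivial unipotent.
-/
import Cfsg.Agent.Lib.Classical.Frame.Plane

set_option autoImplicit false
set_option linter.unusedSectionVars false

namespace Cfsg.Agent.Classical.Frame.Qubit

open Matrix
open Cfsg.Agent.Small

universe x

variable {K : Type x} [Field K]

local notation "S2" => Matrix.SpecialLinearGroup (Fin 2) K
local notation "P2" => Matrix.ProjectiveSpecialLinearGroup (Fin 2) K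

/-- The data of the generators: `i` a square root of `-1`, `r` of `2`, `f` of a primitive sixth root of unity. -/
structure Roots (i r f : K) : Prop where
  hi : i * i = -1
  hr : r * r = 2
  hf : (f * f) * (f * f) - f * f + 1 = 0
  h2 : (2 : K) ≠ 0
  h3 : (3 : K) ≠ 0

variable {i r f : K}

namespace Roots

variable (h : Roots i r f)
include h

theorem i_ne : i ≠ 0 := fun e => by simpa [e] using h.hi
theorem r_ne : r ≠ 0 := fun e => h.h2 (by rw [← h.hr, e, mul_zero])
theorem f_ne : f ≠ 0 := fun e => by simpa [e] using h.hf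
theorem e_ne_one : f * f ≠ 1 := fun e => by
  have := h.hf; rw [e] at this; exact one_ne_zero (show (1 : K) = 0 by linear_combination this)
theorem e_ne_neg : f * f ≠ -1 := fun e => by
  have := h.hf; rw [e] at this; exact h.h3 (by linear_combination this)

/-- The two transvection lifts and their product. -/
noncomputable def sX : S2 := ⟨r⁻¹ • !![1, i; i, 1], by
  have := h.r_ne
  rw [Matrix.det_smul, Fintype.card_fin, Matrix.det_fin_two_of]
  field_simp
  linear_combination -h.hi - h.hr⟩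

noncomputable def sZ : S2 := ⟨r⁻¹ • !![1 + i, 0; 0, 1 - i], by
  have := h.r_ne
  rw [Matrix.det_smul, Fintype.card_fin, Matrix.det_fin_two_of]
  field_simp
  linear_combination -h.hi - h.hr⟩

noncomputable def sY : S2 := ⟨r⁻¹ • !![1, 1; -1, 1], by
  have := h.r_ne
  rw [Matrix.det_smul, Fintype.card_fin, Matrix.det_fin_two_of]
  field_simp
  linear_combination -h.hr⟩

/-- The diagonal element of order three. -/
noncomputable def sD : S2 := ⟨!![f⁻¹, 0; 0, f], by
  rw [Matrix.det_fin_two_of, inv_mul_cancel₀ h.f_ne]; ring⟩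

theorem rsq : r⁻¹ * r⁻¹ = (2 : K)⁻¹ := by rw [← mul_inv, h.hr]

theorem sX_sq : (h.sX * h.sX).1 = !![0, i; i, 0] := by
  have := h.r_ne
  show (r⁻¹ • !![1, i; i, 1]) * (r⁻¹ • !![1, i; i, 1]) = _
  rw [Matrix.smul_mul, Matrix.mul_smul, Matrix.mul_fin_two, smul_smul, h.rsq, Matrix.smul_of]
  have := h.h2
  ext a b
  fin_cases a <;> fin_cases b <;> simp [h.hi]
  all_goals field_simp
  all_goals grind [h.hi]

theorem sZ_sq : (h.sZ * h.sZ).1 = !![i, 0; 0, -i] := by
  have := h.r_ne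
  show (r⁻¹ • !![1 + i, 0; 0, 1 - i]) * (r⁻¹ • !![1 + i, 0; 0, 1 - i]) = _
  rw [Matrix.smul_mul, Matrix.mul_smul, Matrix.mul_fin_two, smul_smul, h.rsq, Matrix.smul_of]
  have := h.h2
  ext a b
  fin_cases a <;> fin_cases b <;> simp [h.hi]
  all_goals field_simp
  all_goals grind [h.hi]

theorem sY_sq : (h.sY * h.sY).1 = !![0, 1; -1, 0] := by
  have := h.r_ne
  show (r⁻¹ • !![1, 1; -1, 1]) * (r⁻¹ • !![1, 1; -1, 1]) = _
  rw [Matrix.smul_mul, Matrix.mul_smul, Matrix.mul_fin_two, smul_smul, h.rsq, Matrix.smul_of]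
  have := h.h2
  ext a b
  fin_cases a <;> fin_cases b <;> simp [h.hi]
  all_goals field_simp
  all_goals grind [h.hi]

theorem sD_conj : (h.sD * (h.sX * h.sX) * h.sD⁻¹).1 = !![0, i / (f * f); i * (f * f), 0] := by
  have := h.f_ne
  rw [PSL2.val_mul, PSL2.val_mul, h.sX_sq, Matrix.SpecialLinearGroup.coe_inv]
  show !![f⁻¹, 0; 0, f] * _ * Matrix.adjugate !![f⁻¹, 0; 0, f] = _
  rw [Matrix.adjugate_fin_two_of, Matrix.mul_fin_two, Matrix.mul_fin_two]
  ext a b
  fin_cases a <;> fin_cases b <;> simp <;> field_simp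

theorem swap_sD : (PSL2.pr (h.sX * h.sX) : P2) * PSL2.pr h.sD * (PSL2.pr (h.sX * h.sX))⁻¹ = (PSL2.pr h.sD)⁻¹ := by
  have := h.f_ne
  rw [mul_inv_eq_iff_eq_mul, ← map_inv, ← map_mul, ← map_mul]
  congr 1
  apply Subtype.ext
  rw [PSL2.val_mul, PSL2.val_mul h.sD⁻¹, h.sX_sq, Matrix.SpecialLinearGroup.coe_inv]
  show _ * !![f⁻¹, 0; 0, f] = Matrix.adjugate !![f⁻¹, 0; 0, f] * _
  rw [Matrix.adjugate_fin_two_of, Matrix.mul_fin_two, Matrix.mul_fin_two]
  ext a b
  fin_cases a <;> fin_cases b <;> simp [mul_comm]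

/-- The four generators. -/
noncomputable def gens : Set (P2 × P2) :=
  {(PSL2.pr h.sX, PSL2.pr h.sX), (PSL2.pr h.sZ, PSL2.pr h.sZ), (PSL2.pr h.sY, PSL2.pr h.sY),
    (PSL2.pr h.sD, (PSL2.pr h.sD)⁻¹)}

/-- The group they generate. -/
noncomputable def pairs : Subgroup (P2 × P2) := Subgroup.closure h.gens

theorem swap_mem {q : P2 × P2} (hq : q ∈ h.pairs) : q.swap ∈ h.pairs := by
  have hle : h.pairs ≤ h.pairs.comap (MulEquiv.prodComm : P2 × P2 ≃* P2 × P2).toMonoidHom := by
    rw [pairs, Subgroup.closure_le]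
    intro g hg
    have hm : ∀ g ∈ h.gens, g ∈ Subgroup.closure h.gens := fun g hg => Subgroup.subset_closure hg
    have hd : (PSL2.pr h.sD, (PSL2.pr h.sD)⁻¹) ∈ Subgroup.closure h.gens := hm _ (by simp [gens])
    have hx : (PSL2.pr h.sX, PSL2.pr h.sX) ∈ Subgroup.closure h.gens := hm _ (by simp [gens])
    rcases hg with rfl | rfl | rfl | rfl
    · exact hx
    · exact hm _ (by simp [gens])
    · exact hm _ (by simp [gens])
    · show ((PSL2.pr h.sD)⁻¹, PSL2.pr h.sD) ∈ Subgroup.closure h.gens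
      have hX := Subgroup.mul_mem _ hx hx
      have := Subgroup.mul_mem _ (Subgroup.mul_mem _ hX hd) (Subgroup.inv_mem _ hX)
      have e : (PSL2.pr (h.sX * h.sX) : P2) * (PSL2.pr h.sD)⁻¹ * (PSL2.pr (h.sX * h.sX))⁻¹ = PSL2.pr h.sD := by
        calc _ = ((PSL2.pr (h.sX * h.sX) : P2) * PSL2.pr h.sD * (PSL2.pr (h.sX * h.sX))⁻¹)⁻¹ := by group
          _ = _ := by rw [h.swap_sD, inv_inv]
      refine Eq.mp (congrArg (· ∈ Subgroup.closure h.gens) (Prod.ext ?_ ?_)) this
      · show PSL2.pr h.sX * PSL2.pr h.sX * PSL2.pr h.sD * (PSL2.pr h.sX * PSL2.pr h.sX)⁻¹ = _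
        rw [← map_mul, h.swap_sD]
      · show PSL2.pr h.sX * PSL2.pr h.sX * (PSL2.pr h.sD)⁻¹ * (PSL2.pr h.sX * PSL2.pr h.sX)⁻¹ = _
        rw [← map_mul, e]
  exact hle hq

/-- The first projections. -/
noncomputable def proj : Subgroup S2 := (h.pairs.map (MonoidHom.fst P2 P2)).comap PSL2.pr

theorem mem_proj {y : S2} : y ∈ h.proj ↔ ∃ b, (PSL2.pr y, b) ∈ h.pairs := by
  simp [proj]

theorem center_le_proj : Subgroup.center S2 ≤ h.proj := fun z hz => h.mem_proj.mpr ⟨1, by
  rw [show (PSL2.pr z : P2) = 1 from (QuotientGroup.eq_one_iff z).mpr hz]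
  exact one_mem _⟩

theorem gen_mem_proj {y : S2} {b : P2} (hy : (PSL2.pr y, b) ∈ h.gens) : y ∈ h.proj :=
  h.mem_proj.mpr ⟨b, Subgroup.subset_closure hy⟩

theorem pr_ne {A B : S2} (hne : A.1 ≠ B.1) (hne' : A.1 ≠ -B.1) : (PSL2.pr A : P2) ≠ PSL2.pr B := fun e => by
  obtain ⟨ε, hε, hAB⟩ := (PSL2.pr_eq_iff _ _).mp e
  rcases mul_self_eq_one_iff.mp hε with rfl | rfl
  · exact hne (by rw [hAB, one_smul])
  · exact hne' (by rw [hAB, neg_one_smul])

/-- Only field type remains, with the conjugation trivial when the field is everything. -/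
theorem field_type [Fintype K] :
    ∃ (g : GL (Fin 2) K) (L : Subfield K),
      (∀ x ∈ L, PSL2.uS x ∈ h.proj.map (PSL2.conjSL g).toMonoidHom ∧
        PSL2.vS x ∈ h.proj.map (PSL2.conjSL g).toMonoidHom) ∧
      (∀ y ∈ h.proj.map (PSL2.conjSL g).toMonoidHom, ∃ c : K, ∃ M : Matrix (Fin 2) (Fin 2) K,
        (∀ a b, M a b ∈ L) ∧ y.1 = c • M) ∧ (L = ⊤ → g = 1) := by
  classical
  have hXm : h.sX ∈ h.proj := h.gen_mem_proj (b := PSL2.pr h.sX) (by simp [gens])
  have hZm : h.sZ ∈ h.proj := h.gen_mem_proj (b := PSL2.pr h.sZ) (by simp [gens])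
  have hYm : h.sY ∈ h.proj := h.gen_mem_proj (b := PSL2.pr h.sY) (by simp [gens])
  have hDm : h.sD ∈ h.proj := h.gen_mem_proj (b := (PSL2.pr h.sD)⁻¹) (by simp [gens])
  set P := h.proj.map PSL2.pr with hP
  have hin : ∀ {y : S2}, y ∈ h.proj → PSL2.pr y ∈ P := fun hy => ⟨_, hy, rfl⟩
  have hi0 := h.i_ne
  have hf0 := h.f_ne
  have hsq1 : ∀ {A : S2}, A.1 0 0 = 0 ∨ A.1 0 0 = i → (PSL2.pr A : P2) ≠ 1 := fun {A} hA e => by
    rw [← map_one PSL2.pr] at e
    obtain ⟨ε, hε, hA'⟩ := (PSL2.pr_eq_iff _ _).mp e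
    have := congrFun (congrFun hA' 0) 0
    simp at this
    rcases hA with hA | hA <;> rw [hA] at this <;> rw [← this] at hε
    · simp at hε
    · exact h.h2 (by linear_combination h.hi - hε)
  have hX2 : PSL2.pr h.sX * PSL2.pr h.sX ≠ (1 : P2) := by
    rw [← map_mul]; exact hsq1 (Or.inl (by rw [h.sX_sq]; rfl))
  have hZ2 : PSL2.pr h.sZ * PSL2.pr h.sZ ≠ (1 : P2) := by
    rw [← map_mul]; exact hsq1 (Or.inr (by rw [h.sZ_sq]; rfl))
  have h4 : ∀ {A : S2}, (A * A).1 * (A * A).1 = -1 → (PSL2.pr A * PSL2.pr A * (PSL2.pr A * PSL2.pr A) : P2) = 1 :=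
    fun {A} e => by
    rw [← map_mul, ← map_mul, ← map_one PSL2.pr, PSL2.pr_eq_iff]
    exact ⟨-1, by ring, by rw [PSL2.val_mul, e, neg_one_smul]; rfl⟩
  have hX4 := h4 (A := h.sX) (by
    rw [h.sX_sq]
    ext a b; fin_cases a <;> fin_cases b <;> simp [h.hi])
  have hnc : PSL2.pr h.sX * PSL2.pr h.sZ ≠ PSL2.pr h.sZ * (PSL2.pr h.sX : P2) := by
    rw [← map_mul, ← map_mul]
    have hr0 := h.r_ne
    refine h.pr_ne (fun e => ?_) (fun e => ?_)
    · have := congrFun (congrFun e 0) 1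
      rw [PSL2.val_mul, PSL2.val_mul] at this
      simp [sX, sZ, Matrix.mul_apply, Fin.sum_univ_two] at this
      field_simp at this
      exact mul_ne_zero h.h2 h.i_ne (by linear_combination -this)
    · have := congrFun (congrFun e 0) 0
      rw [PSL2.val_mul, PSL2.val_mul] at this
      simp [sX, sZ, Matrix.mul_apply, Fin.sum_univ_two] at this
      field_simp at this
      exact mul_ne_zero h.h2 (fun e0 : (1 : K) + i = 0 => h.h2 (by linear_combination (1 - i) * e0 + h.hi))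
        (by linear_combination this)
  cases Dickson.kind h.center_le_proj with
  | cyclic k hk hc hcard =>
    exfalso
    haveI := hc
    exact hnc (congrArg Subtype.val
      (hc.isMulCommutative.is_comm.comm (⟨_, hin hXm⟩ : P) ⟨_, hin hZm⟩))
  | dihedral k hk hk2 hiso =>
    exfalso
    obtain ⟨φ⟩ := hiso
    have rot : ∀ (x : DihedralGroup k), x * x ≠ 1 → ∃ j, x = DihedralGroup.r j := fun x hx => by
      cases x with
      | r j => exact ⟨j, rfl⟩
      | sr j => exact absurd (DihedralGroup.sr_mul_self j) hx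
    obtain ⟨a, ha⟩ := rot (φ ⟨_, hin hXm⟩) (by
      rw [← map_mul, map_ne_one_iff φ φ.injective]
      exact fun e => hX2 (congrArg Subtype.val e))
    obtain ⟨b, hb⟩ := rot (φ ⟨_, hin hZm⟩) (by
      rw [← map_mul, map_ne_one_iff φ φ.injective]
      exact fun e => hZ2 (congrArg Subtype.val e))
    refine hnc (congrArg Subtype.val (φ.injective (a₁ := (⟨_, hin hXm⟩ : P) * ⟨_, hin hZm⟩)
      (a₂ := (⟨_, hin hZm⟩ : P) * ⟨_, hin hXm⟩) ?_))
    rw [map_mul, map_mul, ha, hb, DihedralGroup.r_mul_r, DihedralGroup.r_mul_r, add_comm]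
  | borel g hg hu =>
    exfalso
    have tri : ∀ y ∈ h.proj, (g.val * y.1 * g⁻¹.val) 1 0 = 0 := fun y hy => hg _ ⟨y, hy, rfl⟩
    obtain ⟨Ma, hMa⟩ : ∃ M, M = g.val * (h.sX * h.sX).1 * g⁻¹.val := ⟨_, rfl⟩
    obtain ⟨Mb, hMb⟩ : ∃ M, M = g.val * (h.sZ * h.sZ).1 * g⁻¹.val := ⟨_, rfl⟩
    have ta : Ma 1 0 = 0 := hMa ▸ tri _ (mul_mem hXm hXm)
    have tb : Mb 1 0 = 0 := hMb ▸ tri _ (mul_mem hZm hZm)
    have hanti : Ma * Mb = -(Mb * Ma) := by
      have e : (h.sX * h.sX).1 * (h.sZ * h.sZ).1 = -((h.sZ * h.sZ).1 * (h.sX * h.sX).1) := by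
        rw [h.sX_sq, h.sZ_sq]
        ext a b; fin_cases a <;> fin_cases b <;> simp
      rw [hMa, hMb]
      calc g.val * (h.sX * h.sX).1 * g⁻¹.val * (g.val * (h.sZ * h.sZ).1 * g⁻¹.val)
          = g.val * ((h.sX * h.sX).1 * (h.sZ * h.sZ).1) * g⁻¹.val := by
            simp only [mul_assoc, Units.inv_mul_cancel_left]
        _ = _ := by simp only [e, Matrix.mul_neg, Matrix.neg_mul, mul_assoc, Units.inv_mul_cancel_left]
    have hda : Ma.det = 1 := by rw [hMa, Matrix.det_units_conj]; exact (h.sX * h.sX).2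
    have hdb : Mb.det = 1 := by rw [hMb, Matrix.det_units_conj]; exact (h.sZ * h.sZ).2
    rw [Matrix.det_fin_two, ta, mul_zero, sub_zero] at hda
    rw [Matrix.det_fin_two, tb, mul_zero, sub_zero] at hdb
    have h00 := congrFun (congrFun hanti 0) 0
    rw [Matrix.neg_apply, Matrix.mul_apply, Matrix.mul_apply, Fin.sum_univ_two, Fin.sum_univ_two, ta, tb] at h00
    exact mul_ne_zero h.h2 (mul_ne_zero (left_ne_zero_of_mul_eq_one hda) (left_ne_zero_of_mul_eq_one hdb))
      (by linear_combination h00)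
  | a4 h2 hiso =>
    exfalso
    obtain ⟨φ⟩ := hiso
    have := small_facts.1 (φ ⟨_, hin hXm⟩) (by
      rw [← map_mul, ← map_mul, ← map_one φ]
      exact congrArg φ (Subtype.ext hX4))
    rw [← map_mul, ← map_one φ] at this
    exact hX2 (congrArg Subtype.val (φ.injective this))
  | a5 h2 hiso =>
    exfalso
    obtain ⟨φ⟩ := hiso
    have := small_facts.2 (φ ⟨_, hin hXm⟩) (by
      rw [← map_mul, ← map_mul, ← map_one φ]
      exact congrArg φ (Subtype.ext hX4))
    rw [← map_mul, ← map_one φ] at this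
    exact hX2 (congrArg Subtype.val (φ.injective this))
  | field g L hlow hhigh hiso =>
    by_cases hL : L = ⊤
    · subst hL
      have htop : h.proj.map (PSL2.conjSL g).toMonoidHom = ⊤ := by
        rw [eq_top_iff]
        intro A _
        refine Matrix.SL2.transvection_induction (fun A => A ∈ h.proj.map (PSL2.conjSL g).toMonoidHom) ?_
          (fun A B hA hB => mul_mem hA hB) A
        intro a b hab c
        fin_cases a <;> fin_cases b
        · exact absurd rfl hab
        · convert (hlow c trivial).1 using 1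
          apply Subtype.ext; rw [SpecialLinearGroup.transvection_coe, PSL2.uS_val]
          ext u v; fin_cases u <;> fin_cases v <;> simp
        · convert (hlow c trivial).2 using 1
          apply Subtype.ext; rw [SpecialLinearGroup.transvection_coe, PSL2.vS_val]
          ext u v; fin_cases u <;> fin_cases v <;> simp
        · exact absurd rfl hab
      have hall : ∀ y : S2, y ∈ h.proj.map (PSL2.conjSL (1 : GL (Fin 2) K)).toMonoidHom := fun y => by
        obtain ⟨z, hz, e⟩ := (htop ▸ Subgroup.mem_top (PSL2.conjSL g y) :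
          PSL2.conjSL g y ∈ h.proj.map (PSL2.conjSL g).toMonoidHom)
        have hzy : z = y := (PSL2.conjSL g).injective e
        exact ⟨y, hzy ▸ hz, by rw [map_one]; rfl⟩
      exact ⟨1, ⊤, fun x _ => ⟨hall _, hall _⟩,
        fun y _ => ⟨1, y.1, fun _ _ => trivial, (one_smul _ _).symm⟩, fun _ => rfl⟩
    · exact ⟨g, L, hlow, hhigh, fun e => absurd e hL⟩
  | s4 h2 hiso =>
    exfalso
    obtain ⟨φ⟩ := hiso
    let T := Finset.univ.filter fun y : Equiv.Perm (Fin 4) => y ≠ 1 ∧ ∃ x, x * x * (x * x) = 1 ∧ x * x = y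
    have hT : ∀ (A : S2) (hA : A ∈ h.proj), ((A * A).1 0 0 = 0 ∨ (A * A).1 0 0 = i) →
        (A * A).1 * (A * A).1 = -1 → φ ⟨_, hin (mul_mem hA hA)⟩ ∈ T := fun A hA h1 h2' => by
      refine Finset.mem_filter.mpr ⟨Finset.mem_univ _, ?_, φ ⟨_, hin hA⟩, ?_, ?_⟩
      · rw [map_ne_one_iff φ φ.injective]
        exact fun e => hsq1 h1 (congrArg Subtype.val e)
      · rw [← map_mul, ← map_mul, ← map_one φ]
        exact congrArg φ (Subtype.ext (h4 h2'))
      · rw [← map_mul]
        exact congrArg φ (Subtype.ext (map_mul _ _ _).symm)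
    obtain ⟨W, hW⟩ : ∃ W, W = h.sD * h.sX * h.sD⁻¹ := ⟨_, rfl⟩
    have hWm : W ∈ h.proj := hW ▸ mul_mem (mul_mem hDm hXm) (inv_mem hDm)
    have hWW : (W * W).1 = !![0, i / (f * f); i * (f * f), 0] := by
      rw [← h.sD_conj, hW, conj_mul]
    have sqneg : ∀ a b : K, a * b = -1 → !![0, a; b, 0] * !![0, a; b, 0] = (-1 : Matrix (Fin 2) (Fin 2) K) :=
      fun a b hab => by ext u v; fin_cases u <;> fin_cases v <;> simp [mul_comm b a, hab]
    have mW := hT W hWm (Or.inl (by rw [hWW]; rfl)) (by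
      rw [hWW]; exact sqneg _ _ (by field_simp; linear_combination h.hi))
    have mX := hT h.sX hXm (Or.inl (by rw [h.sX_sq]; rfl)) (by rw [h.sX_sq]; exact sqneg _ _ h.hi)
    have mY := hT h.sY hYm (Or.inl (by rw [h.sY_sq]; rfl)) (by rw [h.sY_sq]; exact sqneg _ _ (by ring))
    have mZ := hT h.sZ hZm (Or.inr (by rw [h.sZ_sq]; rfl)) (by
      rw [h.sZ_sq]; ext u v; fin_cases u <;> fin_cases v <;> simp [h.hi])
    have d : ∀ {A B : S2} {hA : A ∈ h.proj} {hB : B ∈ h.proj}, A.1 ≠ B.1 → A.1 ≠ -B.1 →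
        φ ⟨_, hin hA⟩ ≠ φ ⟨_, hin hB⟩ := fun h1 h2' e =>
      h.pr_ne h1 h2' (congrArg Subtype.val (φ.injective e))
    have n01 : ∀ {M N : Matrix (Fin 2) (Fin 2) K}, M 0 1 ≠ N 0 1 → M ≠ N := fun hh e => hh (by rw [e])
    have n10 : ∀ {M N : Matrix (Fin 2) (Fin 2) K}, M 1 0 ≠ N 1 0 → M ≠ N := fun hh e => hh (by rw [e])
    have n00 : ∀ {M N : Matrix (Fin 2) (Fin 2) K}, M 0 0 ≠ N 0 0 → M ≠ N := fun hh e => hh (by rw [e])
    have hWX := d (hA := mul_mem hWm hWm) (hB := mul_mem hXm hXm)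
      (by rw [hWW, h.sX_sq]; exact n10 (fun e => h.e_ne_one (mul_left_cancel₀ hi0 (by simpa using e))))
      (by rw [hWW, h.sX_sq]; exact n10 (fun e => h.e_ne_neg (mul_left_cancel₀ hi0 (by simpa using e))))
    have hWY := d (hA := mul_mem hWm hWm) (hB := mul_mem hYm hYm)
      (by
        rw [hWW, h.sY_sq]
        refine n10 fun e => hi0 ?_
        simp at e
        have h4 := h.hf
        have e2 : (f * f) * (f * f) = -1 := by linear_combination -(i * (f * f) - 1) * e + (f * f) * (f * f) * h.hi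
        exact absurd (show f * f = 0 by linear_combination -h4 + e2) (mul_ne_zero hf0 hf0))
      (by
        rw [hWW, h.sY_sq]
        refine n10 fun e => hi0 ?_
        simp at e
        have h4 := h.hf
        have e2 : (f * f) * (f * f) = -1 := by linear_combination -(i * (f * f) + 1) * e + (f * f) * (f * f) * h.hi
        exact absurd (show f * f = 0 by linear_combination -h4 + e2) (mul_ne_zero hf0 hf0))
    have hWZ := d (hA := mul_mem hWm hWm) (hB := mul_mem hZm hZm)
      (by rw [hWW, h.sZ_sq]; exact n00 (by simpa using hi0.symm))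
      (by rw [hWW, h.sZ_sq]; exact n00 (by simpa using (neg_ne_zero.mpr hi0).symm))
    have hXY := d (hA := mul_mem hXm hXm) (hB := mul_mem hYm hYm)
      (by rw [h.sX_sq, h.sY_sq]; exact n01 (fun e => h.h2 (by simp at e; rw [e] at h; linear_combination h.hi)))
      (by rw [h.sX_sq, h.sY_sq]; exact n01 (fun e => h.h2 (by simp at e; rw [e] at h; linear_combination h.hi)))
    have hXZ := d (hA := mul_mem hXm hXm) (hB := mul_mem hZm hZm)
      (by rw [h.sX_sq, h.sZ_sq]; exact n00 (by simpa using hi0.symm))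
      (by rw [h.sX_sq, h.sZ_sq]; exact n00 (by simpa using (neg_ne_zero.mpr hi0).symm))
    have hYZ := d (hA := mul_mem hYm hYm) (hB := mul_mem hZm hZm)
      (by rw [h.sY_sq, h.sZ_sq]; exact n00 (by simpa using hi0.symm))
      (by rw [h.sY_sq, h.sZ_sq]; exact n00 (by simpa using (neg_ne_zero.mpr hi0).symm))
    have hcard := Finset.card_le_card (show ({φ ⟨_, hin (mul_mem hWm hWm)⟩, φ ⟨_, hin (mul_mem hXm hXm)⟩,
      φ ⟨_, hin (mul_mem hYm hYm)⟩, φ ⟨_, hin (mul_mem hZm hZm)⟩} : Finset (Equiv.Perm (Fin 4))) ⊆ T from by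
        intro y hy
        simp only [Finset.mem_insert, Finset.mem_singleton] at hy
        rcases hy with rfl | rfl | rfl | rfl <;> assumption)
    rw [Finset.card_insert_of_notMem (by simp only [Finset.mem_insert, Finset.mem_singleton, not_or]; exact ⟨hWX, hWY, hWZ⟩),
      Finset.card_insert_of_notMem (by simp only [Finset.mem_insert, Finset.mem_singleton, not_or]; exact ⟨hXY, hXZ⟩), Finset.card_insert_of_notMem (by simp only [Finset.mem_singleton]; exact hYZ),
      Finset.card_singleton, squares_perm_four] at hcard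
    omega

end Roots

end Cfsg.Agent.Classical.Frame.Qubit
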