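/-
The pairs generated by the one-qubit normaliser and the element of order three contain a diagonal unipotent.
-/
import Cfsg.Agent.Lib.Classical.Frame.Qubit

set_option autoImplicit false
set_option linter.unusedSectionVars false

namespace Cfsg.Agent.Classical.Frame.Qubit

open Matrix
open Cfsg.Agent.Small

universe x

variable {K : Type x} [Field K]

local notation "S2" => Matrix.SpecialLinearGroup (Fin 2) K
local notation "P2" => Matrix.ProjectiveSpecialLinearGroup (Fin 2) K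

/-- Matrices over a subfield. -/
def jS (L : Subfield K) : Matrix.SpecialLinearGroup (Fin 2) L →* S2 := Matrix.SpecialLinearGroup.map L.subtype

theorem jS_val (L : Subfield K) (y : Matrix.SpecialLinearGroup (Fin 2) L) : (jS L y).1 = y.1.map L.subtype := rfl

theorem map_sub_inj (L : Subfield K) {M N : Matrix (Fin 2) (Fin 2) L} (e : M.map L.subtype = N.map L.subtype) :
    M = N := Matrix.map_injective L.subtype.injective e

/-- The embedding of `PSL₂` of a subfield. -/
noncomputable def jP (L : Subfield K) : Matrix.ProjectiveSpecialLinearGroup (Fin 2) L →* P2 :=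
  QuotientGroup.lift _ (PSL2.pr.comp (jS L)) fun z hz => by
    obtain ⟨r, hr, hzr⟩ := Matrix.SpecialLinearGroup.mem_center_iff.mp hz
    rw [MonoidHom.mem_ker, MonoidHom.comp_apply, ← map_one PSL2.pr, PSL2.pr_eq_iff]
    refine ⟨(r : K), by simpa [pow_two] using congrArg Subtype.val hr, ?_⟩
    rw [jS_val, ← hzr]
    ext a b
    fin_cases a <;> fin_cases b <;> simp

theorem jP_pr (L : Subfield K) (y : Matrix.SpecialLinearGroup (Fin 2) L) : jP L (PSL2.pr y) = PSL2.pr (jS L y) := rfl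

theorem jP_injective (L : Subfield K) : Function.Injective (jP L) := by
  intro a b e
  obtain ⟨A, rfl⟩ := PSL2.pr_surjective a
  obtain ⟨B, rfl⟩ := PSL2.pr_surjective b
  rw [jP_pr, jP_pr, PSL2.pr_eq_iff] at e
  obtain ⟨ε, hε, he⟩ := e
  rcases mul_self_eq_one_iff.mp hε with rfl | rfl
  · exact (PSL2.pr_eq_iff _ _).mpr ⟨1, one_mul 1, map_sub_inj L (by rw [one_smul, ← jS_val, he, one_smul]; rfl)⟩
  · refine (PSL2.pr_eq_iff _ _).mpr ⟨-1, by ring, map_sub_inj L ?_⟩
    rw [neg_one_smul, ← jS_val, he, neg_one_smul, jS_val]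
    ext a b; simp

theorem jS_uS (L : Subfield K) (t : L) : jS L (PSL2.uS t) = PSL2.uS (t : K) := by
  apply Subtype.ext
  rw [jS_val]
  ext a b; fin_cases a <;> fin_cases b <;> simp

theorem jS_vS (L : Subfield K) (t : L) : jS L (PSL2.vS t) = PSL2.vS (t : K) := by
  apply Subtype.ext
  rw [jS_val]
  ext a b; fin_cases a <;> fin_cases b <;> simp

/-- An element over a subfield up to a scalar acts on `PSL₂` of the subfield. -/
theorem conj_jP (L : Subfield K) {A : S2} {c : K} {A0 : GL (Fin 2) L} (hA : A.1 = c • A0.val.map L.subtype)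
    (q : Matrix.ProjectiveSpecialLinearGroup (Fin 2) L) :
    PSL2.pr A * jP L q * (PSL2.pr A)⁻¹ = jP L (PSL2.conjP A0 q) := by
  obtain ⟨y, rfl⟩ := PSL2.pr_surjective q
  rw [jP_pr, PSL2.conjP_apply, jP_pr, mul_inv_eq_iff_eq_mul, ← map_mul, ← map_mul]
  congr 1
  apply Subtype.ext
  have e : (jS L (PSL2.conjSL A0 y)).1 = A0.val.map L.subtype * y.1.map L.subtype * A0⁻¹.val.map L.subtype := by
    rw [jS_val, PSL2.conjSL_val, Matrix.map_mul, Matrix.map_mul]
  have e' : A0⁻¹.val.map L.subtype * A0.val.map L.subtype = (1 : Matrix (Fin 2) (Fin 2) K) := by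
    rw [← Matrix.map_mul, ← Units.val_mul, inv_mul_cancel, Units.val_one,
      Matrix.map_one _ (map_zero _) (map_one _)]
  rw [PSL2.val_mul, PSL2.val_mul, jS_val, e, hA, Matrix.smul_mul, Matrix.mul_smul, mul_assoc, mul_assoc, e',
    mul_one]

/-- A scaled element of a subfield, squared, is a determinant-one element of the subfield. -/
theorem sq_mem_range (L : Subfield K) {A : S2} {c : K} {M : Matrix (Fin 2) (Fin 2) K} (hM : ∀ a b, M a b ∈ L)
    (hA : A.1 = c • M) : ∃ y, jS L y = A * A := by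
  have h1 := A.2
  rw [hA, Matrix.det_smul, Fintype.card_fin] at h1
  have hc2 : c ^ 2 ∈ L := by
    have hd : M.det ∈ L := by
      rw [Matrix.det_fin_two]
      exact L.sub_mem (L.mul_mem (hM 0 0) (hM 1 1)) (L.mul_mem (hM 0 1) (hM 1 0))
    rw [eq_inv_of_mul_eq_one_left h1]
    exact L.inv_mem hd
  have hmem : ∀ a b, (A * A).1 a b ∈ L := fun a b => by
    rw [PSL2.val_mul, hA, Matrix.smul_mul, Matrix.mul_smul, smul_smul, Matrix.smul_apply, smul_eq_mul, ← pow_two,
      Matrix.mul_apply, Fin.sum_univ_two]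
    exact L.mul_mem hc2 (L.add_mem (L.mul_mem (hM _ _) (hM _ _)) (L.mul_mem (hM _ _) (hM _ _)))
  refine ⟨⟨Matrix.of fun a b => ⟨(A * A).1 a b, hmem a b⟩, L.subtype.injective ?_⟩, Subtype.ext ?_⟩
  · rw [L.subtype.map_det, map_one]
    exact (A * A).2
  · rfl

theorem exists_GL (L : Subfield K) {A : S2} {c : K} {M : Matrix (Fin 2) (Fin 2) K} (hM : ∀ a b, M a b ∈ L)
    (hA : A.1 = c • M) : ∃ A0 : GL (Fin 2) L, A.1 = c • A0.val.map L.subtype := by
  let M0 : Matrix (Fin 2) (Fin 2) L := Matrix.of fun a b => ⟨M a b, hM a b⟩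
  have e : M0.map L.subtype = M := rfl
  have h1 := A.2
  rw [hA, Matrix.det_smul, Fintype.card_fin] at h1
  have hd : M0.det ≠ 0 := fun e0 => by
    have := L.subtype.map_det M0
    rw [e0, map_zero] at this
    rw [show (L.subtype : L →+* K).mapMatrix M0 = M from e] at this
    rw [← this, mul_zero] at h1
    exact zero_ne_one h1
  exact ⟨Matrix.GeneralLinearGroup.mkOfDetNeZero M0 hd, by rw [hA]; rfl⟩

variable {i r f : K}

namespace Roots

variable (h : Roots i r f)
include h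

theorem prop_comm {M : Matrix (Fin 2) (Fin 2) K} (hM : M.det ≠ 0) {ε : K} (hε : ε = 1 ∨ ε = -1)
    {c1 c2 : K} (hX : M * !![1, ε * i; ε * i, 1] = c1 • (!![1, i; i, 1] * M))
    (hZ : M * !![1 + ε * i, 0; 0, 1 - ε * i] = c2 • (!![1 + i, 0; 0, 1 - i] * M)) :
    (ε = 1 ∧ M 0 1 = 0 ∧ M 1 0 = 0 ∧ M 0 0 = M 1 1) ∨ (ε = -1 ∧ M 0 0 = 0 ∧ M 1 1 = 0 ∧ M 0 1 = -M 1 0) := by
  have hi0 := h.i_ne
  have hp : (1 : K) + i ≠ 0 := fun e => h.h2 (by linear_combination (1 - i) * e + h.hi)
  have hm : (1 : K) - i ≠ 0 := fun e => h.h2 (by linear_combination (1 + i) * e + h.hi)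
  rw [Matrix.eta_fin_two M] at hX hZ hM
  generalize M 0 0 = a, M 0 1 = b, M 1 0 = c, M 1 1 = d at hX hZ hM ⊢
  rw [Matrix.mul_fin_two, Matrix.mul_fin_two, Matrix.smul_of] at hX hZ
  rw [Matrix.det_fin_two_of] at hM
  have x00 := congrFun (congrFun hX 0) 0
  have x01 := congrFun (congrFun hX 0) 1
  have z00 := congrFun (congrFun hZ 0) 0
  have z01 := congrFun (congrFun hZ 0) 1
  have z10 := congrFun (congrFun hZ 1) 0
  have z11 := congrFun (congrFun hZ 1) 1
  simp at x00 x01 z00 z01 z10 z11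
  have h4 : (2 : K) * (2 * i) ≠ 0 := mul_ne_zero h.h2 (mul_ne_zero h.h2 hi0)
  rcases hε with rfl | rfl
  · left
    by_cases ha : a = 0
    · exfalso
      subst ha
      rw [zero_mul, zero_sub, neg_ne_zero, mul_ne_zero_iff] at hM
      have e1 : 1 - i = c2 * (1 + i) := mul_left_cancel₀ hM.1 (by linear_combination z01)
      have e2 : 1 + i = c2 * (1 - i) := mul_left_cancel₀ hM.2 (by linear_combination z10)
      exact h4 (by linear_combination -(1 - i) * e1 + (1 + i) * e2)
    have hc : c2 = 1 := mul_right_cancel₀ (mul_ne_zero hp ha) (by linear_combination -z00)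
    subst hc
    have hb : b = 0 := (mul_eq_zero.mp (show 2 * i * b = 0 by linear_combination -z01)).resolve_left
      (mul_ne_zero h.h2 hi0)
    have hc' : c = 0 := (mul_eq_zero.mp (show 2 * i * c = 0 by linear_combination z10)).resolve_left
      (mul_ne_zero h.h2 hi0)
    subst hb hc'
    have hc1 : c1 = 1 := mul_right_cancel₀ ha (by linear_combination -x00)
    subst hc1
    exact ⟨rfl, rfl, rfl, mul_left_cancel₀ hi0 (by linear_combination x01)⟩
  · right
    have ha : a = 0 := by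
      by_contra ha
      have e : 1 - i = c2 * (1 + i) := mul_left_cancel₀ ha (by linear_combination z00)
      have hd : d = 0 := (mul_eq_zero.mp (show 2 * (2 * i) * d = 0 by
        linear_combination (1 + i) * z11 - (1 - i) * d * e)).resolve_left h4
      have hc' : c = 0 := (mul_eq_zero.mp (show (2 * i * (1 - i)) * c = 0 by
        linear_combination (1 + i) * z10 - (1 - i) * c * e)).resolve_left
        (mul_ne_zero (mul_ne_zero h.h2 hi0) hm)
      exact hM (by rw [hd, hc']; ring)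
    subst ha
    rw [zero_mul, zero_sub, neg_ne_zero, mul_ne_zero_iff] at hM
    have hc : c2 = 1 := mul_right_cancel₀ (mul_ne_zero hp hM.1) (by linear_combination -z01)
    subst hc
    have hd : d = 0 := (mul_eq_zero.mp (show 2 * i * d = 0 by linear_combination z11)).resolve_left
      (mul_ne_zero h.h2 hi0)
    subst hd
    have hc1 : c1 = 1 := mul_right_cancel₀ hM.1 (by linear_combination -x01)
    subst hc1
    exact ⟨rfl, rfl, rfl, mul_left_cancel₀ hi0 (by linear_combination -x00)⟩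

/-- **A diagonal unipotent.** -/
theorem exists_unipotent [Fintype K] {p : ℕ} [hp : Fact p.Prime] (h5 : 5 ≤ p) (hK : Fintype.card K = p ^ 2) :
    ∃ y : S2, y.1 ≠ 1 ∧ (y.1 - 1) * (y.1 - 1) = 0 ∧ (PSL2.pr y, PSL2.pr y) ∈ h.pairs := by
  classical
  haveI hchar : CharP K p := charP_of_card_eq_prime_pow hK
  obtain ⟨g, L, hlow, hhigh, hg1⟩ := h.field_type
  haveI : Fintype L := Fintype.ofFinite L
  obtain ⟨γ, hγ⟩ : ∃ γ : MulAut P2, γ = PSL2.conjP g := ⟨_, rfl⟩
  let D : Subgroup (P2 × P2) := h.pairs.map (MulEquiv.prodCongr γ γ).toMonoidHom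
  have hswap : ∀ {a b : P2}, (a, b) ∈ D → (b, a) ∈ D := by
    rintro a b ⟨⟨a', b'⟩, hm, e⟩
    exact ⟨(b', a'), h.swap_mem hm, Prod.ext (congrArg Prod.snd e) (congrArg Prod.fst e)⟩
  have hlift : ∀ {a b : P2}, (a, b) ∈ D → ∃ A : S2, ∃ c : K, ∃ A0 : GL (Fin 2) L,
      PSL2.pr A = a ∧ A.1 = c • A0.val.map L.subtype ∧ ∃ y, jS L y = A * A := by
    rintro a b ⟨⟨a', b'⟩, hm, e⟩
    obtain ⟨A', rfl⟩ := PSL2.pr_surjective a'
    have ha : γ (PSL2.pr A') = a := congrArg Prod.fst e
    rw [hγ, PSL2.conjP_apply] at ha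
    obtain ⟨c, M, hM, hA⟩ := hhigh _ ⟨A', h.mem_proj.mpr ⟨b', hm⟩, rfl⟩
    obtain ⟨A0, hA0⟩ := exists_GL L hM hA
    exact ⟨_, c, A0, ha, hA0, sq_mem_range L hM hA⟩
  have hfst : ∀ y ∈ h.proj.map (PSL2.conjSL g).toMonoidHom, ∃ b, (PSL2.pr y, b) ∈ D := by
    rintro _ ⟨z, hz, rfl⟩
    obtain ⟨b, hb⟩ := h.mem_proj.mp hz
    exact ⟨γ b, ⟨(PSL2.pr z, b), hb, Prod.ext (by rw [hγ]; rfl) rfl⟩⟩
  -- every element of `PSL₂(L)` has a partner there
  have hex : ∀ q : Matrix.ProjectiveSpecialLinearGroup (Fin 2) L, ∃ q', (jP L q, jP L q') ∈ D := by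
    let E : Subgroup (Matrix.SpecialLinearGroup (Fin 2) L) :=
      { carrier := {y | ∃ q', (jP L (PSL2.pr y), jP L q') ∈ D}
        one_mem' := ⟨1, by rw [map_one, map_one]; exact one_mem D⟩
        mul_mem' := by
          rintro y z ⟨a, ha⟩ ⟨b, hb⟩
          exact ⟨a * b, by rw [map_mul, map_mul, map_mul]; exact mul_mem ha hb⟩
        inv_mem' := by
          rintro y ⟨a, ha⟩
          exact ⟨a⁻¹, by rw [map_inv, map_inv, map_inv]; exact inv_mem ha⟩ }
    have h2L : (2 : L) ≠ 0 := fun e => h.h2 (by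
      have := congrArg L.subtype e
      rwa [map_ofNat, map_zero] at this)
    have root : ∀ (s : L → Matrix.SpecialLinearGroup (Fin 2) L), (∀ a b, s (a + b) = s a * s b) →
        (∀ a : L, jS L (s a) ∈ h.proj.map (PSL2.conjSL g).toMonoidHom) → ∀ t, s t ∈ E := by
      intro s hs hm t
      obtain ⟨b, hb⟩ := hfst _ (hm (t / 2))
      obtain ⟨B, c, B0, rfl, hB, y, hy⟩ := hlift (hswap hb)
      refine ⟨PSL2.pr y, ?_⟩
      rw [show t = t / 2 + t / 2 by field_simp; ring, hs, jP_pr, jP_pr, map_mul, hy, map_mul]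
      have := mul_mem hb hb
      rwa [Prod.mk_mul_mk] at this
    have hu := root PSL2.uS PSL2.uS_add fun a => by rw [jS_uS]; exact (hlow a a.2).1
    have hv := root PSL2.vS (fun a b => by
      apply Subtype.ext
      rw [PSL2.val_mul, PSL2.vS_val, PSL2.vS_val, PSL2.vS_val]
      simp [Matrix.mul_fin_two]) fun a => by rw [jS_vS]; exact (hlow a a.2).2
    intro q
    obtain ⟨y, rfl⟩ := PSL2.pr_surjective q
    refine Matrix.SL2.transvection_induction (fun y => y ∈ E) ?_ (fun A B hA hB => mul_mem hA hB) y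
    intro a b hab c
    fin_cases a <;> fin_cases b
    · exact absurd rfl hab
    · convert hu c using 1
      apply Subtype.ext; rw [SpecialLinearGroup.transvection_coe, PSL2.uS_val]
      ext u v; fin_cases u <;> fin_cases v <;> simp
    · convert hv c using 1
      apply Subtype.ext; rw [SpecialLinearGroup.transvection_coe, PSL2.vS_val]
      ext u v; fin_cases u <;> fin_cases v <;> simp
    · exact absurd rfl hab
  have back : ∀ {y : S2}, (PSL2.pr y, PSL2.pr y) ∈ D → y.1 ≠ 1 → (y.1 - 1) * (y.1 - 1) = 0 →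
      ∃ y : S2, y.1 ≠ 1 ∧ (y.1 - 1) * (y.1 - 1) = 0 ∧ (PSL2.pr y, PSL2.pr y) ∈ h.pairs := by
    intro y hy hne hnil
    obtain ⟨⟨a, b⟩, hm, e⟩ := hy
    obtain ⟨z, rfl⟩ := (PSL2.conjSL g).surjective y
    have ea : a = PSL2.pr z := γ.injective ((congrArg Prod.fst e).trans (by rw [hγ]; rfl))
    have eb : b = PSL2.pr z := γ.injective ((congrArg Prod.snd e).trans (by rw [hγ]; rfl))
    subst ea eb
    have hv : (PSL2.conjSL g z).1 - 1 = g.val * (z.1 - 1) * g⁻¹.val := by
      rw [PSL2.conjSL_val, mul_sub, sub_mul, mul_one, Units.mul_inv]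
    refine ⟨z, fun e1 => hne (by rw [← sub_eq_zero, hv, e1, sub_self, mul_zero, zero_mul]), ?_, hm⟩
    rw [hv] at hnil
    have := congrArg (fun M => g⁻¹.val * M * g.val) hnil
    simpa [mul_assoc] using this
  have huS : ∀ {t : K}, t ≠ 0 → (PSL2.uS t).1 ≠ (1 : Matrix (Fin 2) (Fin 2) K) := fun ht e => ht (by
    simpa using congrFun (congrFun e 0) 1)
  have hnilU : ∀ t : K, ((PSL2.uS t).1 - 1) * ((PSL2.uS t).1 - 1) = 0 := fun t => by
    ext a b; fin_cases a <;> fin_cases b <;> simp [Matrix.mul_apply, Fin.sum_univ_two]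
  have hLcard : 4 ≤ Nat.card L := by
    obtain ⟨n, -, hn⟩ := FiniteField.card L p
    rw [Nat.card_eq_fintype_card, hn]
    exact le_trans (by omega) (Nat.le_self_pow n.ne_zero p)
  haveI : IsSimpleGroup (Matrix.ProjectiveSpecialLinearGroup (Fin 2) L) :=
    Matrix.ProjectiveSpecialLinearGroup.rank_two_simple hLcard
  by_cases hker : ∃ n, (n, (1 : P2)) ∈ D ∧ n ≠ 1
  · obtain ⟨n, hn, hn1⟩ := hker
    let N : Subgroup (Matrix.ProjectiveSpecialLinearGroup (Fin 2) L) :=
      { carrier := {q | (jP L q, (1 : P2)) ∈ D}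
        one_mem' := by show (jP L 1, (1 : P2)) ∈ D; rw [map_one]; exact one_mem D
        mul_mem' := fun {a b} ha hb => by
          show (jP L (a * b), (1 : P2)) ∈ D
          simpa using mul_mem (show (jP L a, (1 : P2)) ∈ D from ha) (show (jP L b, (1 : P2)) ∈ D from hb)
        inv_mem' := fun {a} ha => by
          show (jP L a⁻¹, (1 : P2)) ∈ D
          simpa using inv_mem (show (jP L a, (1 : P2)) ∈ D from ha) }
    haveI : N.Normal := ⟨fun a ha q => by
      obtain ⟨q', hq'⟩ := hex q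
      show (jP L (q * a * q⁻¹), (1 : P2)) ∈ D
      simpa using mul_mem (mul_mem hq' (show (jP L a, (1 : P2)) ∈ D from ha)) (inv_mem hq')⟩
    rcases IsSimpleGroup.eq_bot_or_eq_top_of_normal N inferInstance with hN | hN
    · exfalso
      obtain ⟨A, c, A0, rfl, hA, -⟩ := hlift hn
      have hfix : PSL2.conjP A0 = 1 := MulEquiv.ext fun q => by
        obtain ⟨q', hq'⟩ := hex q
        have hm : PSL2.conjP A0 q * q⁻¹ ∈ N := by
          show (jP L (PSL2.conjP A0 q * q⁻¹), (1 : P2)) ∈ D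
          rw [map_mul, ← conj_jP L hA, map_inv]
          simpa [mul_assoc] using mul_mem (mul_mem (mul_mem hn hq') (inv_mem hn)) (inv_mem hq')
        rw [hN, Subgroup.mem_bot, mul_inv_eq_one] at hm
        exact hm
      have hs := PSL2.scalar_of_conjP_eq_one hfix
      apply hn1
      have hA' : A.1 = (c * (A0.val 0 0 : L)) • (1 : Matrix (Fin 2) (Fin 2) K) := by
        rw [hA, hs]
        ext a b; fin_cases a <;> fin_cases b <;> simp
      refine ((PSL2.pr_eq_iff A 1).mpr ⟨_, ?_, hA'⟩).trans (map_one _)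
      have h1 := A.2
      rw [hA', Matrix.det_smul, Fintype.card_fin, Matrix.det_one, mul_one, pow_two] at h1
      exact h1
    · have hu : (jP L (PSL2.pr (PSL2.uS (1 : L))), (1 : P2)) ∈ D := by
        have : PSL2.pr (PSL2.uS (1 : L)) ∈ N := hN ▸ Subgroup.mem_top _
        exact this
      have := mul_mem hu (hswap hu)
      rw [Prod.mk_mul_mk, mul_one, one_mul, jP_pr, jS_uS] at this
      exact back this (huS (by simp)) (hnilU _)
  push Not at hker
  have hone : ∀ {a b b' : P2}, (a, b) ∈ D → (a, b') ∈ D → b = b' := fun {a b b'} h1 h2 => by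
    have := hswap (show (a⁻¹ * a, b⁻¹ * b') ∈ D from mul_mem (inv_mem h1) h2)
    rw [inv_mul_cancel] at this
    exact inv_mul_eq_one.mp (hker _ this)
  choose α hα using hex
  have hhom : ∀ a b, α (a * b) = α a * α b := fun a b => jP_injective L (hone (hα (a * b)) (by
    rw [map_mul, map_mul]; exact mul_mem (hα a) (hα b)))
  have hinv : ∀ a, α (α a) = a := fun a => jP_injective L (hone (hα (α a)) (hswap (hα a)))
  let αA : MulAut (Matrix.ProjectiveSpecialLinearGroup (Fin 2) L) :=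
    { toFun := α, invFun := α, left_inv := hinv, right_inv := hinv, map_mul' := hhom }
  obtain ⟨n, -, hn⟩ := FiniteField.card L p
  obtain ⟨M, σ, hMσ⟩ := PSL2.aut_eq hn αA
  -- partners of all elements
  have hrel : ∀ {a b : P2}, (a, b) ∈ D → ∀ {A : S2} {c : K} {A0 : GL (Fin 2) L}, PSL2.pr A = a →
      A.1 = c • A0.val.map L.subtype → ∀ {B : S2}, PSL2.pr B = b →
      ∃ d : K, B.1 = d • (M * PSL2.glField σ A0 * M⁻¹).val.map L.subtype := by
    intro a b hab A c A0 ha hA B hb
    obtain ⟨B', c', B0, hb', hB, -⟩ := hlift (hswap hab)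
    have hc : αA * PSL2.conjP A0 = PSL2.conjP B0 * αA := MulEquiv.ext fun q => jP_injective L (by
      have h1 := mul_mem (mul_mem hab (hα q)) (inv_mem hab)
      rw [Prod.inv_mk, Prod.mk_mul_mk, Prod.mk_mul_mk, ← ha, conj_jP L hA, ← hb', conj_jP L hB] at h1
      exact (hone (hα (PSL2.conjP A0 q)) h1))
    rw [hMσ, mul_assoc, PSL2.fieldP_conjP, ← mul_assoc, ← mul_assoc, mul_right_cancel_iff, ← map_mul] at hc
    have hfix : PSL2.conjP (M * PSL2.glField σ A0 * M⁻¹)⁻¹ * PSL2.conjP B0 = 1 := by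
      have e : PSL2.conjP B0 = PSL2.conjP (M * PSL2.glField σ A0 * M⁻¹) := by
        rw [map_mul (PSL2.conjP) _ M⁻¹, hc, map_inv, mul_inv_cancel_right]
      rw [e, map_inv, inv_mul_cancel]
    rw [← map_mul] at hfix
    obtain ⟨T, hT⟩ : ∃ T, T = (M * PSL2.glField σ A0 * M⁻¹ : GL (Fin 2) L) := ⟨_, rfl⟩
    rw [← hT] at hfix ⊢
    have hs := PSL2.scalar_of_conjP_eq_one hfix
    obtain ⟨e, he⟩ : ∃ e : L, B0.val = e • T.val := by
      refine ⟨(T⁻¹ * B0).val 0 0, ?_⟩
      calc B0.val = T.val * (T⁻¹ * B0).val := by rw [← Units.val_mul, mul_inv_cancel_left]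
        _ = _ := by conv_lhs => rw [hs]
                    rw [Matrix.mul_smul, mul_one]
    obtain ⟨ε, -, hε⟩ := (PSL2.pr_eq_iff B B').mp (hb.trans hb'.symm)
    refine ⟨ε * (c' * (e : K)), ?_⟩
    rw [hε, hB, he, Matrix.map_smul', smul_smul, smul_smul, mul_assoc]
    · rfl
    · exact map_mul _
  -- the generators
  have hgen : ∀ G G' : S2, (PSL2.pr G, PSL2.pr G') ∈ h.gens → ∃ (c d : K) (A0 : GL (Fin 2) L),
      (PSL2.conjSL g G).1 = c • A0.val.map L.subtype ∧
        (PSL2.conjSL g G').1 = d • (M * PSL2.glField σ A0 * M⁻¹).val.map L.subtype := by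
    intro G G' hG
    have hab : (PSL2.pr (PSL2.conjSL g G), PSL2.pr (PSL2.conjSL g G')) ∈ D :=
      ⟨_, Subgroup.subset_closure hG, Prod.ext (by rw [hγ]; rfl) (by rw [hγ]; rfl)⟩
    obtain ⟨c, N, hN, hA⟩ := hhigh _ ⟨G, h.gen_mem_proj hG, rfl⟩
    obtain ⟨A0, hA0⟩ := exists_GL L hN hA
    obtain ⟨d, hd⟩ := hrel hab rfl hA0 (B := PSL2.conjSL g G') rfl
    exact ⟨c, d, A0, hA0, hd⟩
  obtain ⟨MK, hMK⟩ : ∃ MK : GL (Fin 2) K, MK = Matrix.GeneralLinearGroup.map L.subtype M := ⟨_, rfl⟩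
  have hMKv : MK.val = M.val.map L.subtype := by rw [hMK]; rfl
  have hMKi : MK⁻¹.val = M⁻¹.val.map L.subtype := by rw [hMK, ← map_inv]; rfl
  by_cases hσ : σ = 1
  · -- trivial field automorphism: impossible
    exfalso
    obtain ⟨T, hT⟩ : ∃ T : GL (Fin 2) K, T = g⁻¹ * MK * g := ⟨_, rfl⟩
    have hG : ∀ G G' : S2, (PSL2.pr G, PSL2.pr G') ∈ h.gens → ∃ d : K, T.val * G.1 = d • (G'.1 * T.val) := by
      intro G G' hGG
      obtain ⟨c, d, A0, e1, e2⟩ := hgen G G' hGG
      have hd : d ≠ 0 := ne_zero_of_val e2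
      refine ⟨c / d, ?_⟩
      have e3 : MK.val * (PSL2.conjSL g G).1 * MK⁻¹.val = (c / d) • (PSL2.conjSL g G').1 := by
        rw [e1, e2, hσ, smul_smul, div_mul_cancel₀ _ hd, Matrix.mul_smul, Matrix.smul_mul, hMKv, hMKi, ← Matrix.map_mul,
          ← Matrix.map_mul]
        rfl
      rw [PSL2.conjSL_val, PSL2.conjSL_val] at e3
      have e4 := congrArg (fun N => g⁻¹.val * N * (MK.val * g.val)) e3
      simp only [Matrix.mul_smul, Matrix.smul_mul, mul_assoc, Units.inv_mul_cancel_left, Units.inv_mul, mul_one] at e4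
      rw [hT]
      simpa only [Units.val_mul, mul_assoc, Units.inv_mul_cancel_left, Units.mul_inv_cancel_left] using e4
    obtain ⟨c1, e1⟩ := hG h.sX h.sX (by simp [gens])
    obtain ⟨c2, e2⟩ := hG h.sZ h.sZ (by simp [gens])
    obtain ⟨c3, e3⟩ := hG h.sD h.sD⁻¹ (by simp [gens, map_inv])
    have hr0 := h.r_ne
    have f1 : T.val * !![1, 1 * i; 1 * i, 1] = c1 • (!![1, i; i, 1] * T.val) := by
      rw [show h.sX.1 = r⁻¹ • !![1, i; i, 1] from rfl, Matrix.mul_smul, Matrix.smul_mul, smul_comm c1] at e1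
      rw [one_mul]
      exact smul_right_injective (Matrix (Fin 2) (Fin 2) K) (inv_ne_zero hr0) e1
    have f2 : T.val * !![1 + 1 * i, 0; 0, 1 - 1 * i] = c2 • (!![1 + i, 0; 0, 1 - i] * T.val) := by
      rw [show h.sZ.1 = r⁻¹ • !![1 + i, 0; 0, 1 - i] from rfl, Matrix.mul_smul, Matrix.smul_mul, smul_comm c2] at e2
      rw [one_mul]
      exact smul_right_injective (Matrix (Fin 2) (Fin 2) K) (inv_ne_zero hr0) e2
    rcases h.prop_comm (Matrix.GeneralLinearGroup.det_ne_zero T) (Or.inl rfl) f1 f2 with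
      ⟨-, h01, h10, hd⟩ | ⟨e, -⟩
    swap
    · exact h.h2 (by linear_combination e)
    have hdet := Matrix.GeneralLinearGroup.det_ne_zero T
    rw [Matrix.det_fin_two, h01, zero_mul, sub_zero, mul_ne_zero_iff] at hdet
    rw [Matrix.SpecialLinearGroup.coe_inv, show h.sD.1 = !![f⁻¹, 0; 0, f] from rfl, Matrix.adjugate_fin_two_of] at e3
    rw [Matrix.eta_fin_two T.val, h01, h10, ← hd, Matrix.mul_fin_two, Matrix.mul_fin_two, Matrix.smul_of] at e3
    have a0 := congrFun (congrFun e3 0) 0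
    have a1 := congrFun (congrFun e3 1) 1
    simp at a0 a1
    have hf0 := h.f_ne
    have b0 : f⁻¹ = c3 * f := mul_right_cancel₀ hdet.1 (by linear_combination a0)
    have b1 : f = c3 * f⁻¹ := mul_right_cancel₀ hdet.1 (by linear_combination a1)
    field_simp at b0 b1
    rcases mul_self_eq_mul_self_iff.mp (show f * f * (f * f) = 1 * 1 by linear_combination (f * f) * b1 - b0) with e | e
    · exact h.e_ne_one e
    · exact h.e_ne_neg e
  -- the field is everything
  have hL : L = ⊤ := by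
    by_contra hL
    apply hσ
    have hn1 : (n : ℕ) = 1 := by
      have h1 : Nat.card K = Nat.card L ^ Module.finrank L K := Module.natCard_eq_pow_finrank
      have h2 : Module.finrank L K ≠ 1 := fun e => hL (eq_top_iff.mpr fun t _ => by
        obtain ⟨y, rfl⟩ := ((Nat.bijective_iff_injective_and_card (fun y : L => (y : K))).mpr
          ⟨Subtype.val_injective, by rw [h1, e, pow_one]⟩).surjective t
        exact y.2)
      rw [Nat.card_eq_fintype_card, Nat.card_eq_fintype_card, hK, hn, ← pow_mul] at h1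
      have h3 : 2 = (n : ℕ) * Module.finrank L K := Nat.pow_right_injective hp.out.two_le h1
      have h4 : 0 < Module.finrank L K := Module.finrank_pos
      have h4' : 2 ≤ Module.finrank L K := by omega
      have h5 : 0 < (n : ℕ) := n.pos
      nlinarith
    rw [hn1, pow_one] at hn
    haveI : CharP L p := charP_of_card_eq_prime hn
    exact RingEquiv.ext fun t => by
      obtain ⟨k, rfl⟩ := ((ZMod.castHom_injective (n := p) L).bijective_of_nat_card_le (by
        rw [Nat.card_eq_fintype_card, hn, Nat.card_zmod])).surjective t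
      exact RingHom.congr_fun (RingHom.ext_zmod ((σ : L →+* L).comp (ZMod.castHom (dvd_refl p) L))
        ((RingHom.id L).comp (ZMod.castHom (dvd_refl p) L))) k
  obtain rfl := hg1 hL
  obtain ⟨τ, hτ⟩ : ∃ τ : K →+* K, τ = L.subtype.comp ((σ : L →+* L).comp
      ((RingHom.id K).codRestrict L fun t => hL ▸ Subfield.mem_top t)) := ⟨_, rfl⟩
  have hmap : ∀ A0 : GL (Fin 2) L, (PSL2.glField σ A0).val.map L.subtype = (A0.val.map L.subtype).map τ := by
    intro A0; rw [hτ]; rfl
  have hG : ∀ G : S2, (PSL2.pr G, PSL2.pr G) ∈ h.gens → ∃ d : K, MK.val * G.1.map τ = d • (G.1 * MK.val) := by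
    intro G hGG
    obtain ⟨c, d, A0, e1, e2⟩ := hgen G G hGG
    simp only [map_one, MulAut.one_apply] at e1 e2
    have hd : d ≠ 0 := ne_zero_of_val e2
    refine ⟨τ c / d, ?_⟩
    conv_lhs => rw [e1]
    rw [e2, Units.val_mul, Units.val_mul, Matrix.map_mul, Matrix.map_mul, ← hMKv, ← hMKi, hmap, Matrix.smul_mul,
      smul_smul, div_mul_cancel₀ _ hd, Units.inv_mul_cancel_right, Matrix.map_smul', Matrix.mul_smul]
    exact map_mul τ
  obtain ⟨c1, e1⟩ := hG h.sX (by simp [gens])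
  obtain ⟨c2, e2⟩ := hG h.sZ (by simp [gens])
  obtain ⟨ε, hε, hτi⟩ : ∃ ε : K, (ε = 1 ∨ ε = -1) ∧ τ i = ε * i := by
    rcases mul_self_eq_mul_self_iff.mp (show τ i * τ i = i * i by rw [← map_mul, h.hi, map_neg, map_one]) with e | e
    · exact ⟨1, Or.inl rfl, by rw [e, one_mul]⟩
    · exact ⟨-1, Or.inr rfl, by rw [e, neg_one_mul]⟩
  have hr0 := h.r_ne
  have hτr : τ r ≠ 0 := (map_ne_zero τ).mpr hr0
  have f1 : MK.val * !![1, ε * i; ε * i, 1] = (τ r * c1 / r) • (!![1, i; i, 1] * MK.val) := by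
    have := congrArg (τ r • ·) e1
    have em : (h.sX).1.map τ = (τ r)⁻¹ • !![1, ε * i; ε * i, 1] := by
      ext a b; fin_cases a <;> fin_cases b <;> simp [sX, hτi]
    rw [em] at this
    rw [show h.sX.1 = r⁻¹ • !![1, i; i, 1] from rfl, Matrix.mul_smul, Matrix.smul_mul] at this
    rw [smul_inv_smul₀ hτr, smul_smul, smul_smul] at this
    rw [div_eq_mul_inv]
    exact this
  have f2 : MK.val * !![1 + ε * i, 0; 0, 1 - ε * i] = (τ r * c2 / r) • (!![1 + i, 0; 0, 1 - i] * MK.val) := by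
    have := congrArg (τ r • ·) e2
    have em : (h.sZ).1.map τ = (τ r)⁻¹ • !![1 + ε * i, 0; 0, 1 - ε * i] := by
      ext a b; fin_cases a <;> fin_cases b <;> simp [sZ, hτi]
    rw [em] at this
    rw [show h.sZ.1 = r⁻¹ • !![1 + i, 0; 0, 1 - i] from rfl, Matrix.mul_smul, Matrix.smul_mul] at this
    rw [smul_inv_smul₀ hτr, smul_smul, smul_smul] at this
    rw [div_eq_mul_inv]
    exact this
  -- a fixed element is a diagonal element
  have fixd : ∀ {y : S2} {d : K}, d ≠ 0 → MK.val * y.1.map τ = d • (y.1 * MK.val) → (PSL2.pr y, PSL2.pr y) ∈ D := by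
    intro y d hd hy
    have hy' : y ∈ h.proj.map (PSL2.conjSL (1 : GL (Fin 2) K)).toMonoidHom := by
      refine Matrix.SL2.transvection_induction (fun A => A ∈ h.proj.map (PSL2.conjSL (1 : GL (Fin 2) K)).toMonoidHom)
        ?_ (fun A B hA hB => mul_mem hA hB) y
      intro a b hab c
      fin_cases a <;> fin_cases b
      · exact absurd rfl hab
      · convert (hlow c (hL ▸ Subfield.mem_top c)).1 using 1
        apply Subtype.ext; rw [SpecialLinearGroup.transvection_coe, PSL2.uS_val]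
        ext u v; fin_cases u <;> fin_cases v <;> simp
      · convert (hlow c (hL ▸ Subfield.mem_top c)).2 using 1
        apply Subtype.ext; rw [SpecialLinearGroup.transvection_coe, PSL2.vS_val]
        ext u v; fin_cases u <;> fin_cases v <;> simp
      · exact absurd rfl hab
    obtain ⟨b, hb⟩ := hfst y hy'
    obtain ⟨A0, hA0⟩ := exists_GL L (A := y) (c := 1) (M := y.1) (fun a b => hL ▸ Subfield.mem_top _)
      (one_smul _ _).symm
    obtain ⟨B, rfl⟩ := PSL2.pr_surjective b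
    obtain ⟨e, he⟩ := hrel hb rfl hA0 (B := B) rfl
    rw [one_smul] at hA0
    have hB : B.1 = (e * d) • y.1 := by
      rw [he, Units.val_mul, Units.val_mul, Matrix.map_mul, Matrix.map_mul, ← hMKv, ← hMKi, hmap, ← hA0, hy,
        Matrix.smul_mul, Units.mul_inv_cancel_right, smul_smul]
    have hee : (e * d) * (e * d) = 1 := by
      have h1 := B.2
      rw [hB, Matrix.det_smul, Fintype.card_fin, y.2, mul_one, pow_two] at h1
      exact h1
    rwa [show PSL2.pr B = (PSL2.pr y : P2) from (PSL2.pr_eq_iff _ _).mpr ⟨_, hee, hB⟩] at hb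
  rcases h.prop_comm (Matrix.GeneralLinearGroup.det_ne_zero MK) hε f1 f2 with ⟨rfl, h01, h10, hd⟩ | ⟨rfl, h00, h11, hd⟩
  · refine back (fixd (y := PSL2.uS 1) one_ne_zero ?_) (huS one_ne_zero) (hnilU 1)
    ext a b
    fin_cases a <;> fin_cases b <;> simp [Matrix.mul_apply, Matrix.vecMul, dotProduct, Fin.sum_univ_two, h01, h10, hd, PSL2.uS_val]
  · haveI : NeZero p := ⟨hp.out.ne_zero⟩
    obtain ⟨u, v, huv⟩ := ZMod.sq_add_sq p (-1)
    obtain ⟨ψ, hψ⟩ : ∃ ψ : ZMod p →+* K, ψ = ZMod.castHom (dvd_refl p) K := ⟨_, rfl⟩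
    have hfixψ : ∀ t, τ (ψ t) = ψ t := fun t => RingHom.congr_fun (RingHom.ext_zmod (τ.comp ψ) ψ) t
    obtain ⟨a, ha⟩ : ∃ a, a = ψ u + ψ v * i := ⟨_, rfl⟩
    obtain ⟨a', ha'⟩ : ∃ a', a' = ψ u - ψ v * i := ⟨_, rfl⟩
    have haa : a * a' = -1 := by
      have e := congrArg ψ huv
      rw [map_add, map_pow, map_pow, map_neg, map_one] at e
      rw [ha, ha']
      linear_combination e - ψ v ^ 2 * h.hi
    have hτa : τ a = a' := by rw [ha, ha', map_add, map_mul, hfixψ, hfixψ, hτi]; ring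
    have hτa' : τ a' = a := by rw [ha, ha', map_sub, map_mul, hfixψ, hfixψ, hτi]; ring
    let y : S2 := ⟨!![1 + i, i * a'; i * a, 1 - i], by
      rw [Matrix.det_fin_two_of]; linear_combination -h.hi - (i * i) * haa + h.hi⟩
    refine back (fixd (y := y) one_ne_zero ?_) (fun e => h.i_ne ?_) ?_
    · ext b c
      fin_cases b <;> fin_cases c <;>
        simp [y, Matrix.mul_apply, Matrix.vecMul, dotProduct, Fin.sum_univ_two, h00, h11, hd, hτi, hτa, hτa'] <;> ring
    · have := congrFun (congrFun e 0) 0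
      simpa [y] using this
    · ext b c
      fin_cases b <;> fin_cases c <;> simp [y, Matrix.mul_apply, Fin.sum_univ_two] <;>
        first | ring1 | linear_combination (i * i) * haa

end Roots

end Cfsg.Agent.Classical.Frame.Qubit
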