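/-
The controlled element of order three contradicts splitting when the characteristic is at least five.
-/
import Cfsg.Agent.Lib.Classical.Frame.Anti
import Cfsg.Agent.Lib.Classical.Frame.QubitMain

set_option autoImplicit false
set_option linter.unusedSectionVars false

namespace Cfsg.Agent.Classical.Frame

open Module Matrix
open Cfsg.Agent.Small

universe u v w

variable {F : Type u} [Field F] {V : Type v} [AddCommGroup V] [Module F V] [FiniteDimensional F V]
  {A : Type w} [AddCommGroup A] [Finite A]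

namespace Qubit

theorem exists_roots [Fintype F] {p : ℕ} [hp : Fact p.Prime] (h5 : 5 ≤ p) (hF : Fintype.card F = p ^ 2) :
    ∃ i r f : F, Roots i r f := by
  haveI : CharP F p := charP_of_card_eq_prime_pow hF
  have hne : ∀ n : ℕ, 0 < n → n < 5 → (n : F) ≠ 0 := fun n h1 h2 e => by
    have h3 := Nat.le_of_dvd h1 ((CharP.cast_eq_zero_iff F p n).mp e)
    omega
  have h2 : (2 : F) ≠ 0 := by exact_mod_cast hne 2 (by omega) (by omega)
  have h3 : (3 : F) ≠ 0 := by exact_mod_cast hne 3 (by omega) (by omega)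
  have hF2 : ringChar F ≠ 2 := by
    rw [ringChar.eq F p]; omega
  obtain ⟨m, hm⟩ : ∃ m, p = 2 * m + 1 := by
    rcases hp.out.eq_two_or_odd with h | h
    · omega
    · exact ⟨p / 2, by omega⟩
  have sq : ∀ n : ℕ, (n : F) ≠ 0 → IsSquare (n : F) := fun n hn => by
    rw [FiniteField.isSquare_iff hF2 hn, hF, show p ^ 2 / 2 = (p - 1) * (m + 1) by
      subst hm
      rw [show (2 * m + 1) ^ 2 = 2 * (2 * m * (m + 1)) + 1 by ring, show 2 * m + 1 - 1 = 2 * m by omega]
      omega, pow_mul]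
    have hz : (n : ZMod p) ≠ 0 := fun e => hn (by
      rw [← map_natCast (ZMod.castHom (dvd_refl p) F), e, map_zero])
    have e := congrArg (ZMod.castHom (dvd_refl p) F) (ZMod.pow_card_sub_one_eq_one hz)
    rw [map_pow, map_natCast, map_one] at e
    rw [e, one_pow]
  have sqn : ∀ n : ℕ, 0 < n → n < 5 → ∃ r : F, r * r = -(n : F) := fun n h1 h1' => by
    have hpn : ((p - 1) * n : ℕ) = ((p - 1) * n : ℕ) := rfl
    have e : (((p - 1) * n : ℕ) : F) = -(n : F) := by
      rw [Nat.cast_mul, Nat.cast_sub hp.out.one_le, CharP.cast_eq_zero, Nat.cast_one, zero_sub, neg_one_mul]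
    obtain ⟨r, hr⟩ := sq ((p - 1) * n) (by rw [e]; exact neg_ne_zero.mpr (hne n h1 h1'))
    exact ⟨r, by rw [← hr, e]⟩
  obtain ⟨i, hi⟩ := sqn 1 one_pos (by omega)
  obtain ⟨w, hw⟩ := sqn 3 (by omega) (by omega)
  obtain ⟨r, hr⟩ := sq 2 (by exact_mod_cast h2)
  rw [Nat.cast_one] at hi
  have hw' : w * w = -3 := by exact_mod_cast hw
  obtain ⟨e, he⟩ : ∃ e, e = (1 + w) / 2 := ⟨_, rfl⟩
  have hee : e * e - e + 1 = 0 := by
    rw [he]
    field_simp
    linear_combination hw'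
  refine ⟨i, r, i * (e * e), hi, by exact_mod_cast hr.symm, ?_, h2, h3⟩
  have e3 : e * e * e = -1 := by linear_combination (e + 1) * hee
  have hff : i * (e * e) * (i * (e * e)) = e := by linear_combination (e * e * (e * e)) * hi - e * e3
  rw [hff]
  exact hee

/-- A nontrivial unipotent does not permute the three lines of Pauli matrices. -/
theorem not_pauli {h2 : (2 : F) ≠ 0} (h3 : (3 : F) ≠ 0) {m n l : F} (hm : m * m + n * l = 0)
    {R0 R1 : Matrix (Fin 2) (Fin 2) F}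
    (hR0 : R0 = !![1 - 2 * (m * m), -2 * n * (1 + m); 2 * l * (1 - m), -(1 - 2 * (m * m))])
    (hR1 : R1 = !![n - l - m * (n + l), (1 + m) * (1 + m) - n * n; (1 - m) * (1 - m) - l * l,
      -(n - l - m * (n + l))])
    (h0 : (R0 0 1 = 0 ∧ R0 1 0 = 0) ∨ (R0 0 0 = 0 ∧ (R0 0 1 = R0 1 0 ∨ R0 0 1 = -R0 1 0)))
    (h1 : (R1 0 1 = 0 ∧ R1 1 0 = 0) ∨ (R1 0 0 = 0 ∧ (R1 0 1 = R1 1 0 ∨ R1 0 1 = -R1 1 0))) :
    m = 0 ∧ n = 0 ∧ l = 0 := by
  subst hR0 hR1
  simp at h0 h1
  rcases h0 with ⟨a, b⟩ | ⟨a, b⟩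
  · have hn : n = 0 := by
      rcases a with a | a
      · rcases a with a | a
        · exact absurd a h2
        · exact a
      · have hm1 : m = -1 := by linear_combination a
        rcases b with b | b
        · rcases b with b | b
          · exact absurd b h2
          · rw [hm1, b] at hm; exact absurd (show (1 : F) = 0 by linear_combination hm) one_ne_zero
        · exact absurd (show (2 : F) = 0 by linear_combination b + hm1) h2
    have hm0 : m = 0 := mul_self_eq_zero.mp (by linear_combination hm - l * hn)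
    refine ⟨hm0, hn, ?_⟩
    rcases b with b | b
    · rcases b with b | b
      · exact absurd b h2
      · exact b
    · exact absurd (show (1 : F) = 0 by linear_combination b + hm0) one_ne_zero
  exfalso
  have hmm : 2 * (m * m) = 1 := by linear_combination -a
  have hm0 : m ≠ 0 := fun e => one_ne_zero (show (1 : F) = 0 by rw [e] at hmm; linear_combination -hmm)
  have hn0 : n ≠ 0 := fun e => one_ne_zero (show (1 : F) = 0 by rw [e] at hm; linear_combination -hmm + 2 * hm)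
  have hl0 : l ≠ 0 := fun e => one_ne_zero (show (1 : F) = 0 by rw [e] at hm; linear_combination -hmm + 2 * hm)
  obtain ⟨σ, hσ, hb⟩ : ∃ σ : F, σ * σ = 1 ∧ n * (1 + m) = σ * (l * (1 - m)) := by
    rcases b with b | b
    · refine ⟨-1, by ring, mul_left_cancel₀ h2 ?_⟩
      first | linear_combination b | linear_combination -b
    · refine ⟨1, by ring, mul_left_cancel₀ h2 ?_⟩
      first | linear_combination b | linear_combination -b
  have fin : (1 + m) * (1 + m) - σ * ((1 - m) * (1 - m)) = 0 → False := fun e => by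
    rcases mul_self_eq_one_iff.mp hσ with rfl | rfl
    · exact mul_ne_zero (mul_ne_zero h2 h2) hm0 (by linear_combination e)
    · exact h3 (by linear_combination e - hmm)
  rcases h1 with ⟨c, d⟩ | ⟨c, -⟩
  · have hnn : n * n = (1 + m) * (1 + m) := by linear_combination -c
    have hll : l * l = (1 - m) * (1 - m) := by linear_combination -d
    have e1 : ((1 + m) * (1 + m)) * ((1 + m) * (1 + m)) = ((1 - m) * (1 - m)) * ((1 - m) * (1 - m)) := by
      linear_combination (n * (1 + m) + σ * (l * (1 - m))) * hb - ((1 + m) * (1 + m)) * hnn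
        + ((1 - m) * (1 - m)) * hll + (l * (1 - m)) * (l * (1 - m)) * hσ
    have e2 : m * (1 + m * m) = 0 := by
      refine mul_left_cancel₀ (mul_ne_zero (mul_ne_zero h2 h2) h2) ?_
      linear_combination e1
    exact h3 (by linear_combination 2 * (mul_eq_zero.mp e2).resolve_left hm0 - hmm)
  · have e1 : n * (1 - m) = l * (1 + m) := by linear_combination c
    refine fin (mul_left_cancel₀ hl0 ?_)
    linear_combination (1 - m) * hb - (1 + m) * e1

namespace Roots

variable {i r f : F} (h : Roots i r f)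

theorem sX_inv : (h.sX.1).adjugate = r⁻¹ • !![1, -i; -i, 1] := by
  show Matrix.adjugate (r⁻¹ • !![1, i; i, 1]) = _
  rw [Matrix.smul_of, Matrix.adjugate_fin_two]
  ext a b; fin_cases a <;> fin_cases b <;> simp

theorem sZ_inv : (h.sZ.1).adjugate = r⁻¹ • !![1 - i, 0; 0, 1 + i] := by
  show Matrix.adjugate (r⁻¹ • !![1 + i, 0; 0, 1 - i]) = _
  rw [Matrix.smul_of, Matrix.adjugate_fin_two]
  ext a b; fin_cases a <;> fin_cases b <;> simp

theorem sY_inv : (h.sY.1).adjugate = r⁻¹ • !![1, -1; 1, 1] := by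
  show Matrix.adjugate (r⁻¹ • !![1, 1; -1, 1]) = _
  rw [Matrix.smul_of, Matrix.adjugate_fin_two]
  ext a b; fin_cases a <;> fin_cases b <;> simp

theorem sD_inv : (h.sD.1).adjugate = !![f, 0; 0, f⁻¹] := by
  show Matrix.adjugate !![f⁻¹, 0; 0, f] = _
  rw [Matrix.adjugate_fin_two]
  ext a b; fin_cases a <;> fin_cases b <;> simp

end Roots

end Qubit

variable {Φ : Data F V A} {G : Subgroup (PG F V)}

namespace Data

/-- `g` has matrix `M` on the pair of vectors. -/
def MatOn (g : V ≃ₗ[F] V) (v w : V) (M : Matrix (Fin 2) (Fin 2) F) : Prop :=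
  g v = M 0 0 • v + M 1 0 • w ∧ g w = M 0 1 • v + M 1 1 • w

theorem MatOn.mul {g g' : V ≃ₗ[F] V} {v w : V} {M M' : Matrix (Fin 2) (Fin 2) F} (hg : MatOn g v w M)
    (hg' : MatOn g' v w M') : MatOn (g * g') v w (M * M') := by
  obtain ⟨h1, h2⟩ := hg
  obtain ⟨h1', h2'⟩ := hg'
  constructor
  · rw [LinearEquiv.mul_apply, h1', map_add, map_smul, map_smul, h1, h2, Matrix.mul_apply, Matrix.mul_apply,
      Fin.sum_univ_two, Fin.sum_univ_two]
    module
  · rw [LinearEquiv.mul_apply, h2', map_add, map_smul, map_smul, h1, h2, Matrix.mul_apply, Matrix.mul_apply,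
      Fin.sum_univ_two, Fin.sum_univ_two]
    module

theorem MatOn.one (v w : V) : MatOn (1 : V ≃ₗ[F] V) v w 1 :=
  ⟨by simp, by simp⟩

theorem MatOn.inv {g : V ≃ₗ[F] V} {v w : V} {M M' : Matrix (Fin 2) (Fin 2) F} (hg : MatOn g v w M)
    (e : M * M' = 1) : MatOn g⁻¹ v w M' := by
  obtain ⟨h1, h2⟩ := hg
  have e00 : M 0 0 * M' 0 0 + M 0 1 * M' 1 0 = 1 := by
    have := congrFun (congrFun e 0) 0; simpa [Matrix.mul_apply, Fin.sum_univ_two] using this
  have e10 : M 1 0 * M' 0 0 + M 1 1 * M' 1 0 = 0 := by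
    have := congrFun (congrFun e 1) 0; simpa [Matrix.mul_apply, Fin.sum_univ_two] using this
  have e01 : M 0 0 * M' 0 1 + M 0 1 * M' 1 1 = 0 := by
    have := congrFun (congrFun e 0) 1; simpa [Matrix.mul_apply, Fin.sum_univ_two] using this
  have e11 : M 1 0 * M' 0 1 + M 1 1 * M' 1 1 = 1 := by
    have := congrFun (congrFun e 1) 1; simpa [Matrix.mul_apply, Fin.sum_univ_two] using this
  constructor <;> apply g.injective <;>
    rw [show ∀ y, g (g⁻¹ y) = y from g.apply_symm_apply, map_add, map_smul, map_smul, h1, h2]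
  · linear_combination (norm := module) -e00 • v - e10 • w
  · linear_combination (norm := module) -e01 • v - e11 • w

/-- The group of pairs of images. -/
noncomputable def pairImg (G : Subgroup (PG F V)) (v w v' w' : V) :
    Subgroup (Matrix.ProjectiveSpecialLinearGroup (Fin 2) F × Matrix.ProjectiveSpecialLinearGroup (Fin 2) F) where
  carrier := {qq | ∃ (g : V ≃ₗ[F] V) (Y Y' : Matrix.SpecialLinearGroup (Fin 2) F) (c c' : F), pr F V g ∈ G ∧
    c ≠ 0 ∧ c' ≠ 0 ∧ PSL2.pr Y = qq.1 ∧ PSL2.pr Y' = qq.2 ∧ MatOn g v w (c • Y.1) ∧ MatOn g v' w' (c' • Y'.1)}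
  one_mem' := ⟨1, 1, 1, 1, 1, by rw [map_one]; exact G.one_mem, one_ne_zero, one_ne_zero, map_one _, map_one _,
    by rw [one_smul]; exact MatOn.one v w, by rw [one_smul]; exact MatOn.one v' w'⟩
  mul_mem' := by
    rintro _ _ ⟨g, Y, Y', c, c', hg, hc, hc', e1, e2, m1, m2⟩ ⟨g0, Z, Z', d, d', hg0, hd, hd', e3, e4, m3, m4⟩
    refine ⟨g * g0, Y * Z, Y' * Z', c * d, c' * d', by rw [map_mul]; exact G.mul_mem hg hg0, mul_ne_zero hc hd,
      mul_ne_zero hc' hd', by rw [map_mul, e1, e3]; rfl, by rw [map_mul, e2, e4]; rfl, ?_, ?_⟩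
    · have := m1.mul m3
      rwa [Matrix.smul_mul, Matrix.mul_smul, smul_smul, ← PSL2.val_mul] at this
    · have := m2.mul m4
      rwa [Matrix.smul_mul, Matrix.mul_smul, smul_smul, ← PSL2.val_mul] at this
  inv_mem' := by
    rintro _ ⟨g, Y, Y', c, c', hg, hc, hc', e1, e2, m1, m2⟩
    have key : ∀ (d : F) (Z : Matrix.SpecialLinearGroup (Fin 2) F), d ≠ 0 →
        (d • Z.1) * (d⁻¹ • (Z⁻¹).1) = (1 : Matrix (Fin 2) (Fin 2) F) := fun d Z hd => by
      rw [Matrix.smul_mul, Matrix.mul_smul, smul_smul, mul_inv_cancel₀ hd, one_smul, ← PSL2.val_mul, mul_inv_cancel]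
      rfl
    exact ⟨g⁻¹, Y⁻¹, Y'⁻¹, c⁻¹, c'⁻¹, by rw [map_inv]; exact G.inv_mem hg, inv_ne_zero hc, inv_ne_zero hc',
      by rw [map_inv, e1]; rfl, by rw [map_inv, e2]; rfl, m1.inv (key c Y hc), m2.inv (key c' Y' hc')⟩

theorem mem_pairImg_inv {v w v' w' : V} {g : V ≃ₗ[F] V} (hg : pr F V g ∈ G)
    {Y Z : Matrix.SpecialLinearGroup (Fin 2) F} {c : F} (hc : c ≠ 0) (hY : Y = Z ∨ Y = Z⁻¹)
    (h1 : MatOn g v w (c • Y.1)) (h2 : MatOn g v' w' (c • Y.1)) :
    (PSL2.pr Z, PSL2.pr Z) ∈ pairImg G v w v' w' := by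
  have hm : (PSL2.pr Y, PSL2.pr Y) ∈ pairImg G v w v' w' := ⟨g, Y, Y, c, c, hg, hc, hc, rfl, rfl, h1, h2⟩
  rcases hY with rfl | rfl
  · exact hm
  · rw [map_inv] at hm
    simpa using inv_mem hm

/-- **The controlled element contradicts splitting.** -/
theorem ctrl_false [Fintype F] {p : ℕ} [hp : Fact p.Prime] (h5 : 5 ≤ p) (hF : Fintype.card F = p ^ 2)
    (hG : Φ.Full G) (hA : Nat.card A = 16) (hr : Φ.Roots) (hsplit : ∀ y ≠ 0, Φ.Split G y) {x a b : A} (hx : x ≠ 0)
    {s α β : F} (hs0 : s ≠ 0) (hs : ∀ v, Φ.u x (Φ.u x v) = (s * s) • v) {h : V ≃ₗ[F] V}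
    (hC : Φ.Ctrl G x s h a b α β) : False := by
  classical
  obtain ⟨i, r, f, hR⟩ := Qubit.exists_roots h5 hF
  obtain ⟨z, hxz, haz, hbz⟩ : ∃ z, Φ.sg x z = -1 ∧ Φ.sg a z = 1 ∧ Φ.sg b z = 1 := by
    obtain ⟨z0, hz0⟩ := Φ.nd x hx
    refine ⟨z0 + (if Φ.sg a z0 = -1 then b else 0) + (if Φ.sg b z0 = -1 then a else 0), ?_, ?_, ?_⟩
    · rw [Φ.sg_add, Φ.sg_add]; split_ifs <;> simp [hz0, hC.hxa, hC.hxb, Φ.sg_zero]
    · rw [Φ.sg_add, Φ.sg_add]
      rcases Φ.sign a z0 with e | e <;> rcases Φ.sign b z0 with e' | e' <;>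
        simp [e, e', hC.hab, Φ.sg_self, Φ.sg_zero, Φ.one_ne_neg]
    · rw [Φ.sg_add, Φ.sg_add]
      rcases Φ.sign a z0 with e | e <;> rcases Φ.sign b z0 with e' | e' <;>
        simp [e, e', Φ.sg_symm a b, hC.hab, Φ.sg_self, Φ.sg_zero, Φ.one_ne_neg]
  have hz0 : z ≠ 0 := fun e => Φ.one_ne_neg ((Φ.sg_zero x).symm.trans (e ▸ hxz))
  obtain ⟨rz, hrz0, hrz⟩ := hr z
  -- the normalised qubit operators
  obtain ⟨X, hXd⟩ : ∃ X : End F V, X = rz⁻¹ • Φ.m z := ⟨_, rfl⟩
  have hXv : ∀ v, X v = rz⁻¹ • Φ.u z v := fun v => by rw [hXd]; rfl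
  have hXX : ∀ v, X (X v) = v := fun v => by
    rw [hXv, hXv, map_smul, hrz, smul_smul, smul_smul]
    field_simp
    rw [one_smul]
  have hxX : ∀ {t : F} {v : V}, Φ.u x v = t • v → Φ.u x (X v) = -t • X v := fun {t v} hv => by
    rw [hXv, map_smul, Φ.comm x z, hxz, hv, map_smul]; module
  obtain ⟨C, hCd⟩ : ∃ C : End F V, C = cmap Φ a b α β := ⟨_, rfl⟩
  have hCX : ∀ v, C (X v) = X (C v) := fun v => by
    rw [hXv, hXv, map_smul, hCd,
      hC.commute_cmap (by rw [Φ.sg_symm]; exact haz) (by rw [Φ.sg_symm]; exact hbz)]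
  have hCx : ∀ v, C (Φ.u x v) = Φ.u x (C v) := fun v => by rw [hCd, hC.commute_cmap hC.hxa hC.hxb]
  -- joint eigenvectors
  obtain ⟨e, hed⟩ : ∃ e, e = f * f := ⟨_, rfl⟩
  have hee : e * e - e + 1 = 0 := hed ▸ hR.hf
  obtain ⟨v0, hv00, hv0⟩ := Φ.exists_eigen hx hs
  have hjoint : ∀ ρ : F, ρ * ρ - ρ + 1 = 0 → ∃ v, v ≠ 0 ∧ Φ.u x v = s • v ∧ C v = ρ • v := by
    intro ρ hρ
    obtain ⟨w, hw, hne⟩ := hC.not_scalar hv00 hv0 (1 - ρ)
    refine ⟨C w - (1 - ρ) • w, by rw [hCd]; exact sub_ne_zero.mpr hne, by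
      rw [map_sub, map_smul, ← hCx, hw, map_smul]; module, ?_⟩
    have e1 : C (C w) = C w - w := by rw [hCd]; exact hC.cmap_quad w
    rw [map_sub, map_smul, e1]
    linear_combination (norm := module) -hρ • w
  obtain ⟨v, hv, hvx, hvC⟩ := hjoint e hee
  obtain ⟨v', hv', hvx', hvC'⟩ := hjoint (1 - e) (by linear_combination hee)
  obtain ⟨w, hw⟩ : ∃ w, w = X v := ⟨_, rfl⟩
  obtain ⟨w', hw'⟩ : ∃ w', w' = X v' := ⟨_, rfl⟩
  have hwx : Φ.u x w = -s • w := hw ▸ hxX hvx
  have hwx' : Φ.u x w' = -s • w' := hw' ▸ hxX hvx'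
  have hd12 : (1 - e) - e ≠ 0 := fun he => hR.h3 (by linear_combination 4 * hee - ((1 - e) - e) * he + 0 * hee)
  -- they span
  have hspan : ∀ y : V, ∃ c1 c2 c3 c4 : F, y = c1 • v + c2 • w + c3 • v' + c4 • w' := by
    have hli : LinearIndependent F ![v, w, v', w'] := by
      rw [Fintype.linearIndependent_iff]
      intro g hg
      rw [Fin.sum_univ_four] at hg
      simp only [Matrix.cons_val_zero, Matrix.cons_val_one, Matrix.cons_val] at hg
      have e1 := congrArg (Φ.u x) hg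
      simp only [map_add, map_smul, hvx, hwx, hvx', hwx', map_zero] at e1
      have p1 : g 0 • v + g 2 • v' = 0 := by
        refine (smul_eq_zero.mp (show (2 * s) • (g 0 • v + g 2 • v') = 0 by
          linear_combination (norm := module) e1 + s • hg)).resolve_left (mul_ne_zero Φ.two hs0)
      have p2 : g 1 • w + g 3 • w' = 0 := by linear_combination (norm := module) hg - p1
      have q2 : g 1 • v + g 3 • v' = 0 := by
        have := congrArg X p2
        rwa [map_add, map_smul, map_smul, map_zero, hw, hw', hXX, hXX] at this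
      have key : ∀ c d : F, c • v + d • v' = 0 → c = 0 ∧ d = 0 := fun c d h0 => by
        have h1 := congrArg C h0
        rw [map_add, map_smul, map_smul, hvC, hvC', map_zero] at h1
        have hd : (d * ((1 - e) - e)) • v' = 0 := by linear_combination (norm := module) h1 - e • h0
        have hd0 : d = 0 := (mul_eq_zero.mp ((smul_eq_zero.mp hd).resolve_right hv')).resolve_right hd12
        rw [hd0, zero_smul, add_zero] at h0
        exact ⟨(smul_eq_zero.mp h0).resolve_right hv, hd0⟩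
      intro j
      fin_cases j
      exacts [(key _ _ p1).1, (key _ _ q2).1, (key _ _ p1).2, (key _ _ q2).2]
    have hdim : finrank F V = 4 := Nat.pow_left_injective (n := 2) (by norm_num) (Φ.dim.trans hA |>.trans (by norm_num))
    have hs4 := hli.span_eq_top_of_card_eq_finrank' (by rw [Fintype.card_fin, hdim])
    intro y
    have hy : y ∈ Submodule.span F (Set.range ![v, w, v', w']) := hs4 ▸ Submodule.mem_top
    obtain ⟨c, rfl⟩ := (Submodule.mem_span_range_iff_exists_fun F).mp hy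
    exact ⟨c 0, c 1, c 2, c 3, by rw [Fin.sum_univ_four]; rfl⟩
  have hXw : X w = v := by rw [hw, hXX]
  have hXw' : X w' = v' := by rw [hw', hXX]
  -- the generators
  have hi0 := hR.i_ne
  have hr0 := hR.r_ne
  have hf0 := hR.f_ne
  have gen : hR.pairs ≤ pairImg G v w v' w' := by
    rw [Qubit.Roots.pairs, Subgroup.closure_le]
    intro q hq
    simp only [Qubit.Roots.gens, Set.mem_insert_iff, Set.mem_singleton_iff] at hq
    rcases hq with rfl | rfl | rfl | rfl
    · obtain ⟨t, ht, htG⟩ := hG.single z hz0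
      obtain ⟨ζ, hζ, hsq, htv⟩ := ht.apply_sq
      have hzz : (ζ * rz) * (ζ * rz) = i * i := by
        have e := (hrz v).symm.trans (hsq v)
        have e' := smul_left_injective F hv e
        field_simp at e'
        rw [hR.hi]; linear_combination e'
      have hu : ∀ y, Φ.u z y = rz • X y := fun y => by rw [hXv, smul_inv_smul₀ hrz0]
      rcases mul_self_eq_mul_self_iff.mp hzz with e1 | e1
      · refine mem_pairImg_inv htG (c := r) (Y := hR.sX) hr0 (Or.inl rfl) ?_ ?_ <;>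
          constructor <;>
          simp [Qubit.Roots.sX, htv, hu, hXw, hXw', ← hw, ← hw', smul_smul, e1, hr0, add_comm]
      · refine mem_pairImg_inv htG (c := r) (Y := hR.sX⁻¹) hr0 (Or.inr rfl) ?_ ?_ <;>
          constructor <;>
          simp [Qubit.Roots.sX_inv, htv, hu, hXw, hXw', ← hw, ← hw', smul_smul, e1, hr0,
            add_comm]
    · obtain ⟨t, ht, htG⟩ := hG.single x hx
      obtain ⟨ζ, hζ, hsq, htv⟩ := ht.apply_sq
      have hzz : (ζ * s) * (ζ * s) = i * i := by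
        have e := (hs v).symm.trans (hsq v)
        have e' := smul_left_injective F hv e
        field_simp at e'
        rw [hR.hi]; linear_combination e'
      rcases mul_self_eq_mul_self_iff.mp hzz with e1 | e1
      · refine mem_pairImg_inv htG (c := r) (Y := hR.sZ) hr0 (Or.inl rfl) ?_ ?_ <;>
          constructor <;>
          simp [Qubit.Roots.sZ, htv, hvx, hwx, hvx', hwx', smul_smul, e1, hr0, add_smul, sub_smul, sub_eq_add_neg]
      · refine mem_pairImg_inv htG (c := r) (Y := hR.sZ⁻¹) hr0 (Or.inr rfl) ?_ ?_ <;>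
          constructor <;>
          simp [Qubit.Roots.sZ_inv, htv, hvx, hwx, hvx', hwx', smul_smul, e1, hr0, add_smul,
            sub_smul, sub_eq_add_neg]
    · have hxz0 : x + z ≠ 0 := Φ.add_ne_zero fun e0 => Φ.one_ne_neg ((Φ.sg_self x).symm.trans (e0 ▸ hxz))
      obtain ⟨t, ht, htG⟩ := hG.single (x + z) hxz0
      obtain ⟨ζ, hζ, hsq, htv⟩ := ht.apply_sq
      obtain ⟨m, hm⟩ := Φ.mul x z
      obtain ⟨κ, hκ⟩ : ∃ κ, κ = m⁻¹ * (rz * s) := ⟨_, rfl⟩
      have hu : ∀ {d : F} {y : V}, Φ.u x y = d • y → ζ • Φ.u (x + z) y = (ζ * (m⁻¹ * (rz * -d))) • X y :=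
        fun {d y} hy => by
        rw [← inv_smul_smul₀ (Φ.mul_ne hm) (Φ.u (x + z) y), ← hm,
          show Φ.u z y = rz • X y by rw [hXv, smul_inv_smul₀ hrz0], map_smul, hxX hy, smul_smul, smul_smul, smul_smul]
        congr 1
        ring
      have hy1 : ∀ {y : V}, Φ.u x y = s • y → ζ • Φ.u (x + z) y = -(ζ * κ) • X y := fun hy => by
        rw [hu hy, hκ]; congr 1; ring
      have hy2 : ∀ {y : V}, Φ.u x y = -s • y → ζ • Φ.u (x + z) y = (ζ * κ) • X y := fun hy => by
        rw [hu hy, hκ]; congr 1; ring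
      have hzz : (ζ * κ) * (ζ * κ) = 1 * 1 := by
        have e1 : ζ • Φ.u (x + z) (ζ • Φ.u (x + z) v) = -v := by
          rw [map_smul, hsq, smul_smul, smul_smul, ← neg_one_smul F v]
          congr 1
          field_simp
        rw [hy1 hvx, map_smul, ← hw, smul_comm, hy2 hwx, hXw, smul_smul, ← neg_one_smul F v] at e1
        have e2 := smul_left_injective F hv e1
        field_simp at e2
        linear_combination -e2
      have k1 := hy1 hvx
      have k2 := hy2 hwx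
      have k3 := hy1 hvx'
      have k4 := hy2 hwx'
      rw [← hw] at k1
      rw [hXw] at k2
      rw [← hw'] at k3
      rw [hXw'] at k4
      rcases mul_self_eq_mul_self_iff.mp hzz with e1 | e1
      · rw [e1] at k1 k2 k3 k4
        refine mem_pairImg_inv htG (c := r) (Y := hR.sY) hr0 (Or.inl rfl) ?_ ?_ <;>
          constructor <;>
          simp [Qubit.Roots.sY, htv, k1, k2, k3, k4, hr0, add_comm]
      · rw [e1] at k1 k2 k3 k4
        refine mem_pairImg_inv htG (c := r) (Y := hR.sY⁻¹) hr0 (Or.inr rfl) ?_ ?_ <;>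
          constructor <;>
          simp [Qubit.Roots.sY_inv, htv, k1, k2, k3, k4, hr0, add_comm]
    · have hCm : ∀ {y : V}, Φ.u x y = -s • y → h y = C y := fun hy => by rw [hC.minus _ hy, hCd, cmap_apply]
      have hCw : C w = e • w := by rw [hw, hCX, hvC, map_smul]
      have hCw' : C w' = (1 - e) • w' := by rw [hw', hCX, hvC', map_smul]
      have he' : (1 - e) = (f * f)⁻¹ := by
        refine eq_inv_of_mul_eq_one_left ?_
        rw [← hed]; linear_combination -hee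
      refine ⟨h, hR.sD, hR.sD⁻¹, f, f⁻¹, hC.mem, hf0, inv_ne_zero hf0, rfl, map_inv _ _, ⟨?_, ?_⟩, ⟨?_, ?_⟩⟩
      · simp [Qubit.Roots.sD, hC.plus v hvx, hf0]
      · simp [Qubit.Roots.sD, hCm hwx, hCw, hed]
      · simp [Qubit.Roots.sD_inv, hC.plus v' hvx', hf0]
      · simp [Qubit.Roots.sD_inv, hCm hwx', hCw', he', mul_comm]
  -- the diagonal unipotent
  obtain ⟨y, hy1, hy2, hy⟩ := hR.exists_unipotent h5 hF
  obtain ⟨g, Y, Y', c, c', hg, hc, hc', e1, e2, m1, m2⟩ := gen hy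
  obtain ⟨ε, hε, hY⟩ := (PSL2.pr_eq_iff _ _).mp e1
  obtain ⟨ε', hε', hY'⟩ := (PSL2.pr_eq_iff _ _).mp e2
  rw [hY, smul_smul] at m1
  rw [hY', smul_smul] at m2
  obtain ⟨N, hN⟩ : ∃ N, N = y.1 - 1 := ⟨_, rfl⟩
  rw [← hN] at hy2
  have hyN : y.1 = 1 + N := by rw [hN]; abel
  have hpow : ∀ {u u' : V} {d : F}, MatOn g u u' (d • y.1) → ∀ k : ℕ,
      MatOn (g ^ k) u u' (d ^ k • (1 + (k : F) • N)) := fun {u u' d} hu k => by
    induction k with
    | zero => simpa using MatOn.one u u'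
    | succ k ih =>
      have e := ih.mul hu
      rw [← pow_succ, Matrix.smul_mul, Matrix.mul_smul, smul_smul, ← pow_succ, hyN, mul_add, mul_one, add_mul, one_mul,
        Matrix.smul_mul, hy2, smul_zero, add_zero, add_assoc] at e
      rw [show ((k + 1 : ℕ) : F) • N = (k : F) • N + N by rw [Nat.cast_succ, add_smul, one_smul]]
      exact e
  haveI : CharP F p := charP_of_card_eq_prime_pow hF
  obtain ⟨n, hn⟩ : ∃ n, n = p ^ 2 - 1 := ⟨_, rfl⟩
  have hn1 : ∀ {d : F}, d ≠ 0 → d ^ n = 1 := fun hd => by rw [hn, ← hF]; exact FiniteField.pow_card_sub_one_eq_one _ hd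
  have hεne : ∀ {ε : F}, ε * ε = 1 → ε ≠ 0 := fun h1 e0 => by simp [e0] at h1
  have hnn : (n : F) = -1 := by
    rw [hn, Nat.cast_sub (Nat.one_le_pow _ _ hp.out.pos), Nat.cast_pow, CharP.cast_eq_zero]; simp
  have M1 := hpow m1 n
  have M2 := hpow m2 n
  rw [hn1 (mul_ne_zero hc (hεne hε)), one_smul, hnn, neg_one_smul, ← sub_eq_add_neg] at M1
  rw [hn1 (mul_ne_zero hc' (hεne hε')), one_smul, hnn, neg_one_smul, ← sub_eq_add_neg] at M2
  have hg' : pr F V (g ^ n) ∈ G := by rw [map_pow]; exact G.pow_mem hg n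
  generalize g ^ n = g1 at M1 M2 hg'
  obtain ⟨M, hMd⟩ : ∃ M, M = 1 - N := ⟨_, rfl⟩
  rw [← hMd] at M1 M2
  -- it is a combination of the qubit operators
  obtain ⟨Zop, hZd⟩ : ∃ Z : End F V, Z = s⁻¹ • Φ.m x := ⟨_, rfl⟩
  have hZv : ∀ y, Zop y = s⁻¹ • Φ.u x y := fun y => by rw [hZd]; rfl
  have hZp : ∀ {y}, Φ.u x y = s • y → Zop y = y := fun h => by rw [hZv, h, inv_smul_smul₀ hs0]
  have hZm : ∀ {y}, Φ.u x y = -s • y → Zop y = -y := fun h => by
    rw [hZv, h, neg_smul, smul_neg, inv_smul_smul₀ hs0]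
  obtain ⟨J, hJd⟩ : ∃ J : End F V, J = (2⁻¹ : F) • (M 0 0 • (1 + Zop) + M 1 1 • (1 - Zop) +
      M 0 1 • (X * (1 - Zop)) + M 1 0 • (X * (1 + Zop))) := ⟨_, rfl⟩
  have hJv : ∀ y, J y = (2⁻¹ : F) • (M 0 0 • (y + Zop y) + M 1 1 • (y - Zop y) + M 0 1 • X (y - Zop y) +
      M 1 0 • X (y + Zop y)) := fun y => by rw [hJd]; rfl
  have hJplus : ∀ {y}, Φ.u x y = s • y → J y = M 0 0 • y + M 1 0 • X y := fun {y} h => by
    rw [hJv, hZp h, sub_self, map_zero, map_add]
    have h2 : (2⁻¹ : F) * 2 = 1 := inv_mul_cancel₀ Φ.two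
    linear_combination (norm := module) h2 • (M 0 0 • y + M 1 0 • X y)
  have hJminus : ∀ {y}, Φ.u x y = -s • y → J y = M 0 1 • X y + M 1 1 • y := fun {y} h => by
    rw [hJv, hZm h, add_neg_cancel, map_zero, sub_neg_eq_add, map_add]
    have h2 : (2⁻¹ : F) * 2 = 1 := inv_mul_cancel₀ Φ.two
    linear_combination (norm := module) h2 • (M 0 1 • X y + M 1 1 • y)
  have hgJ : ∀ y, g1 y = J y := fun y => by
    obtain ⟨c1, c2, c3, c4, rfl⟩ := hspan y
    simp only [map_add, map_smul, M1.1, M1.2, M2.1, M2.2, hJplus hvx, hJminus hwx, hJplus hvx', hJminus hwx',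
      hXw, hXw', ← hw, ← hw']
  have ha0 : a ≠ 0 := fun e0 => Φ.one_ne_neg (by
    have := hC.hab
    rwa [e0, Φ.sg_symm b 0, Φ.sg_zero] at this)
  have hzc : ∀ y, Φ.u z (Φ.u a y) = Φ.u a (Φ.u z y) := fun y => by rw [Φ.comm z a, Φ.sg_symm a z, haz, one_smul]
  have hxc : ∀ y, Φ.u x (Φ.u a y) = Φ.u a (Φ.u x y) := fun y => by rw [Φ.comm x a, hC.hxa, one_smul]
  have hga : ∀ y, g1 (Φ.u a y) = Φ.u a (g1 y) := fun y => by
    simp only [hgJ, hJv, map_add, map_sub, map_smul, hXv, hZv, hzc, hxc]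
  obtain ⟨ta, hta0, hta⟩ := hr a
  have hax : Φ.sg a x = 1 := by rw [Φ.sg_symm]; exact hC.hxa
  have hna : a ∉ AddSubgroup.zmultiples x := fun h0 => by
    rcases Φ.mem_zmultiples.mp h0 with e0 | e0
    · exact ha0 e0
    · have := hC.hxb
      rw [← e0, hC.hab] at this
      exact Φ.one_ne_neg this.symm
  obtain ⟨y0, hy0, hy0x, hy0a⟩ := Φ.exists_joint hax hna hx hs hta
  obtain ⟨y1, hy1d⟩ : ∃ y1, y1 = X y0 := ⟨_, rfl⟩
  have hy1x : Φ.u x y1 = -s • y1 := hy1d ▸ hxX hy0x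
  have hy1a : Φ.u a y1 = ta • y1 := by
    rw [hy1d, hXv, map_smul, ← hzc, hy0a, map_smul, smul_comm]
  have hXy1 : X y1 = y0 := by rw [hy1d, hXX]
  have indep : ∀ c d : F, c • y0 + d • y1 = 0 → c = 0 ∧ d = 0 := fun c d h0 => by
    have h1 := congrArg (Φ.u x) h0
    rw [map_add, map_smul, map_smul, hy0x, hy1x, map_zero] at h1
    have h2 : (2 * s * c) • y0 = 0 := by linear_combination (norm := module) h1 + s • h0
    have hc0 := (mul_eq_zero.mp ((smul_eq_zero.mp h2).resolve_right hy0)).resolve_left (mul_ne_zero Φ.two hs0)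
    rw [hc0, zero_smul, zero_add] at h0
    refine ⟨hc0, (smul_eq_zero.mp h0).resolve_right fun e0 => hy0 ?_⟩
    rw [← hXy1, e0, map_zero]
  have hNN : N 0 0 * N 0 0 + N 0 1 * N 1 0 = 0 := by
    have := congrFun (congrFun hy2 0) 0; simpa [Matrix.mul_apply, Fin.sum_univ_two] using this
  have htr : N 1 1 = -N 0 0 := by
    have e00 := congrFun (congrFun hy2 0) 0
    have e11 := congrFun (congrFun hy2 1) 1
    have e01 := congrFun (congrFun hy2 0) 1
    simp [Matrix.mul_apply, Fin.sum_univ_two] at e00 e11 e01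
    by_contra hh
    have hsum : N 0 0 + N 1 1 ≠ 0 := fun e0 => hh (by linear_combination e0)
    have f01 : N 0 1 = 0 := (mul_eq_zero.mp (show (N 0 0 + N 1 1) * N 0 1 = 0 by linear_combination e01)).resolve_left hsum
    exact hsum (by
      rw [mul_self_eq_zero.mp (show N 0 0 * N 0 0 = 0 by linear_combination e00 - N 1 0 * f01),
        mul_self_eq_zero.mp (show N 1 1 * N 1 1 = 0 by linear_combination e11 - N 1 0 * f01), add_zero])
  obtain ⟨m, hm⟩ : ∃ m, m = -N 0 0 := ⟨_, rfl⟩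
  obtain ⟨nn, hnn'⟩ : ∃ q, q = -N 0 1 := ⟨_, rfl⟩
  obtain ⟨l, hl⟩ : ∃ q, q = -N 1 0 := ⟨_, rfl⟩
  have hmn : m * m + nn * l = 0 := by rw [hm, hnn', hl]; linear_combination hNN
  have M00 : M 0 0 = 1 + m := by rw [hMd, hm]; simp [sub_eq_add_neg]
  have M01 : M 0 1 = nn := by rw [hMd, hnn']; simp
  have M10 : M 1 0 = l := by rw [hMd, hl]; simp
  have M11 : M 1 1 = 1 - m := by rw [hMd, hm]; simp [htr]
  have g0 : g1 y0 = (1 + m) • y0 + l • y1 := by rw [hgJ, hJplus hy0x, M00, M10, ← hy1d]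
  have g1' : g1 y1 = nn • y0 + (1 - m) • y1 := by rw [hgJ, hJminus hy1x, M01, M11, hXy1]
  -- the images of the two qubit operators
  have main : ∀ (o : A), o ∈ Φ.cen a → ∀ (z0 z1 z2 z3 : F),
      Φ.u o y0 = z0 • y0 + z2 • y1 → Φ.u o y1 = z1 • y0 + z3 • y1 →
      ∀ R : Matrix (Fin 2) (Fin 2) F,
      (R * !![1 + m, nn; l, 1 - m] = !![1 + m, nn; l, 1 - m] * !![z0, z1; z2, z3]) →
      (R 0 1 = 0 ∧ R 1 0 = 0) ∨ (R 0 0 = 0 ∧ (R 0 1 = R 1 0 ∨ R 0 1 = -R 1 0)) := by
    intro o ho z0 z1 z2 z3 ho0 ho1 R hR'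
    obtain ⟨q, hq, c, hc⟩ := hsplit a ha0 g1 hg' hga ta o ho
    have e0 := hc y0 hy0a
    have e1 := hc y1 hy1a
    rw [ho0, map_add, map_smul, map_smul, g0, g1'] at e0
    rw [ho1, map_add, map_smul, map_smul, g0, g1'] at e1
    rw [map_add, map_smul, map_smul] at e0 e1
    have r00 := congrFun (congrFun hR' 0) 0
    have r01 := congrFun (congrFun hR' 0) 1
    have r10 := congrFun (congrFun hR' 1) 0
    have r11 := congrFun (congrFun hR' 1) 1
    simp [Matrix.mul_apply, Fin.sum_univ_two] at r00 r01 r10 r11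
    have hT0 : c • Φ.u q y0 = R 0 0 • y0 + R 1 0 • y1 := by
      have hd : (1 + m) * (1 - m) - nn * l = 1 := by linear_combination -hmn
      linear_combination (norm := module) -(1 - m) • e0 + l • e1 - (1 - m) • (congrArg (· • y0) r00)
        - (1 - m) • (congrArg (· • y1) r10) + l • (congrArg (· • y0) r01) + l • (congrArg (· • y1) r11)
        + hd • (R 0 0 • y0 + R 1 0 • y1) - hd • (c • Φ.u q y0)
    have hT1 : c • Φ.u q y1 = R 0 1 • y0 + R 1 1 • y1 := by
      have hd : (1 + m) * (1 - m) - nn * l = 1 := by linear_combination -hmn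
      linear_combination (norm := module) nn • e0 - (1 + m) • e1 + nn • (congrArg (· • y0) r00)
        + nn • (congrArg (· • y1) r10) - (1 + m) • (congrArg (· • y0) r01) - (1 + m) • (congrArg (· • y1) r11)
        + hd • (R 0 1 • y0 + R 1 1 • y1) - hd • (c • Φ.u q y1)
    -- commutation with the diagonal operator
    have hx0 : c • Φ.u x (Φ.u q y0) = (R 0 0 * s) • y0 + -(R 1 0 * s) • y1 := by
      rw [← map_smul, hT0, map_add, map_smul, map_smul, hy0x, hy1x]; module
    have hX0 : c • X (Φ.u q y0) = R 1 0 • y0 + R 0 0 • y1 := by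
      rw [← map_smul, hT0, map_add, map_smul, map_smul, ← hy1d, hXy1]; abel
    have hXq : c • X (Φ.u q y0) = Φ.sg z q • c • Φ.u q y1 := by
      rw [hy1d, hXv, hXv, Φ.comm z q, map_smul]; module
    rw [hX0, hT1] at hXq
    have k1 := indep (R 1 0 - Φ.sg z q * R 0 1) (R 0 0 - Φ.sg z q * R 1 1)
      (by linear_combination (norm := module) hXq)
    rw [Φ.comm x q, hy0x, map_smul, smul_smul, smul_smul] at hx0
    rw [show (c * Φ.sg x q * s) • Φ.u q y0 = (Φ.sg x q * s) • c • Φ.u q y0 by module, hT0] at hx0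
    rcases Φ.sign x q with hsgn | hsgn
    · rw [hsgn, one_mul] at hx0
      have k2 := (indep 0 (2 * s * R 1 0) (by linear_combination (norm := module) hx0)).2
      have h10 : R 1 0 = 0 := (mul_eq_zero.mp k2).resolve_left (mul_ne_zero Φ.two hs0)
      rw [h10, zero_sub, neg_eq_zero] at k1
      exact Or.inl ⟨(mul_eq_zero.mp k1.1).resolve_left (Φ.sg_ne _ _), h10⟩
    · rw [hsgn] at hx0
      have k2 := (indep (-(2 * s * R 0 0)) 0 (by linear_combination (norm := module) hx0)).1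
      have h00 : R 0 0 = 0 := (mul_eq_zero.mp (neg_eq_zero.mp k2)).resolve_left (mul_ne_zero Φ.two hs0)
      refine Or.inr ⟨h00, ?_⟩
      rcases Φ.sign z q with e | e <;> rw [e] at k1
      · exact Or.inl (by linear_combination -k1.1)
      · exact Or.inr (by linear_combination k1.1)
  have hxo : x ∈ Φ.cen a := Φ.mem_cen.mpr hax
  have hzo : z ∈ Φ.cen a := Φ.mem_cen.mpr haz
  have scale : ∀ {R : Matrix (Fin 2) (Fin 2) F} {d : F}, d ≠ 0 →
      ((d • R) 0 1 = 0 ∧ (d • R) 1 0 = 0) ∨ ((d • R) 0 0 = 0 ∧ ((d • R) 0 1 = (d • R) 1 0 ∨ (d • R) 0 1 = -(d • R) 1 0)) →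
      (R 0 1 = 0 ∧ R 1 0 = 0) ∨ (R 0 0 = 0 ∧ (R 0 1 = R 1 0 ∨ R 0 1 = -R 1 0)) := fun {R d} hd h1 => by
    have e : ∀ j k, (d • R) j k = d * R j k := fun j k => rfl
    have z : ∀ {y : F}, d * y = 0 → y = 0 := fun h => (mul_eq_zero.mp h).resolve_left hd
    simp only [e] at h1
    rcases h1 with ⟨p1, p2⟩ | ⟨p1, p2 | p2⟩
    · exact Or.inl ⟨z p1, z p2⟩
    · exact Or.inr ⟨z p1, Or.inl (mul_left_cancel₀ hd p2)⟩
    · exact Or.inr ⟨z p1, Or.inr (mul_left_cancel₀ hd (p2.trans (mul_neg _ _).symm))⟩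
  have h0 := scale hs0 (main x hxo s 0 0 (-s) (by rw [hy0x]; module) (by rw [hy1x]; module)
    (s • !![1 - 2 * (m * m), -2 * nn * (1 + m); 2 * l * (1 - m), -(1 - 2 * (m * m))]) (by
      ext j k
      fin_cases j <;> fin_cases k <;> simp [Matrix.mul_apply, Fin.sum_univ_two] <;> grind))
  have h1 := scale hrz0 (main z hzo 0 rz rz 0
    (by rw [hy1d, hXv, smul_inv_smul₀ hrz0]; module) (by rw [← hXy1, hXv, smul_inv_smul₀ hrz0]; module)
    (rz • !![nn - l - m * (nn + l), (1 + m) * (1 + m) - nn * nn; (1 - m) * (1 - m) - l * l,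
      -(nn - l - m * (nn + l))]) (by
      ext j k
      fin_cases j <;> fin_cases k <;> simp [Matrix.mul_apply, Fin.sum_univ_two] <;> grind))
  obtain ⟨r1, r2, r3⟩ := Qubit.not_pauli (h2 := Φ.two) hR.h3 hmn rfl rfl h0 h1
  apply hy1
  rw [hyN, add_eq_left]
  ext j k
  fin_cases j <;> fin_cases k
  · show N 0 0 = 0; linear_combination hm - r1
  · show N 0 1 = 0; linear_combination hnn' - r2
  · show N 1 0 = 0; linear_combination hl - r3
  · show N 1 1 = 0; linear_combination htr - hm + r1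

end Data

end Cfsg.Agent.Classical.Frame
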