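/-
Frames under extension of the scalars.
-/
import Cfsg.Agent.Lib.Classical.Frame.AntiFalse

set_option autoImplicit false
set_option linter.unusedSectionVars false

namespace Cfsg.Agent.Classical.Frame

open Module
open scoped TensorProduct

universe u v w x

variable {F : Type u} [Field F] {V : Type v} [AddCommGroup V] [Module F V] [FiniteDimensional F V]
  {A : Type w} [AddCommGroup A] [Finite A] (K : Type x) [Field K] [Algebra F K]

/-- An equivalence after extension of scalars. -/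
noncomputable def bcE (g : V ≃ₗ[F] V) : (K ⊗[F] V) ≃ₗ[K] (K ⊗[F] V) :=
  LinearEquiv.ofLinear (g.toLinearMap.baseChange K) (g.symm.toLinearMap.baseChange K)
    (by rw [← LinearMap.baseChange_comp, LinearEquiv.comp_coe, LinearEquiv.symm_trans_self]; exact LinearMap.baseChange_id)
    (by rw [← LinearMap.baseChange_comp, LinearEquiv.comp_coe, LinearEquiv.self_trans_symm]; exact LinearMap.baseChange_id)

theorem bcE_tmul (g : V ≃ₗ[F] V) (c : K) (v : V) : bcE K g (c ⊗ₜ[F] v) = c ⊗ₜ[F] g v := rfl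

variable {K}

theorem bc_ext {L R : (K ⊗[F] V) →ₗ[K] (K ⊗[F] V)} (h : ∀ (c : K) (v : V), L (c ⊗ₜ[F] v) = R (c ⊗ₜ[F] v))
    (y : K ⊗[F] V) : L y = R y := by
  induction y using TensorProduct.induction_on with
  | zero => simp
  | tmul c v => exact h c v
  | add a b ha hb => rw [map_add, map_add, ha, hb]

theorem smul_tmul_map (r : F) (c : K) (v : V) : c ⊗ₜ[F] (r • v) = algebraMap F K r • (c ⊗ₜ[F] v) := by
  rw [TensorProduct.tmul_smul, algebraMap_smul]

theorem bc_inj {v : V} (h : (1 : K) ⊗ₜ[F] v = 0) : v = 0 := by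
  let bs := Module.finBasis F V
  refine bs.ext_elem fun i => ?_
  have e := congrArg (fun y => (bs.baseChange K).repr y i) h
  simp only [map_zero, Finsupp.coe_zero, Pi.zero_apply, Basis.baseChange_repr_tmul] at e
  rw [map_zero, Finsupp.coe_zero, Pi.zero_apply]
  exact (algebraMap F K).injective (by rw [map_zero, Algebra.algebraMap_eq_smul_one]; exact e)

theorem bcE_mul (g g' : V ≃ₗ[F] V) : bcE K (g * g') = bcE K g * bcE K g' := LinearEquiv.ext fun y =>
  bc_ext (L := (bcE K (g * g')).toLinearMap) (R := (bcE K g * bcE K g').toLinearMap) (fun _ _ => rfl) y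

theorem bcE_one : bcE K (1 : V ≃ₗ[F] V) = 1 := LinearEquiv.ext fun y =>
  bc_ext (L := (bcE K (1 : V ≃ₗ[F] V)).toLinearMap) (R := LinearMap.id) (fun _ _ => rfl) y

variable (K) in
/-- The extension map on equivalences. -/
noncomputable def bcHom : (V ≃ₗ[F] V) →* ((K ⊗[F] V) ≃ₗ[K] (K ⊗[F] V)) where
  toFun := bcE K
  map_one' := bcE_one
  map_mul' := bcE_mul

variable (K) in
/-- The extended group. -/
noncomputable def bcG (G : Subgroup (PG F V)) : Subgroup (PG K (K ⊗[F] V)) :=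
  ((G.comap (pr F V)).map (bcHom K)).map (pr K _)

theorem mem_bcG {G : Subgroup (PG F V)} {g : V ≃ₗ[F] V} (hg : pr F V g ∈ G) : pr K _ (bcE K g) ∈ bcG K G :=
  ⟨_, ⟨g, hg, rfl⟩, rfl⟩

namespace Data

variable (Φ : Data F V A)

variable (K) in
/-- The extended frame. -/
noncomputable def bc : Data K (K ⊗[F] V) A where
  u a := bcE K (Φ.u a)
  sg a b := algebraMap F K (Φ.sg a b)
  two := fun e => Φ.two ((algebraMap F K).injective (by rw [map_ofNat, map_zero, e]))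
  elem := Φ.elem
  mul a b := by
    obtain ⟨c, hc⟩ := Φ.mul a b
    refine ⟨algebraMap F K c, fun y => bc_ext (L := (bcE K (Φ.u a)).toLinearMap ∘ₗ (bcE K (Φ.u b)).toLinearMap)
      (R := algebraMap F K c • (bcE K (Φ.u (a + b))).toLinearMap) (fun d v => ?_) y⟩
    show d ⊗ₜ[F] Φ.u a (Φ.u b v) = algebraMap F K c • (d ⊗ₜ[F] Φ.u (a + b) v)
    rw [hc, smul_tmul_map]
  sign a b := by
    rcases Φ.sign a b with h | h <;> rw [h]
    · exact Or.inl (map_one _)
    · exact Or.inr (by rw [map_neg, map_one])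
  comm a b y := bc_ext (L := (bcE K (Φ.u a)).toLinearMap ∘ₗ (bcE K (Φ.u b)).toLinearMap)
      (R := algebraMap F K (Φ.sg a b) • ((bcE K (Φ.u b)).toLinearMap ∘ₗ (bcE K (Φ.u a)).toLinearMap))
      (fun d v => by
        show d ⊗ₜ[F] Φ.u a (Φ.u b v) = algebraMap F K (Φ.sg a b) • (d ⊗ₜ[F] Φ.u b (Φ.u a v))
        rw [Φ.comm, smul_tmul_map]) y
  nd a ha := by
    obtain ⟨b, hb⟩ := Φ.nd a ha
    exact ⟨b, by rw [hb, map_neg, map_one]⟩
  dim := by rw [Module.finrank_baseChange]; exact Φ.dim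

variable {Φ}

theorem bc_u (a : A) (c : K) (v : V) : (Φ.bc K).u a (c ⊗ₜ[F] v) = c ⊗ₜ[F] Φ.u a v := rfl

theorem bc_sq {a : A} {s : F} (hs : ∀ v, Φ.u a (Φ.u a v) = (s * s) • v) (y : K ⊗[F] V) :
    (Φ.bc K).u a ((Φ.bc K).u a y) = (algebraMap F K s * algebraMap F K s) • y :=
  bc_ext (L := ((Φ.bc K).u a).toLinearMap ∘ₗ ((Φ.bc K).u a).toLinearMap)
    (R := (algebraMap F K s * algebraMap F K s) • LinearMap.id) (fun d v => by
      show d ⊗ₜ[F] Φ.u a (Φ.u a v) = (algebraMap F K s * algebraMap F K s) • (d ⊗ₜ[F] v)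
      rw [hs, smul_tmul_map, map_mul]) y

/-- Agreement on an eigenspace survives extension. -/
theorem bc_agree {x : A} {t : F} (ht0 : t ≠ 0) (ht : ∀ v, Φ.u x (Φ.u x v) = (t * t) • v)
    {L R : (K ⊗[F] V) →ₗ[K] (K ⊗[F] V)}
    (h : ∀ (d : K) (v : V), Φ.u x v = t • v → L (d ⊗ₜ[F] v) = R (d ⊗ₜ[F] v)) {y : K ⊗[F] V}
    (hy : (Φ.bc K).u x y = algebraMap F K t • y) : L y = R y := by
  have hP := bc_ext (L := L ∘ₗ (((Φ.bc K).u x).toLinearMap + algebraMap F K t • LinearMap.id))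
    (R := R ∘ₗ (((Φ.bc K).u x).toLinearMap + algebraMap F K t • LinearMap.id)) (fun d v => by
      show L (d ⊗ₜ[F] Φ.u x v + algebraMap F K t • (d ⊗ₜ[F] v)) = R (d ⊗ₜ[F] Φ.u x v + algebraMap F K t • (d ⊗ₜ[F] v))
      rw [← smul_tmul_map, ← TensorProduct.tmul_add]
      refine h d _ ?_
      rw [map_add, map_smul, ht, smul_add, smul_smul, add_comm]) y
  have e : ((Φ.bc K).u x).toLinearMap y + algebraMap F K t • y = (2 * algebraMap F K t) • y := by
    show (Φ.bc K).u x y + _ = _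
    rw [hy]; module
  rw [LinearMap.comp_apply, LinearMap.comp_apply] at hP
  change L (((Φ.bc K).u x).toLinearMap y + algebraMap F K t • y) =
    R (((Φ.bc K).u x).toLinearMap y + algebraMap F K t • y) at hP
  rw [e, map_smul, map_smul] at hP
  exact smul_right_injective _ (mul_ne_zero (Φ.bc K).two ((map_ne_zero _).mpr ht0)) hP

theorem bc_roots (hr : Φ.Roots) : (Φ.bc K).Roots := fun a => by
  obtain ⟨s, hs0, hs⟩ := hr a
  exact ⟨_, (map_ne_zero _).mpr hs0, bc_sq hs⟩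

variable {G : Subgroup (PG F V)}

theorem bc_full (hG : Φ.Full G) : (Φ.bc K).Full (bcG K G) := by
  refine ⟨?_, fun z hz => ?_⟩
  · rintro _ ⟨a, rfl⟩
    exact mem_bcG (hG.le (Φ.e_mem a))
  · obtain ⟨t, ⟨ζ, h1, h2⟩, htG⟩ := hG.single z hz
    refine ⟨bcE K t, ⟨algebraMap F K ζ, fun y => bc_ext
      (L := (algebraMap F K ζ • ((Φ.bc K).u z).toLinearMap) ∘ₗ (algebraMap F K ζ • ((Φ.bc K).u z).toLinearMap))
      (R := -LinearMap.id) (fun d v => ?_) y, fun y => bc_ext (L := (bcE K t).toLinearMap)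
      (R := LinearMap.id + algebraMap F K ζ • ((Φ.bc K).u z).toLinearMap) (fun d v => ?_) y⟩, mem_bcG htG⟩
    · show algebraMap F K ζ • (Φ.bc K).u z (algebraMap F K ζ • (d ⊗ₜ[F] Φ.u z v)) = -(d ⊗ₜ[F] v)
      rw [← smul_tmul_map, bc_u, ← smul_tmul_map, h1, TensorProduct.tmul_neg]
    · show d ⊗ₜ[F] t v = d ⊗ₜ[F] v + algebraMap F K ζ • (d ⊗ₜ[F] Φ.u z v)
      rw [h2, TensorProduct.tmul_add, smul_tmul_map]

theorem bc_split (hr : Φ.Roots) {x : A} (hx : x ≠ 0) (h : Φ.Split G x) : (Φ.bc K).Split (bcG K G) x := by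
  intro k hk hkx s p hp
  by_cases hsx : ∃ v, v ≠ 0 ∧ (Φ.bc K).u x v = s • v
  swap
  · push Not at hsx
    refine ⟨p, hp, 1, fun v hv => ?_⟩
    rcases eq_or_ne v 0 with rfl | hv0
    · simp
    · exact absurd hv (hsx v hv0)
  obtain ⟨_, ⟨g, hg, rfl⟩, hgk⟩ := hk
  obtain ⟨c, hc⟩ := pr_eq_pr.mp hgk
  change ∀ v, k v = c • bcE K g v at hc
  obtain ⟨y0, hy0, hy0e⟩ := hsx
  have hc0 : c ≠ 0 := by
    rintro rfl
    exact hy0 (k.map_eq_zero_iff.mp (by rw [hc, zero_smul]))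
  have hgx : ∀ v, g (Φ.u x v) = Φ.u x (g v) := fun v => by
    have e := hkx ((1 : K) ⊗ₜ[F] v)
    rw [bc_u, hc, hc, map_smul, bcE_tmul, bcE_tmul, bc_u] at e
    have e' := smul_right_injective _ hc0 e
    exact sub_eq_zero.mp (bc_inj (F := F) (K := K) (v := g (Φ.u x v) - Φ.u x (g v)) (by rw [TensorProduct.tmul_sub, e', sub_self]))
  obtain ⟨s0, hs00, hs0⟩ := hr x
  obtain ⟨t, ht0, ht, hts⟩ : ∃ t : F, t ≠ 0 ∧ (∀ v, Φ.u x (Φ.u x v) = (t * t) • v) ∧ s = algebraMap F K t := by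
    have e := bc_sq (K := K) hs0 y0
    rw [hy0e, map_smul, hy0e, smul_smul] at e
    rcases mul_self_eq_mul_self_iff.mp (smul_left_injective K hy0 e) with e' | e'
    · exact ⟨s0, hs00, hs0, e'⟩
    · exact ⟨-s0, neg_ne_zero.mpr hs00, fun v => by rw [neg_mul_neg]; exact hs0 v, by rw [map_neg, e']⟩
  subst hts
  have hp' : p ∈ Φ.cen x := Φ.mem_cen.mpr (by
    have := (Φ.bc K).mem_cen.mp hp
    exact (algebraMap F K).injective (this.trans (map_one _).symm))
  obtain ⟨q, hq, d, hd⟩ := h g hg hgx t p hp'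
  refine ⟨q, (Φ.bc K).mem_cen.mpr (by
    show algebraMap F K (Φ.sg x q) = 1
    rw [Φ.mem_cen.mp hq, map_one]), algebraMap F K d, fun y hy => ?_⟩
  refine bc_agree ht0 ht (L := k.toLinearMap ∘ₗ ((Φ.bc K).u p).toLinearMap)
    (R := algebraMap F K d • (((Φ.bc K).u q).toLinearMap ∘ₗ k.toLinearMap)) (fun e v hv => ?_) hy
  show k (e ⊗ₜ[F] Φ.u p v) = algebraMap F K d • (Φ.bc K).u q (k (e ⊗ₜ[F] v))
  rw [hc, hc, bcE_tmul, bcE_tmul, map_smul, hd v hv, bc_u, smul_tmul_map, smul_comm]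

theorem bc_ctrl {x a b : A} {s α β : F} {h : V ≃ₗ[F] V} (hs0 : s ≠ 0) (hs : ∀ v, Φ.u x (Φ.u x v) = (s * s) • v)
    (hC : Φ.Ctrl G x s h a b α β) :
    (Φ.bc K).Ctrl (bcG K G) x (algebraMap F K s) (bcE K h) a b (algebraMap F K α) (algebraMap F K β) where
  mem := mem_bcG hC.mem
  hxa := by show algebraMap F K (Φ.sg x a) = 1; rw [hC.hxa, map_one]
  hxb := by show algebraMap F K (Φ.sg x b) = 1; rw [hC.hxb, map_one]
  hab := by show algebraMap F K (Φ.sg a b) = -1; rw [hC.hab, map_neg, map_one]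
  sqa y := bc_ext (L := (algebraMap F K α • ((Φ.bc K).u a).toLinearMap) ∘ₗ (algebraMap F K α • ((Φ.bc K).u a).toLinearMap))
    (R := -LinearMap.id) (fun d v => by
      show algebraMap F K α • (Φ.bc K).u a (algebraMap F K α • (d ⊗ₜ[F] Φ.u a v)) = -(d ⊗ₜ[F] v)
      rw [← smul_tmul_map, bc_u, ← smul_tmul_map, hC.sqa, TensorProduct.tmul_neg]) y
  sqb y := bc_ext (L := (algebraMap F K β • ((Φ.bc K).u b).toLinearMap) ∘ₗ (algebraMap F K β • ((Φ.bc K).u b).toLinearMap))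
    (R := -LinearMap.id) (fun d v => by
      show algebraMap F K β • (Φ.bc K).u b (algebraMap F K β • (d ⊗ₜ[F] Φ.u b v)) = -(d ⊗ₜ[F] v)
      rw [← smul_tmul_map, bc_u, ← smul_tmul_map, hC.sqb, TensorProduct.tmul_neg]) y
  plus y hy := bc_agree hs0 hs (L := (bcE K h).toLinearMap) (R := LinearMap.id) (fun d v hv => by
    show d ⊗ₜ[F] h v = d ⊗ₜ[F] v
    rw [hC.plus v hv]) hy
  minus y hy := bc_agree (neg_ne_zero.mpr hs0) (fun v => by rw [neg_mul_neg]; exact hs v)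
    (L := (bcE K h).toLinearMap)
    (R := (2⁻¹ : K) • (LinearMap.id + algebraMap F K α • ((Φ.bc K).u a).toLinearMap +
      algebraMap F K β • ((Φ.bc K).u b).toLinearMap +
      (algebraMap F K α • ((Φ.bc K).u a).toLinearMap) ∘ₗ (algebraMap F K β • ((Φ.bc K).u b).toLinearMap)))
    (fun d v hv => by
      show d ⊗ₜ[F] h v = (2⁻¹ : K) • ((d ⊗ₜ[F] v) + algebraMap F K α • (d ⊗ₜ[F] Φ.u a v) +
        algebraMap F K β • (d ⊗ₜ[F] Φ.u b v) +
        algebraMap F K α • (Φ.bc K).u a (algebraMap F K β • (d ⊗ₜ[F] Φ.u b v)))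
      rw [← smul_tmul_map, ← smul_tmul_map, bc_u, ← smul_tmul_map, ← TensorProduct.tmul_add,
        ← TensorProduct.tmul_add, ← TensorProduct.tmul_add, hC.minus v hv, smul_tmul_map, map_inv₀, map_ofNat])
    (by rw [map_neg]; exact hy)

/-- The controlled element contradicts splitting over a prime field. -/
theorem ctrl_false_prime [Fintype F] {p : ℕ} [hp : Fact p.Prime] (h5 : 5 ≤ p) (hF : Fintype.card F = p)
    (hG : Φ.Full G) (hA : Nat.card A = 16) (hr : Φ.Roots) (hsplit : ∀ y ≠ 0, Φ.Split G y) {x a b : A} (hx : x ≠ 0)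
    {s α β : F} (hs0 : s ≠ 0) (hs : ∀ v, Φ.u x (Φ.u x v) = (s * s) • v) {h : V ≃ₗ[F] V}
    (hC : Φ.Ctrl G x s h a b α β) : False := by
  haveI : CharP F p := charP_of_card_eq_prime hF
  let L := FiniteField.Extension F p 2
  haveI : Fintype L := Fintype.ofFinite _
  have hL : Fintype.card L = p ^ 2 := by
    rw [← Nat.card_eq_fintype_card, FiniteField.natCard_extension, Nat.card_eq_fintype_card, hF]
  exact ctrl_false (Φ := Φ.bc L) h5 hL (bc_full hG) hA (bc_roots hr) (fun y hy => bc_split hr hy (hsplit y hy)) hx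
    ((map_ne_zero _).mpr hs0) (bc_sq hs) (bc_ctrl hs0 hs hC)

end Data

end Cfsg.Agent.Classical.Frame
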