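/-
Frames on a plane: the normaliser or all transvections.
-/
import Cfsg.Agent.Lib.Classical.Frame.Plane

set_option autoImplicit false
set_option linter.unusedSectionVars false

namespace Cfsg.Agent.Classical.Frame

open Module Matrix
open Cfsg.Agent.Small

universe u v w x

variable {F : Type u} [Field F] {V : Type v} [AddCommGroup V] [Module F V] [FiniteDimensional F V]
  {A : Type w} [AddCommGroup A] [Finite A] {K : Type x} [Field K] {ι : F →+* K} {bs : Basis (Fin 2) F V}

/-- An element with scaled unipotent matrix gives a transvection. -/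
theorem exists_trans_of_unipotent (h2 : (2 : F) ≠ 0) {G : Subgroup (PG F V)}
    {y : Matrix.SpecialLinearGroup (Fin 2) K} (hy : y ∈ H0 ι bs G) (hne : y.1 ≠ 1) (hnil : (y.1 - 1) * (y.1 - 1) = 0) :
    ∃ (g : V ≃ₗ[F] V) (a : V) (φ : V →ₗ[F] F), pr F V g ∈ G ∧ (∀ v, g v = v + φ v • a) ∧ φ a = 0 ∧ a ≠ 0 ∧
      φ ≠ 0 ∧ mat ι bs g = y.1 := by
  obtain ⟨g, hg, c, hc⟩ := hy
  have hc0 := ne_zero_of_val hc
  have h2K : (2 : K) ≠ 0 := fun e => h2 (ι.injective (by rw [map_ofNat, map_zero, e]))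
  obtain ⟨N, hN⟩ : ∃ N, N = y.1 - 1 := ⟨_, rfl⟩
  rw [← hN] at hnil
  have hyN : y.1 = 1 + N := by rw [hN]; abel
  have htr : N.trace = 0 := by
    have e00 := congrFun (congrFun hnil 0) 0
    have e01 := congrFun (congrFun hnil 0) 1
    have e10 := congrFun (congrFun hnil 1) 0
    have e11 := congrFun (congrFun hnil 1) 1
    simp only [Matrix.mul_apply, Fin.sum_univ_two, Matrix.zero_apply] at e00 e01 e10 e11
    rw [Matrix.trace_fin_two]
    by_contra hs
    have f01 : N 0 1 = 0 :=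
      (mul_eq_zero.mp (show (N 0 0 + N 1 1) * N 0 1 = 0 by linear_combination e01)).resolve_left hs
    have f00 : N 0 0 = 0 := mul_self_eq_zero.mp (by linear_combination e00 - N 1 0 * f01)
    have f11 : N 1 1 = 0 := mul_self_eq_zero.mp (by linear_combination e11 - N 1 0 * f01)
    exact hs (by rw [f00, f11, add_zero])
  obtain ⟨l, hl⟩ : ∃ l : F, ι l = c⁻¹ := by
    refine ⟨(LinearMap.toMatrix bs bs g.toLinearMap).trace / 2, ?_⟩
    have e : (mat ι bs g).trace * c = 2 := by
      have h := congrArg Matrix.trace hc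
      rw [hyN, Matrix.trace_add, Matrix.trace_one, htr, add_zero, Matrix.trace_smul, smul_eq_mul,
        Fintype.card_fin] at h
      rw [mul_comm, ← h]
      norm_num
    have e' : (mat ι bs g).trace = ι (LinearMap.toMatrix bs bs g.toLinearMap).trace := by
      rw [mat, Matrix.trace_fin_two, Matrix.trace_fin_two, map_add]; rfl
    rw [map_div₀, ← e', map_ofNat, div_eq_iff h2K, inv_eq_one_div, div_mul_eq_mul_div, one_mul, eq_div_iff hc0, e]
  have hl0 : l ≠ 0 := fun e => inv_ne_zero hc0 (by rw [← hl, e, map_zero])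
  let s : V ≃ₗ[F] V := LinearEquiv.smulOfUnit (Units.mk0 l⁻¹ (inv_ne_zero hl0))
  have hg'e : ∀ v, (s * g) v = l⁻¹ • g v := fun v => rfl
  have hg'G : pr F V (s * g) ∈ G := by
    rwa [show pr F V (s * g) = pr F V g from pr_eq_pr.mpr ⟨l, fun v => by rw [hg'e, smul_inv_smul₀ hl0]⟩]
  have hm : mat ι bs (s * g) = y.1 := by rw [mat_smul ι bs hg'e, map_inv₀, hl, inv_inv, ← hc]
  -- the nilpotent part
  obtain ⟨n, hn⟩ : ∃ n : V →ₗ[F] V, n = (s * g).toLinearMap - LinearMap.id := ⟨_, rfl⟩
  have hnv : ∀ v, (s * g) v = v + n v := fun v => by rw [hn]; simp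
  have hnm : (LinearMap.toMatrix bs bs n).map ι = N := by
    rw [hn, map_sub, LinearMap.toMatrix_id, Matrix.map_sub ι (map_sub ι), Matrix.map_one _ (map_zero ι) (map_one ι),
      hN, ← hm]
    rfl
  have hnn : ∀ v, n (n v) = 0 := fun v => by
    have e : LinearMap.toMatrix bs bs (n ∘ₗ n) = 0 := Matrix.map_injective ι.injective (by
      dsimp only
      rw [LinearMap.toMatrix_comp bs bs bs, Matrix.map_mul, hnm, hnil, Matrix.map_zero _ (map_zero ι)])
    exact LinearMap.congr_fun ((LinearEquiv.map_eq_zero_iff _).mp e) v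
  obtain ⟨w, hw⟩ : ∃ w, n w ≠ 0 := by
    by_contra hh
    push Not at hh
    have e : n = 0 := LinearMap.ext hh
    rw [e, map_zero, Matrix.map_zero _ (map_zero ι)] at hnm
    exact hne (by rw [hyN, ← hnm, add_zero])
  have hind : ∀ c : F, c • n w ≠ w := fun c e => hw (by
    have h := congrArg n e
    rwa [map_smul, hnn, smul_zero, eq_comm] at h)
  obtain ⟨φ, hφa, hφw⟩ := Geom.exists_dual_two hw hind (0 : F) 1
  refine ⟨s * g, n w, φ, hg'G, fun v => ?_, hφa, hw, fun e => by simp [e] at hφw, hm⟩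
  have hli : LinearIndependent F ![n w, w] := (LinearIndependent.pair_iff' hw).mpr hind
  have hdim : finrank F V = 2 := by rw [finrank_eq_card_basis bs, Fintype.card_fin]
  have hspan := hli.span_eq_top_of_card_eq_finrank' (by rw [Fintype.card_fin, hdim])
  have hv : v ∈ Submodule.span F (Set.range ![n w, w]) := hspan ▸ Submodule.mem_top
  rw [Matrix.range_cons, Matrix.range_cons, Matrix.range_empty, Set.union_empty, Set.singleton_union,
    Submodule.mem_span_pair] at hv
  obtain ⟨α, β, rfl⟩ := hv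
  rw [hnv, map_add, map_smul, map_smul, hnn, smul_zero, zero_add, map_add, map_smul, map_smul, hφa, hφw]
  simp

namespace Geom

variable {B : Geom F V} {G : Subgroup (PG F V)}

theorem isom_of_trans (hB : B.IsHerm) (hP : B.Pres G) {g : V ≃ₗ[F] V} {a : V} {φ : V →ₗ[F] F}
    (hg : ∀ v, g v = v + φ v • a) (hφa : φ a = 0) (ha : a ≠ 0) (hφ : φ ≠ 0) (hgG : pr F V g ∈ G) : B.Isom g := by
  obtain ⟨μ, hμ, h⟩ := hP g hgG
  suffices e : μ = 1 by intro v w; rw [h, e, one_mul]
  have h' : ∀ v w, φ v * B.f a w + B.σ (φ w) * B.f v a + φ v * B.σ (φ w) * B.f a a = (μ - 1) * B.f v w := fun v w => by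
    have e := h v w
    rw [hg, hg, B.add_left, B.smul_left, B.add_right, B.smul_right, B.add_right, B.smul_right] at e
    linear_combination e
  by_contra hne
  have hne' : μ - 1 ≠ 0 := sub_ne_zero.mpr hne
  have haa : B.f a a = 0 := by
    have e := h' a a
    rw [hφa, map_zero] at e
    exact (mul_eq_zero.mp (show (μ - 1) * B.f a a = 0 by linear_combination -e)).resolve_left hne'
  obtain ⟨w, hw⟩ := nondeg_restrict hB ha
  have e := h' a w
  rw [hφa, haa] at e
  exact mul_ne_zero hne' hw (by linear_combination -e)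

/-- Two independent transvections generate all in a plane. -/
theorem big_of_two (hB : B.IsZero ∨ B.IsHerm) (hdim : finrank F V = 2) (hP : B.Pres G) {g g' : V ≃ₗ[F] V} {a a' : V}
    {φ φ' : V →ₗ[F] F} (hgG : pr F V g ∈ G) (hgG' : pr F V g' ∈ G) (hg : ∀ v, g v = v + φ v • a)
    (hg' : ∀ v, g' v = v + φ' v • a') (hφa : φ a = 0) (hφa' : φ' a' = 0) (ha : a ≠ 0) (ha' : a' ≠ 0) (hφ : φ ≠ 0)
    (hφ' : φ' ≠ 0) (hind : ∀ c : F, c • a ≠ a') : B.Big G := by
  have hspan : ∀ v : V, ∃ α β : F, v = α • a + β • a' := by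
    intro v
    have hli : LinearIndependent F ![a, a'] := (LinearIndependent.pair_iff' ha).mpr hind
    have hs := hli.span_eq_top_of_card_eq_finrank' (by rw [Fintype.card_fin, hdim])
    have hv : v ∈ Submodule.span F (Set.range ![a, a']) := hs ▸ Submodule.mem_top
    rw [Matrix.range_cons, Matrix.range_cons, Matrix.range_empty, Set.union_empty, Set.singleton_union,
      Submodule.mem_span_pair] at hv
    obtain ⟨α, β, e⟩ := hv
    exact ⟨α, β, e.symm⟩
  rcases hB with hB | hB
  · -- prime field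
    have line : ∀ {b b' : V} {ψ : V →ₗ[F] F}, Has (lift G) b ψ → ψ b' ≠ 0 → (∀ v : V, ∃ α β : F, v = α • b + β • b') →
        ∀ χ : V →ₗ[F] F, χ b = 0 → Has (lift G) b χ := by
      intro b b' ψ h hb hsp χ hχ
      have e : χ = (χ b' / ψ b') • ψ := LinearMap.ext fun v => by
        obtain ⟨α, β, rfl⟩ := hsp v
        simp only [map_add, map_smul, LinearMap.smul_apply, hχ, h.1, smul_eq_mul, mul_zero, zero_add]
        field_simp
      obtain ⟨n, hn⟩ := hB.2 (χ b' / ψ b')
      rw [e, ← hn]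
      exact h.natMul n
    have hφa2 : φ a' ≠ 0 := fun e => hφ (LinearMap.ext fun v => by
      obtain ⟨α, β, rfl⟩ := hspan v; simp [hφa, e])
    have hφ'a : φ' a ≠ 0 := fun e => hφ' (LinearMap.ext fun v => by
      obtain ⟨α, β, rfl⟩ := hspan v; simp [hφa', e])
    have hA := line ⟨hφa, g, hgG, hg⟩ hφa2 hspan
    intro k c χ hk hχc _
    suffices h : Has (lift G) c χ from h.mem hk
    obtain ⟨α, β, rfl⟩ := hspan c
    rcases eq_or_ne β 0 with rfl | hβ
    · rw [zero_smul, add_zero] at hχc ⊢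
      obtain ⟨-, h, hh, hhe⟩ := hA (α • χ) (by rw [LinearMap.smul_apply, ← map_smul, hχc])
      exact ⟨hχc, h, hh, fun v => by rw [hhe]; simp [mul_comm α, smul_smul]⟩
    -- move `a'` to `a' + (α / β) a`
    obtain ⟨ψ, hψa, hψa'⟩ := exists_dual_two ha hind (0 : F) (α / β)
    obtain ⟨-, σ, hσ, hσe⟩ := hA ψ hψa
    have hσi : ∀ v, σ⁻¹ v = v - ψ v • a := fun v => σ.injective (by
      rw [show σ (σ⁻¹ v) = v from σ.apply_symm_apply v, hσe, map_sub, map_smul, hψa, smul_zero, sub_zero,
        sub_add_cancel])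
    have hnew : Has (lift G) (a' + (α / β) • a) (φ' - φ' a • ψ) := by
      refine ⟨by simp [hφa', hψa', hψa]; ring, σ * g' * σ⁻¹,
        Subgroup.mul_mem _ (Subgroup.mul_mem _ hσ hgG') (Subgroup.inv_mem _ hσ), fun v => ?_⟩
      rw [LinearEquiv.mul_apply, LinearEquiv.mul_apply, hg', map_add, map_smul,
        show σ (σ⁻¹ v) = v from σ.apply_symm_apply v, hσe a', hψa', hσi]
      simp [mul_comm]
    obtain ⟨h0, h, hh, hhe⟩ := line hnew (b' := a) (by simp [hψa, hφ'a]) (fun v => by
      obtain ⟨p, q, rfl⟩ := hspan v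
      exact ⟨q, p - q * (α / β), by module⟩) (β • χ) (by
      rw [LinearMap.smul_apply, ← map_smul, smul_add, smul_smul, mul_div_cancel₀ _ hβ, add_comm, hχc])
    exact ⟨hχc, h, hh, fun v => by
      rw [hhe, LinearMap.smul_apply, smul_eq_mul, mul_comm β, ← smul_smul, smul_add, smul_smul β, mul_div_cancel₀ _ hβ,
        add_comm (β • a')]⟩
  · refine big_of_centres hB fun c hcc t ht => ?_
    have hi := isom_of_trans hB hP hg hφa ha hφ hgG
    have hi' := isom_of_trans hB hP hg' hφa' ha' hφ' hgG'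
    obtain ⟨haa, t0, ht0, hs0⟩ := hB.shape hg hφa hi hφ ha
    obtain ⟨haa', t1, ht1, hs1⟩ := hB.shape hg' hφa' hi' hφ' ha'
    have ht00 : t0 ≠ 0 := fun e => hφ (LinearMap.ext fun v => by rw [hs0, e, zero_mul]; rfl)
    have ht10 : t1 ≠ 0 := fun e => hφ' (LinearMap.ext fun v => by rw [hs1, e, zero_mul]; rfl)
    have hA : ∀ t, t + B.σ t = 0 → B.HasU (lift G) a t := fun t ht =>
      hB.hasU_all haa ht00 ht0 ⟨g, hgG, fun v => by rw [hg, hs0]⟩ ht
    have hA' : ∀ t, t + B.σ t = 0 → B.HasU (lift G) a' t := fun t ht =>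
      hB.hasU_all haa' ht10 ht1 ⟨g', hgG', fun v => by rw [hg', hs1]⟩ ht
    obtain ⟨α, β, rfl⟩ := hspan c
    rcases eq_or_ne β 0 with rfl | hβ
    · rw [zero_smul, add_zero]
      obtain ⟨h, hh, hhe⟩ := hA (t * α * B.σ α) (by
        rw [map_mul, map_mul, B.invol, eq_neg_of_add_eq_zero_right ht]; ring)
      exact ⟨h, hh, fun v => by rw [hhe, B.smul_right, smul_smul]; ring_nf⟩
    have hμ : B.f a' a ≠ 0 := fun e => ha (hB.1 a fun v => by
      obtain ⟨p, q, rfl⟩ := hspan v
      rw [B.add_right, B.smul_right, B.smul_right, haa, B.herm a' a, e, map_zero]; ring)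
    obtain ⟨γ, hγd⟩ : ∃ γ, γ = α / β := ⟨_, rfl⟩
    have hd : α • a + β • a' = β • (γ • a + a') := by rw [hγd, smul_add, smul_smul, mul_div_cancel₀ _ hβ]
    have hiso : B.f (γ • a + a') (γ • a + a') = 0 := by
      have h1 := hcc
      rw [hd, B.smul_left, B.smul_right] at h1
      exact (mul_eq_zero.mp ((mul_eq_zero.mp h1).resolve_left hβ)).resolve_left ((map_ne_zero B.σ).mpr hβ)
    have hγ : γ * B.f a a' + B.σ (γ * B.f a a') = 0 := by
      rw [B.add_left, B.add_right, B.add_right, B.smul_left, B.smul_left, B.smul_right, B.smul_right, haa, haa',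
        B.herm a a'] at hiso
      rw [map_mul]
      linear_combination hiso
    have hs : γ / B.f a' a + B.σ (γ / B.f a' a) = 0 := by
      have hμ' : B.f a a' ≠ 0 := by rw [B.herm a' a]; exact (map_ne_zero B.σ).mpr hμ
      rw [map_mul, ← B.herm a a'] at hγ
      rw [map_div₀, ← B.herm a' a, div_add_div _ _ hμ hμ', div_eq_zero_iff]
      left
      linear_combination hγ
    obtain ⟨σ, hσ, hσe⟩ := hA _ hs
    have hσa' : σ a' = γ • a + a' := by rw [hσe, div_mul_cancel₀ _ hμ, add_comm]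
    obtain ⟨h, hh, hhe⟩ := hA' (t * β * B.σ β) (by
      rw [map_mul, map_mul, B.invol, eq_neg_of_add_eq_zero_right ht]; ring)
    have hiσ : B.Isom σ := B.isom_trans hσe haa hs
    refine ⟨σ * h * σ⁻¹, Subgroup.mul_mem _ (Subgroup.mul_mem _ hσ hh) (Subgroup.inv_mem _ hσ), fun v => ?_⟩
    obtain ⟨p, rfl⟩ := σ.surjective v
    rw [LinearEquiv.mul_apply, LinearEquiv.mul_apply, show σ⁻¹ (σ p) = p from σ.symm_apply_apply p, hhe, map_add,
      map_smul, hσa', hd, B.smul_right, smul_smul, ← hσa', hiσ]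
    ring_nf

/-- Over the field with nine elements the normaliser is the whole group of similitudes of a plane. -/
theorem plane_three (hB : B.IsHerm) (h3 : (3 : F) = 0) {Φ : Data F V A} (hC : B.Compat Φ) (hr : Φ.Roots)
    (hP : B.Pres G) (hdim : finrank F V = 2) {i : F} (hi : i * i = -1) (hiN : i * B.σ i = 1) {a b : A}
    (hab : Φ.sg a b = -1) : G ≤ Φ.N := by
  have ha0 : a ≠ 0 := by
    rintro rfl
    rw [Φ.sg_symm, Φ.sg_zero] at hab
    exact Φ.one_ne_neg hab
  obtain ⟨s, hs0, hs⟩ := hr a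
  obtain ⟨rb, hrb0, hrb⟩ := hr b
  obtain ⟨v1, hv10, hv1⟩ := Φ.exists_eigen ha0 hs
  obtain ⟨v2, hv2d⟩ : ∃ v2, v2 = rb⁻¹ • Φ.u b v1 := ⟨_, rfl⟩
  have hrbn : rb * B.σ rb = 1 := (hC b).2 hB rb hrb
  have hσi : B.σ i = -i := by
    have hi0 : i ≠ 0 := fun e => by simp [e] at hiN
    refine mul_left_cancel₀ hi0 ?_
    rw [hiN, mul_neg, hi, neg_neg]
  have hb1 : Φ.u b v1 = rb • v2 := by rw [hv2d, smul_inv_smul₀ hrb0]
  have hb2 : Φ.u b v2 = rb • v1 := by rw [hv2d, map_smul, hrb, smul_smul, inv_mul_cancel_left₀ hrb0]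
  have hv2 : Φ.u a v2 = -s • v2 := by
    rw [hv2d, map_smul, Φ.comm a b, hab, hv1, map_smul]; module
  have h12 : B.f v1 v2 = 0 := hB.eig_orth hC hs hv1 hv2
  have h21 : B.f v2 v1 = 0 := by rw [B.herm v1 v2, h12, map_zero]
  have hn2 : B.f v2 v2 = B.f v1 v1 := by
    have h := (hC b).1 v1 v1
    rw [hb1, B.smul_left, B.smul_right, ← mul_assoc, hrbn, one_mul] at h
    exact h
  have hv20 : v2 ≠ 0 := fun e => hv10 ((Φ.u b).map_eq_zero_iff.mp (by rw [hb1, e, smul_zero]))
  have hind : ∀ c : F, c • v1 ≠ v2 := fun c e => by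
    have h1 : Φ.u a v2 = s • v2 := by rw [← e, map_smul, hv1, smul_comm]
    rw [hv2] at h1
    have h2 : (2 * s) • v2 = 0 := by linear_combination (norm := module) -h1
    exact hv20 ((smul_eq_zero.mp h2).resolve_left (mul_ne_zero Φ.two hs0))
  have hspan : ∀ v : V, ∃ α β : F, v = α • v1 + β • v2 := by
    intro v
    have hli : LinearIndependent F ![v1, v2] := (LinearIndependent.pair_iff' hv10).mpr hind
    have hss := hli.span_eq_top_of_card_eq_finrank' (by rw [Fintype.card_fin, hdim])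
    have hv : v ∈ Submodule.span F (Set.range ![v1, v2]) := hss ▸ Submodule.mem_top
    rw [Matrix.range_cons, Matrix.range_cons, Matrix.range_empty, Set.union_empty, Set.singleton_union,
      Submodule.mem_span_pair] at hv
    obtain ⟨α, β, e⟩ := hv
    exact ⟨α, β, e.symm⟩
  have hnn : B.f v1 v1 ≠ 0 := fun e => hv10 (hB.1 v1 fun w => by
    obtain ⟨α, β, rfl⟩ := hspan w
    rw [B.add_right, B.smul_right, B.smul_right, e, h12]; ring)
  have hnorm : ∀ α β : F, B.f (α • v1 + β • v2) (α • v1 + β • v2) =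
      (α * B.σ α + β * B.σ β) * B.f v1 v1 := fun α β => by
    rw [B.add_left, B.add_right, B.add_right, B.smul_left, B.smul_left, B.smul_left, B.smul_left, B.smul_right,
      B.smul_right, B.smul_right, B.smul_right, h12, h21, hn2]
    ring
  have two1 : (2 : F) = -1 := by linear_combination h3
  have hfix : ∀ t : F, B.σ t = t → t = 0 ∨ t = 1 ∨ t = -1 := fun t ht => by
    obtain ⟨n, rfl⟩ := hB.2.2.1 t ht
    have e : (n : F) = ((n % 3 : ℕ) : F) := by
      conv_lhs => rw [← Nat.div_add_mod n 3, Nat.cast_add, Nat.cast_mul, show ((3 : ℕ) : F) = (3 : F) by norm_num, h3]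
      simp
    rw [e]
    have : n % 3 = 0 ∨ n % 3 = 1 ∨ n % 3 = 2 := by omega
    rcases this with h | h | h <;> rw [h]
    · exact Or.inl Nat.cast_zero
    · exact Or.inr (Or.inl Nat.cast_one)
    · exact Or.inr (Or.inr (by rw [← two1]; norm_num))
  -- every anisotropic vector is an eigenvector of a frame map
  have claim : ∀ v, B.f v v ≠ 0 → ∃ (c : A) (t : F), c ≠ 0 ∧ Φ.u c v = t • v := by
    intro v hv
    obtain ⟨α, β, rfl⟩ := hspan v
    rw [hnorm] at hv
    rcases eq_or_ne α 0 with rfl | hα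
    · exact ⟨a, -s, ha0, by rw [zero_smul, zero_add, map_smul, hv2, smul_comm]⟩
    rcases eq_or_ne β 0 with rfl | hβ
    · exact ⟨a, s, ha0, by rw [zero_smul, add_zero, map_smul, hv1, smul_comm]⟩
    have hN : (β / α) * B.σ (β / α) = 1 := by
      have e : α * B.σ α ≠ 0 := mul_ne_zero hα ((map_ne_zero B.σ).mpr hα)
      rcases hfix _ (show B.σ ((β / α) * B.σ (β / α)) = (β / α) * B.σ (β / α) by
        rw [map_mul, B.invol, mul_comm]) with h | h | h
      · exact absurd h (mul_ne_zero (div_ne_zero hβ hα) ((map_ne_zero B.σ).mpr (div_ne_zero hβ hα)))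
      · exact h
      · exfalso
        rw [map_div₀, div_mul_div_comm, div_eq_iff e] at h
        exact mul_ne_zero (show (α * B.σ α + β * B.σ β) ≠ 0 from fun e0 => hv (by rw [e0, zero_mul])) one_ne_zero
          (by linear_combination h)
    obtain ⟨r, hr'⟩ : ∃ r, r = β / α := ⟨_, rfl⟩
    rw [← hr'] at hN
    have hvr : α • v1 + β • v2 = α • (v1 + r • v2) := by rw [hr', smul_add, smul_smul, mul_div_cancel₀ _ hα]
    -- the fourth roots of one
    have hr4 : r * r = 1 ∨ r * r = -1 := by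
      -- decompose into fixed and skew parts
      obtain ⟨p, hp⟩ : ∃ p, p = (r + B.σ r) / 2 := ⟨_, rfl⟩
      obtain ⟨q, hq⟩ : ∃ q, q = (r - B.σ r) / (2 * i) := ⟨_, rfl⟩
      have hi0 : i ≠ 0 := fun e => by simp [e] at hiN
      have e : r = p + q * i := by
        have h2 := Φ.two
        rw [hp, hq]
        field_simp
        ring
      have hp' : B.σ p = p := by rw [hp, map_div₀, map_add, B.invol, map_ofNat, add_comm]
      have hq' : B.σ q = q := by
        rw [hq, map_div₀, map_sub, B.invol, map_mul, map_ofNat, hσi, mul_neg, div_neg, ← neg_div, neg_sub]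
      have hN' : p * p + q * q = 1 := by
        rw [e, map_add, map_mul, hp', hq', hσi] at hN
        linear_combination hN + q * q * hi
      rw [e]
      rcases hfix p hp' with h | h | h <;> rcases hfix q hq' with h' | h' | h' <;> rw [h, h'] at hN' ⊢
      all_goals first
        | (left; linear_combination hN')
        | (right; linear_combination hi)
        | (exfalso; exact one_ne_zero (show (1 : F) = 0 by linear_combination hN'))
        | (left; ring1)
    rcases hr4 with h | h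
    · refine ⟨b, r * rb, fun e => Φ.one_ne_neg ((Φ.sg_zero a).symm.trans (e ▸ hab)), ?_⟩
      rw [hvr, map_smul, map_add, map_smul, hb1, hb2]
      linear_combination (norm := module) -(α * rb) • congrArg (· • v2) h
    · obtain ⟨m, hm⟩ := Φ.mul a b
      refine ⟨a + b, -(m⁻¹ * s * r * rb) * -1, ?_, ?_⟩
      · refine Φ.add_ne_zero ?_
        rintro rfl
        rw [Φ.sg_self] at hab
        exact Φ.one_ne_neg hab
      · have hu : ∀ w, Φ.u (a + b) w = m⁻¹ • Φ.u a (Φ.u b w) := fun w => by rw [hm, inv_smul_smul₀ (Φ.mul_ne hm)]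
        rw [hu, hvr, map_smul, map_smul, map_add, map_smul, hb1, hb2, map_add, map_smul, map_smul, map_smul, hv1, hv2]
        linear_combination (norm := module) -(m⁻¹ * α * rb * s) • congrArg (· • v2) h
  intro g hg
  obtain ⟨k, rfl⟩ := pr_surjective g
  obtain ⟨μ, hμ, hk⟩ := hP k hg
  refine Φ.mem_N_of fun c => ?_
  rcases eq_or_ne c 0 with rfl | hc
  · exact ⟨0, by rw [Φ.e_zero]; group⟩
  obtain ⟨t, ht0, ht⟩ := hr c
  obtain ⟨w1, hw10, hw1⟩ := Φ.exists_eigen hc ht
  obtain ⟨w2, hw20, hw2⟩ := Φ.exists_eigen (s := -t) hc (by simpa using ht)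
  have hw12 : B.f w1 w2 = 0 := hB.eig_orth hC ht hw1 hw2
  have hwind : ∀ e : F, e • w1 ≠ w2 := fun e he => by
    have h1 : Φ.u c w2 = t • w2 := by rw [← he, map_smul, hw1, smul_comm]
    rw [hw2] at h1
    have h2 : (2 * t) • w2 = 0 := by linear_combination (norm := module) -h1
    exact hw20 ((smul_eq_zero.mp h2).resolve_left (mul_ne_zero Φ.two ht0))
  have hli : LinearIndependent F ![w1, w2] := (LinearIndependent.pair_iff' hw10).mpr hwind
  have hss := hli.span_eq_top_of_card_eq_finrank' (by rw [Fintype.card_fin, hdim])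
  have hspanw : ∀ v : V, ∃ α β : F, v = α • w1 + β • w2 := fun v => by
    have hv : v ∈ Submodule.span F (Set.range ![w1, w2]) := hss ▸ Submodule.mem_top
    rw [Matrix.range_cons, Matrix.range_cons, Matrix.range_empty, Set.union_empty, Set.singleton_union,
      Submodule.mem_span_pair] at hv
    obtain ⟨α, β, e⟩ := hv
    exact ⟨α, β, e.symm⟩
  have hw11 : B.f w1 w1 ≠ 0 := fun e => hw10 (hB.1 w1 fun v => by
    obtain ⟨α, β, rfl⟩ := hspanw v
    rw [B.add_right, B.smul_right, B.smul_right, e, hw12]; ring)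
  obtain ⟨c', t', hc', hct⟩ := claim (k w1) (by rw [hk]; exact mul_ne_zero hμ hw11)
  obtain ⟨d, hd0, hd⟩ := Φ.sq c'
  have hkw10 : k w1 ≠ 0 := fun e => hw10 (k.map_eq_zero_iff.mp e)
  -- the other image lies in the other eigenspace
  have ht'0 : t' ≠ 0 := fun e => hkw10 ((Φ.u c').map_eq_zero_iff.mp (by rw [hct, e, zero_smul]))
  have hdt : ∀ v, Φ.u c' (Φ.u c' v) = (t' * t') • v := by
    have e := hd (k w1)
    rw [hct, map_smul, hct, smul_smul] at e
    intro v
    rw [hd, smul_left_injective F hkw10 e]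
  obtain ⟨y, hy0, hy⟩ := Φ.exists_eigen (s := -t') hc' (by simpa using hdt)
  have hy1 : B.f (k w1) y = 0 := hB.eig_orth hC hdt hct hy
  obtain ⟨α, β, hαβ⟩ := hspanw (k⁻¹ y)
  have hky : y = α • k w1 + β • k w2 := by
    rw [← map_smul, ← map_smul, ← map_add, ← hαβ, show k (k⁻¹ y) = y from k.apply_symm_apply y]
  have hα : α = 0 := by
    rw [hky, B.add_right, B.smul_right, B.smul_right, hk, hk, hw12, mul_zero, mul_zero, add_zero] at hy1
    exact (map_eq_zero B.σ).mp ((mul_eq_zero.mp hy1).resolve_right (mul_ne_zero hμ hw11))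
  rw [hα, zero_smul, zero_add] at hky
  have hβ : β ≠ 0 := fun e => hy0 (by rw [hky, e, zero_smul])
  have hct2 : Φ.u c' (k w2) = -t' • k w2 := by
    have e := hy
    rw [hky, map_smul, smul_comm (-t')] at e
    exact smul_right_injective V hβ e
  refine ⟨c', pr_conj.mpr ⟨t / t', fun v => ?_⟩⟩
  obtain ⟨α, β, rfl⟩ := hspanw v
  simp only [map_add, map_smul, hw1, hw2, hct, hct2, smul_add, smul_smul]
  congr 2 <;> field_simp

/-- **The plane dichotomy.** -/
theorem plane_dichotomy [Finite F] (Φ : Data F V A) (hG : Φ.Full G) (hr : Φ.Roots) (hC : B.Compat Φ) (hP : B.Pres G)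
    (hA : Nat.card A = 4) {i : F} (hi : i * i = -1) (hiN : B.IsHerm → i * B.σ i = 1) :
    G ≤ Φ.N ∨ (B.Big G ∧ (B.IsHerm → (3 : F) ≠ 0)) := by
  classical
  have hdim : finrank F V = 2 := by
    have h := Φ.dim
    rw [hA] at h
    exact Nat.pow_left_injective (n := 2) (by norm_num) (h.trans (by norm_num))
  obtain ⟨a, ha⟩ : ∃ a : A, a ≠ 0 := by
    haveI : Nontrivial A := Finite.one_lt_card_iff_nontrivial.mp (by omega)
    exact _root_.exists_ne 0
  obtain ⟨b, hab⟩ := Φ.nd a ha
  by_cases h3 : B.IsHerm ∧ (3 : F) = 0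
  · exact Or.inl (plane_three h3.1 h3.2 hC hr hP hdim hi (hiN h3.1) hab)
  push Not at h3
  obtain ⟨p, hp⟩ := CharP.exists F
  haveI : Fintype F := Fintype.ofFinite F
  haveI : Fact p.Prime := ⟨CharP.char_is_prime F p⟩
  let K := FiniteField.Extension F p 2
  haveI : Fintype K := Fintype.ofFinite _
  let bs := Module.finBasisOfFinrankEq F V hdim
  have hsq : ∀ g : V ≃ₗ[F] V, pr F V g ∈ G → IsSquare (mat (algebraMap F K) bs g).det := by
    intro g _
    have e : (mat (algebraMap F K) bs g).det = algebraMap F K (LinearMap.toMatrix bs bs g.toLinearMap).det :=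
      ((algebraMap F K).map_det _).symm
    rw [e]
    generalize (LinearMap.toMatrix bs bs g.toLinearMap).det = d
    rcases eq_or_ne (algebraMap F K d) 0 with h0 | h0
    · rw [h0]; exact IsSquare.zero
    have hK2 : ringChar K ≠ 2 := fun h2 => by
      haveI := ringChar.of_eq h2
      have : ((2 : ℕ) : K) = 0 := CharP.cast_eq_zero K 2
      apply Φ.two
      apply (algebraMap F K).injective
      rw [map_ofNat, map_zero]
      exact_mod_cast this
    rw [FiniteField.isSquare_iff hK2 h0, ← map_pow, ← Nat.card_eq_fintype_card, FiniteField.natCard_extension,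
      Nat.card_eq_fintype_card]
    have hd0 : d ≠ 0 := fun e => h0 (by rw [e, map_zero])
    have hodd : ∃ m, Fintype.card F = 2 * m + 1 := by
      have hF2 : ringChar F ≠ 2 := fun h2 => by
        haveI := ringChar.of_eq h2
        have : ((2 : ℕ) : F) = 0 := CharP.cast_eq_zero F 2
        exact Φ.two (by exact_mod_cast this)
      exact ⟨Fintype.card F / 2, by have := FiniteField.odd_card_of_char_ne_two hF2; omega⟩
    obtain ⟨m, hm⟩ := hodd
    rw [hm, show (2 * m + 1) ^ 2 / 2 = 2 * m * (m + 1) by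
      rw [show (2 * m + 1) ^ 2 = 2 * (2 * m * (m + 1)) + 1 by ring]; omega, pow_mul,
      show 2 * m = Fintype.card F - 1 by omega, FiniteField.pow_card_sub_one_eq_one d hd0, one_pow, map_one]
  rcases Φ.plane_kind (ι := algebraMap F K) (bs := bs) hG hab hsq hA with h | ⟨g, L, hlow, -⟩
  · exact Or.inl h
  refine Or.inr ⟨?_, h3⟩
  obtain ⟨y1, hy1, e1⟩ := (hlow 1 L.one_mem).1
  obtain ⟨y2, hy2, e2⟩ := (hlow 1 L.one_mem).2
  have hval : ∀ y, y.1 = g⁻¹.val * (PSL2.conjSL g y).1 * g.val := fun y => by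
    show y.1 = g⁻¹.val * (g.val * y.1 * g⁻¹.val) * g.val
    simp [mul_assoc]
  have hnil : ∀ (y : Matrix.SpecialLinearGroup (Fin 2) K) (N : Matrix (Fin 2) (Fin 2) K),
      (PSL2.conjSL g y).1 = 1 + N → N * N = 0 → N ≠ 0 → y.1 ≠ 1 ∧ (y.1 - 1) * (y.1 - 1) = 0 := by
    intro y N e hN hN0
    have e' : y.1 - 1 = g⁻¹.val * N * g.val := by
      rw [hval, e, mul_add, add_mul, mul_one, Units.inv_mul, add_sub_cancel_left]
    refine ⟨fun h => hN0 ?_, ?_⟩
    · have h' : g⁻¹.val * N * g.val = 0 := by rw [← e', h, sub_self]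
      have := congrArg (fun M => g.val * M * g⁻¹.val) h'
      simpa [mul_assoc] using this
    · rw [e']
      calc g⁻¹.val * N * g.val * (g⁻¹.val * N * g.val) = g⁻¹.val * (N * N) * g.val := by simp [mul_assoc]
        _ = 0 := by rw [hN, mul_zero, zero_mul]
  have hN1 : (PSL2.conjSL g y1).1 = 1 + !![0, 1; 0, 0] := by
    rw [show PSL2.conjSL g y1 = PSL2.uS 1 from e1, PSL2.uS_val]
    ext i j; fin_cases i <;> fin_cases j <;> simp
  have hN2 : (PSL2.conjSL g y2).1 = 1 + !![0, 0; 1, 0] := by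
    rw [show PSL2.conjSL g y2 = PSL2.vS 1 from e2, PSL2.vS_val]
    ext i j; fin_cases i <;> fin_cases j <;> simp
  obtain ⟨hne1, hnil1⟩ := hnil y1 _ hN1 (by ext i j; fin_cases i <;> fin_cases j <;> simp) (fun e => by
    have := congrFun (congrFun e 0) 1; simp at this)
  obtain ⟨hne2, hnil2⟩ := hnil y2 _ hN2 (by ext i j; fin_cases i <;> fin_cases j <;> simp) (fun e => by
    have := congrFun (congrFun e 1) 0; simp at this)
  obtain ⟨g1, a1, φ1, hg1, h1, hφ1, ha1, hφ10, hm1⟩ := exists_trans_of_unipotent Φ.two hy1 hne1 hnil1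
  obtain ⟨g2, a2, φ2, hg2, h2, hφ2, ha2, hφ20, hm2⟩ := exists_trans_of_unipotent Φ.two hy2 hne2 hnil2
  refine big_of_two B.cases hdim hP hg1 hg2 h1 h2 hφ1 hφ2 ha1 ha2 hφ10 hφ20 fun c e => ?_
  have hker : φ2 a1 = 0 := by
    have hc : c ≠ 0 := fun h0 => ha2 (by rw [← e, h0, zero_smul])
    have := hφ2
    rw [← e, map_smul, smul_eq_mul, mul_eq_zero] at this
    exact this.resolve_left hc
  have hker' : φ1 a2 = 0 := by rw [← e, map_smul, hφ1, smul_zero]
  have hcom : g1 * g2 = g2 * g1 := LinearEquiv.ext fun v => by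
    rw [LinearEquiv.mul_apply, LinearEquiv.mul_apply, h1, h2, h2, h1, map_add, map_smul, hker', map_add, map_smul,
      hker]
    module
  have := congrArg (mat (algebraMap F K) bs) hcom
  rw [mat_mul, mat_mul, hm1, hm2, hval y1, hval y2, hN1, hN2] at this
  have h00 := congrArg (fun M => (g.val * M * g⁻¹.val) 0 0) this
  simp only [mul_assoc, Units.mul_inv, Units.mul_inv_cancel_left, mul_one] at h00
  simp [Matrix.mul_apply, Fin.sum_univ_two] at h00

end Geom

end Cfsg.Agent.Classical.Frame
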