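/-
Frames of order four and sixteen: the small cases of the dichotomy.
-/
import Cfsg.Agent.Lib.Classical.Frame.PlaneBig
import Cfsg.Agent.Lib.Classical.Frame.Ext

set_option autoImplicit false
set_option linter.unusedSectionVars false

namespace Cfsg.Agent.Classical.Frame

open Module

universe u v w

variable {F : Type u} [Field F] {V : Type v} [AddCommGroup V] [Module F V] [FiniteDimensional F V]
  {A : Type w} [AddCommGroup A] [Finite A] {Φ : Data F V A} {G : Subgroup (PG F V)}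

namespace Data

/-- The normaliser of a frame of order four is generated by the frame and the transvections. -/
theorem mem_of_mem_N (hG : Φ.Full G) (hA : Nat.card A = 4) {g : PG F V} (hg : g ∈ Φ.N) : g ∈ G := by
  classical
  have hgen : ∀ (g : PG F V) (fn : A → A), Φ.Acts g fn → ∀ a : A, a ≠ 0 →
      fn a = a ∨ ∃ n ∈ G, Φ.Acts n (Φ.tau (a + fn a)) ∧ Φ.tau (a + fn a) (fn a) = a := by
    intro g fn hfn a ha
    rcases eq_or_ne (fn a) a with e | e
    · exact Or.inl e
    · right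
      obtain ⟨t, ht, htG⟩ := hG.single _ (Φ.add_ne_zero (Ne.symm e))
      refine ⟨_, htG, ht.acts, ?_⟩
      have hfa : fn a ≠ 0 := fun e0 => ha (hfn.injective (e0.trans hfn.zero.symm))
      have hneg : Φ.sg (a + fn a) (fn a) = -1 := by
        refine Φ.sg_cases fun h1 => ?_
        rw [Φ.sg_add_left, Φ.sg_self, mul_one] at h1
        obtain ⟨b, hb⟩ := Φ.nd a ha
        have hb0 : b ≠ 0 := fun e0 => Φ.one_ne_neg ((Φ.sg_zero a).symm.trans (e0 ▸ hb))
        have hle : (AddSubgroup.zmultiples a ⊔ AddSubgroup.zmultiples (fn a)) ≤ Φ.cen a := by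
          refine sup_le ?_ ?_ <;> rw [AddSubgroup.zmultiples_le]
          · exact Φ.self_mem_cen a
          · exact Φ.mem_cen.mpr h1
        have hcard := Φ.card_perp (AddSubgroup.zmultiples a)
        have h2 : Nat.card (AddSubgroup.zmultiples a) = 2 := by
          rw [Nat.card_zmultiples]
          exact addOrderOf_eq_prime (by rw [two_nsmul, Φ.elem]) ha
        rw [h2, hA] at hcard
        have h3 : Nat.card (Φ.cen a) = 2 := by
          show Nat.card (Φ.perp (AddSubgroup.zmultiples a)) = 2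
          omega
        have hz : AddSubgroup.zmultiples a = Φ.cen a :=
          AddSubgroup.eq_of_le_of_card_ge (AddSubgroup.zmultiples_le.mpr (Φ.self_mem_cen a)) (by rw [h2, h3])
        have := hle (AddSubgroup.mem_sup_right (AddSubgroup.mem_zmultiples (fn a)))
        rw [← hz] at this
        rcases Φ.mem_zmultiples.mp this with e1 | e1
        · exact hfa e1
        · exact e e1
      rw [Φ.tau_of_neg hneg, show fn a + (a + fn a) = a from by
        rw [add_comm a, ← add_assoc, Φ.elem, zero_add]]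
  haveI : Nontrivial A := Finite.one_lt_card_iff_nontrivial.mp (by omega)
  obtain ⟨a, ha⟩ := _root_.exists_ne (0 : A)
  obtain ⟨fn, hfn⟩ : ∃ fn, Φ.Acts g fn := ⟨_, Φ.acts_act hg⟩
  obtain ⟨g', fn', hfn', hgg, hfa⟩ : ∃ g' fn', Φ.Acts g' fn' ∧ (g' ∈ G → g ∈ G) ∧ fn' a = a := by
    rcases hgen g fn hfn a ha with e | ⟨n, hn, hnA, e⟩
    · exact ⟨g, fn, hfn, id, e⟩
    · exact ⟨n * g, _, hnA.mul hfn, fun h => by simpa using G.mul_mem (G.inv_mem hn) h, e⟩
  apply hgg
  obtain ⟨b, hb⟩ := Φ.nd a ha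
  have hb0 : b ≠ 0 := fun e => Φ.one_ne_neg ((Φ.sg_zero a).symm.trans (e ▸ hb))
  have hab : a ≠ b := fun e => Φ.one_ne_neg ((Φ.sg_self a).symm.trans (e ▸ hb))
  have hall : ∀ c : A, c = 0 ∨ c = a ∨ c = b ∨ c = a + b := by
    intro c
    by_contra hc
    push Not at hc
    haveI := Fintype.ofFinite A
    have h5 : ({0, a, b, a + b, c} : Finset A).card = 5 := by
      rw [Finset.card_insert_of_notMem (by simp [ha.symm, hb0.symm, (Φ.add_ne_zero hab).symm, hc.1.symm]),
        Finset.card_insert_of_notMem (by simp [hab, hb0, hc.2.1.symm]),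
        Finset.card_insert_of_notMem (by simp [ha, hc.2.2.1.symm]),
        Finset.card_insert_of_notMem (by simp [hc.2.2.2.symm]), Finset.card_singleton]
    have := Finset.card_le_univ ({0, a, b, a + b, c} : Finset A)
    rw [h5, ← Nat.card_eq_fintype_card, hA] at this
    omega
  have hfix : ∀ (n : PG F V) (f : A → A), Φ.Acts n f → f a = a → f b = b → n ∈ G := fun n f hf h1 h2 => by
    refine hG.le (Acts.mem_E ?_)
    rwa [show f = id from funext fun c => by
      rcases hall c with rfl | rfl | rfl | rfl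
      exacts [hf.zero, h1, h2, by rw [hf.add, h1, h2]; rfl]] at hf
  rcases hall (fn' b) with e | e | e | e
  · exact absurd (hfn'.injective (e.trans hfn'.zero.symm)) hb0
  · exact absurd (hfn'.injective (e.trans hfa.symm)).symm hab
  · exact hfix _ _ hfn' hfa e
  · obtain ⟨t, ht, htG⟩ := hG.single a ha
    have h1 : pr F V t * g' ∈ G := hfix _ _ (ht.acts.mul hfn')
      (by show Φ.tau a (fn' a) = a; rw [hfa, Φ.tau_self])
      (by
        show Φ.tau a (fn' b) = b
        rw [e, Φ.tau_of_neg (by rw [Φ.sg_add, Φ.sg_self, hb, one_mul]), add_comm a b, Φ.add_self_cancel])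
    simpa using G.mul_mem (G.inv_mem htG) h1

end Data

namespace Geom

variable {B : Geom F V}

/-- The images of the similitudes. -/
def simG (B : Geom F V) : Subgroup (PG F V) where
  carrier := {n | ∃ g, pr F V g = n ∧ ∃ μ : F, μ ≠ 0 ∧ ∀ v w, B.f (g v) (g w) = μ * B.f v w}
  one_mem' := ⟨1, map_one _, 1, one_ne_zero, fun v w => (one_mul _).symm⟩
  mul_mem' := by
    rintro _ _ ⟨g, rfl, μ, hμ, h⟩ ⟨g', rfl, μ', hμ', h'⟩
    exact ⟨g * g', map_mul _ _ _, μ * μ', mul_ne_zero hμ hμ', fun v w => by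
      rw [LinearEquiv.mul_apply, LinearEquiv.mul_apply, h, h', mul_assoc]⟩
  inv_mem' := by
    rintro _ ⟨g, rfl, μ, hμ, h⟩
    refine ⟨g⁻¹, map_inv _ _, μ⁻¹, inv_ne_zero hμ, fun v w => ?_⟩
    have e := h (g⁻¹ v) (g⁻¹ w)
    rw [show g (g⁻¹ v) = v from g.apply_symm_apply v, show g (g⁻¹ w) = w from g.apply_symm_apply w] at e
    rw [e, inv_mul_cancel_left₀ hμ]

theorem pres_simG (hne : ∃ v : V, v ≠ 0) : B.Pres B.simG := by
  rintro g ⟨g', he, μ, hμ, h⟩
  obtain ⟨c, hc⟩ := pr_eq_pr.mp he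
  have hc0 : c ≠ 0 := by
    rintro rfl
    obtain ⟨v, hv⟩ := hne
    exact hv (g.map_eq_zero_iff.mp (by rw [hc, zero_smul]))
  exact ⟨c * B.σ c * μ, mul_ne_zero (mul_ne_zero hc0 ((map_ne_zero B.σ).mpr hc0)) hμ, fun v w => by
    rw [hc, hc, B.smul_left, B.smul_right, h]; ring⟩

/-- Over the field with nine elements the plane group is big. -/
theorem big_three (hB : B.IsHerm) (h3 : (3 : F) = 0) (hG : Φ.Full G) (hr : Φ.Roots) (hC : B.Compat Φ)
    (hA : Nat.card A = 4) {i : F} (hi : i * i = -1) (hiN : i * B.σ i = 1) : B.Big G := by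
  haveI : Nontrivial A := Finite.one_lt_card_iff_nontrivial.mp (by omega)
  obtain ⟨a, ha⟩ := _root_.exists_ne (0 : A)
  obtain ⟨b, hab⟩ := Φ.nd a ha
  have hdim : finrank F V = 2 := Nat.pow_left_injective (n := 2) (by norm_num) ((Φ.dim.trans hA).trans (by norm_num))
  have hle := plane_three hB h3 hC hr (B.pres_simG Φ.exists_ne) hdim hi hiN hab
  intro g a φ hg hφ hiso
  exact Data.mem_of_mem_N hG hA (hle ⟨g, rfl, 1, one_ne_zero, fun v w => by rw [one_mul]; exact hiso v w⟩)

theorem IsZero.card [Fintype F] (hB : B.IsZero) {p : ℕ} [hp : Fact p.Prime] [CharP F p] : Fintype.card F = p := by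
  have hsur : Function.Surjective (ZMod.castHom (dvd_refl p) F) := fun c => by
    obtain ⟨n, rfl⟩ := hB.2 c
    exact ⟨n, map_natCast _ _⟩
  rw [← Fintype.card_of_bijective ⟨ZMod.castHom_injective F, hsur⟩, ZMod.card]

theorem IsHerm.card [Fintype F] (hB : B.IsHerm) {p : ℕ} [hp : Fact p.Prime] [CharP F p] (h2 : (2 : F) ≠ 0) :
    Fintype.card F = p ^ 2 := by
  obtain ⟨θ, hθ0, hθ⟩ := hB.exists_skew
  have hσθ : B.σ θ = -θ := by linear_combination hθ
  obtain ⟨ψ, hψ⟩ : ∃ ψ : ZMod p →+* F, ψ = ZMod.castHom (dvd_refl p) F := ⟨_, rfl⟩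
  have hfix : ∀ t, B.σ (ψ t) = ψ t := fun t => RingHom.congr_fun (RingHom.ext_zmod ((B.σ : F →+* F).comp ψ) ψ) t
  have hmem : ∀ c, B.σ c = c → ∃ t, ψ t = c := fun c hc => by
    obtain ⟨n, rfl⟩ := hB.2.2.1 c hc
    exact ⟨n, map_natCast _ _⟩
  have hb : Function.Bijective fun t : ZMod p × ZMod p => ψ t.1 + ψ t.2 * θ := by
    constructor
    · rintro ⟨a, b⟩ ⟨a', b'⟩ (e : ψ a + ψ b * θ = ψ a' + ψ b' * θ)
      have e' := congrArg B.σ e
      rw [map_add, map_add, map_mul, map_mul, hfix, hfix, hfix, hfix, hσθ] at e'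
      have h1 : ψ a = ψ a' := mul_left_cancel₀ h2 (by linear_combination e + e')
      have h2' : ψ b = ψ b' := mul_right_cancel₀ hθ0 (by linear_combination e - h1)
      rw [ψ.injective h1, ψ.injective h2']
    · intro c
      obtain ⟨a, ha⟩ := hmem ((c + B.σ c) / 2) (by rw [map_div₀, map_add, B.invol, map_ofNat, add_comm])
      obtain ⟨b, hb⟩ := hmem ((c - B.σ c) / (2 * θ)) (by
        rw [map_div₀, map_sub, B.invol, map_mul, map_ofNat, hσθ, mul_neg, div_neg, ← neg_div, neg_sub])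
      refine ⟨(a, b), ?_⟩
      show ψ a + ψ b * θ = c
      rw [ha, hb]
      field_simp
      ring
  rw [← Fintype.card_of_bijective hb, Fintype.card_prod, ZMod.card, pow_two]

/-- The controlled element in characteristic three gives a supported transvection. -/
theorem ctrl_big (hB : B.IsHerm) (h3 : (3 : F) = 0) (hG : Φ.Full G) (hr : Φ.Roots) (hC : B.Compat Φ)
    (hP : B.Pres G) (hA : Nat.card A = 16) {i : F} (hi : i * i = -1) (hiN : i * B.σ i = 1) {x a b : A} (hx : x ≠ 0)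
    {s α β : F} (hs0 : s ≠ 0) (hs : ∀ v, Φ.u x (Φ.u x v) = (s * s) • v) {h : V ≃ₗ[F] V}
    (hK : Φ.Ctrl G x s h a b α β) : B.Big G := by
  have hs' : ∀ v, Φ.u x (Φ.u x v) = (-s * -s) • v := fun v => by rw [neg_mul_neg]; exact hs v
  have hs0' : (-s) ≠ 0 := neg_ne_zero.mpr hs0
  obtain ⟨z, hxz⟩ := Φ.nd x hx
  have hdim : ∀ t : F, t ≠ 0 → (∀ v, Φ.u x (Φ.u x v) = (t * t) • v) → finrank F (Φ.eig x t) = 2 := fun t h0 ht => by
    have h1 := Data.finrank_eig hxz h0 ht
    have h2 : finrank F V = 4 := Nat.pow_left_injective (n := 2) (by norm_num) ((Φ.dim.trans hA).trans (by norm_num))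
    omega
  have hbig : (B.onEig hC x hs0' hs').Big (Φ.induced G x (-s)) := by
    have h4 : Nat.card (Φ.rest x z) = 4 := by have := Data.card_rest (Φ := Φ) hxz; omega
    refine big_three (Φ := Φ.sub x z hxz (-s) hs0' hs') (onEig_herm hB hC x hs0' hs') h3
      (Data.induced_full hG hxz hs0' hs') (fun p => ?_) (compat_sub hC hxz hs0' hs') h4 hi hiN
    obtain ⟨t, ht0, ht⟩ := hr p
    exact ⟨t, ht0, fun v => Subtype.ext (ht v)⟩
  obtain ⟨C, hCd⟩ : ∃ C, C = Data.cmap Φ a b α β := ⟨_, rfl⟩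
  have hCx : ∀ v, Φ.u x (C v) = C (Φ.u x v) := fun v => by rw [hCd]; exact hK.commute_cmap hK.hxa hK.hxb v
  have hCC : ∀ v, C (C v) = C v - v := fun v => by rw [hCd]; exact hK.cmap_quad v
  have hm : ∀ {v}, Φ.u x v = -s • v → h v = C v := fun {v} hv => by rw [hCd]; exact hK.minus v hv
  have hmC : ∀ {v}, Φ.u x v = -s • v → Φ.u x (C v) = -s • C v := fun {v} hv => by rw [hCx, hv, map_smul]
  have hg : ∀ {v}, Φ.u x v = -s • v → (h * h) v = v + (C v + v) := fun {v} hv => by
    rw [LinearEquiv.mul_apply, hm hv, hm (hmC hv), hCC]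
    have e : (3 : F) • v = 0 := by rw [h3, zero_smul]
    linear_combination (norm := module) -e
  have hgm : ∀ v ∈ Φ.eig x (-s), (h * h) v ∈ Φ.eig x (-s) := fun v hv => by
    rw [Φ.mem_eig] at hv ⊢
    rw [hg hv, map_add, map_add, hmC hv, hv]
    module
  obtain ⟨σ, hσd⟩ : ∃ σ, σ = Data.restr (h * h) hgm := ⟨_, rfl⟩
  have hGh : pr F V (h * h) ∈ G := by rw [map_mul]; exact G.mul_mem hK.mem hK.mem
  have hσmem : σ ∈ supported Φ G x (-s) := by
    refine ⟨h * h, hGh, fun v => by rw [hσd]; rfl, fun v hv => ?_⟩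
    rw [neg_neg, Φ.mem_eig] at hv
    rw [LinearEquiv.mul_apply, hK.plus v hv, hK.plus v hv]
  obtain ⟨v0, hv00, hv0⟩ := Φ.exists_eigen hx hs'
  obtain ⟨w, hw, hne⟩ := hK.not_scalar hv00 hv0 (-1)
  rw [neg_one_smul, ← hCd, ← sub_ne_zero, sub_neg_eq_add] at hne
  obtain ⟨N, hNd⟩ : ∃ N : Φ.eig x (-s) →ₗ[F] Φ.eig x (-s), N = σ.toLinearMap - LinearMap.id := ⟨_, rfl⟩
  have hσv : ∀ v, σ v = v + N v := fun v => by rw [hNd]; simp
  have hNv : ∀ v : Φ.eig x (-s), (N v : V) = C v + v := fun v => by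
    have e : (σ v : V) = v + (C v + v) := by rw [hσd]; exact hg (Φ.mem_eig.mp v.2)
    rw [hσv, Submodule.coe_add] at e
    exact add_left_cancel e
  have hNN : ∀ v, N (N v) = 0 := fun v => Subtype.ext (by
    rw [hNv, hNv, map_add, hCC]
    have e : (3 : F) • C (v : V) = 0 := by rw [h3, zero_smul]
    show C (v : V) - v + C v + (C v + v) = 0
    linear_combination (norm := module) e)
  obtain ⟨w0, hw0⟩ : ∃ w0 : Φ.eig x (-s), N w0 ≠ 0 := ⟨⟨w, Φ.mem_eig.mpr hw⟩, fun e => hne (by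
    rw [← hNv ⟨w, Φ.mem_eig.mpr hw⟩, e]; rfl)⟩
  have hind : ∀ c : F, c • N w0 ≠ w0 := fun c e => hw0 (by
    have e' := congrArg N e
    rwa [map_smul, hNN, smul_zero, eq_comm] at e')
  obtain ⟨φ, hφa, hφw⟩ := exists_dual_two hw0 hind (0 : F) 1
  have hσe : ∀ v, σ v = v + φ v • N w0 := fun v => by
    have hli : LinearIndependent F ![N w0, w0] := (LinearIndependent.pair_iff' hw0).mpr hind
    have hsp := hli.span_eq_top_of_card_eq_finrank' (by rw [Fintype.card_fin, hdim (-s) hs0' hs'])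
    have hv : v ∈ Submodule.span F (Set.range ![N w0, w0]) := hsp ▸ Submodule.mem_top
    rw [Matrix.range_cons, Matrix.range_cons, Matrix.range_empty, Set.union_empty, Set.singleton_union,
      Submodule.mem_span_pair] at hv
    obtain ⟨c, d, rfl⟩ := hv
    rw [hσv, map_add, map_smul, map_smul, hNN, smul_zero, zero_add, map_add, map_smul, map_smul, hφa, hφw]
    simp
  obtain ⟨μ, -, hμ⟩ := hP (h * h) hGh
  have hμ1 : μ = 1 := by
    have hW := onEig_herm hB hC x hs0 hs
    obtain ⟨v1, hv10, hv1⟩ := Φ.exists_eigen hx hs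
    obtain ⟨u, hu⟩ := hW.exists_aniso (v := ⟨v1, Φ.mem_eig.mpr hv1⟩) fun e => hv10 (congrArg Subtype.val e)
    have e := hμ u u
    rw [LinearEquiv.mul_apply, hK.plus _ (Φ.mem_eig.mp u.2), hK.plus _ (Φ.mem_eig.mp u.2)] at e
    refine mul_right_cancel₀ (show B.f (u : V) u ≠ 0 from hu) ?_
    rw [one_mul]; exact e.symm
  have hiσ : (B.onEig hC x hs0' hs').Isom σ := fun v v' => by
    show B.f (σ v : V) (σ v') = B.f (v : V) v'
    rw [hσd]
    show B.f ((h * h) v) ((h * h) v') = _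
    rw [hμ, hμ1, one_mul]
  have hφ0 : φ ≠ 0 := fun e => by simp [e] at hφw
  have hW' := onEig_herm hB hC x hs0' hs'
  obtain ⟨haa, t, ht, hshape⟩ := hW'.shape hσe hφa hiσ hφ0 hw0
  have ht0 : t ≠ 0 := fun e => hφ0 (LinearMap.ext fun v => by rw [hshape, e, zero_mul]; rfl)
  have hall := eigAll_of_one hx hG hP hbig (Or.inr ⟨hB, N w0, t, hw0, haa, ht0, ht, σ, hσmem,
    fun v => by rw [hσe, hshape]⟩)
  have han : a ∉ AddSubgroup.zmultiples x := fun h0 => by
    have hb := hK.hab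
    rcases Φ.mem_zmultiples.mp h0 with e | e <;> rw [e] at hb
    · rw [Φ.sg_symm, Φ.sg_zero] at hb; exact Φ.one_ne_neg hb
    · rw [hK.hxb] at hb; exact Φ.one_ne_neg hb
  exact big_of_eigAll_herm hB hC hall hr hx hK.hxa han fun t ht0 ht => Or.inl (hdim t ht0 ht)

theorem sq_ne_neg_one_three : ∀ m : ZMod 3, m * m ≠ -1 := by decide

/-- The dimension four case once every eigenspace splits. -/
theorem sixteen_split [Finite F] (hG : Φ.Full G) (hr : Φ.Roots) (hC : B.Compat Φ) (hP : B.Pres G)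
    (hA : Nat.card A = 16) {i : F} (hi : i * i = -1) (hiN : B.IsHerm → i * B.σ i = 1)
    (hsplit : ∀ x ≠ 0, Φ.Split G x) : G ≤ Φ.N ∨ B.Big G := by
  classical
  by_cases hsame : ∀ x ≠ 0, Φ.Same G x
  · exact Or.inl (Data.finish hG (Data.cent_of_split hG hr (by omega) hsplit hsame) (by omega))
  right
  unfold Data.Same at hsame
  push Not at hsame
  obtain ⟨x, hx, k, hk, hkx, s, hs0, hs, p, hp, q, hq, q', hq', c, c', hc, hc', hqq⟩ := hsame
  rcases Data.same_or_anti hG hr hx hsplit hk hkx hs0 hs hp hq hq' hc hc' with h | ⟨h, -⟩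
  · exact absurd h hqq
  obtain ⟨g, α, β, hK⟩ := Data.exists_ctrl hG hx hk hkx hs hp hq hq' h hc hc'
  haveI : Fintype F := Fintype.ofFinite F
  obtain ⟨l, hl⟩ := CharP.exists F
  haveI : Fact l.Prime := ⟨CharP.char_is_prime F l⟩
  have hl2 : l ≠ 2 := fun e => Φ.two (by
    subst e; exact_mod_cast CharP.cast_eq_zero F 2)
  by_cases h3 : (3 : F) = 0
  · rcases B.cases with hB | hB
    · exfalso
      have hl3 : l = 3 := by
        have : ((3 : ℕ) : F) = 0 := by exact_mod_cast h3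
        rw [CharP.cast_eq_zero_iff F l, Nat.dvd_prime Nat.prime_three] at this
        exact this.resolve_left (Nat.Prime.ne_one Fact.out)
      subst hl3
      obtain ⟨n, rfl⟩ := hB.2 i
      have e : ((n : ZMod 3)) * n = -1 := ZMod.castHom_injective F (by
        rw [map_mul, map_neg, map_one, map_natCast]; exact hi)
      exact sq_ne_neg_one_three _ e
    · exact ctrl_big hB h3 hG hr hC hP hA hi (hiN hB) hx hs0 hs hK
  exfalso
  have hl5 : 5 ≤ l := by
    have h1 : l ≠ 3 := fun e => h3 (by subst e; exact_mod_cast CharP.cast_eq_zero F 3)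
    have h4 : l.Prime := Fact.out
    have := h4.two_le
    by_contra hh
    interval_cases l <;> simp_all (config := { decide := true })
  rcases B.cases with hB | hB
  · exact Data.ctrl_false_prime hl5 hB.card hG hA hr hsplit hx hs0 hs hK
  · exact Data.ctrl_false hl5 (hB.card Φ.two) hG hA hr hsplit hx hs0 hs hK

end Geom

end Cfsg.Agent.Classical.Frame
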