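/-
The dichotomy: the normaliser of the frame, or all transvections.
-/
import Cfsg.Agent.Lib.Classical.Frame.Sixteen

set_option autoImplicit false
set_option linter.unusedSectionVars false

namespace Cfsg.Agent.Classical.Frame

open Module

universe u v w

variable {F : Type u} [Field F]

namespace Geom

variable {V : Type v} [AddCommGroup V] [Module F V] [FiniteDimensional F V] {A : Type w} [AddCommGroup A] [Finite A]
  {Φ : Data F V A} {B : Geom F V} {G : Subgroup (PG F V)}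

theorem pres_induced (hC : B.Compat Φ) (hP : B.Pres G) (x : A) {s : F} (hs0 : s ≠ 0)
    (hs : ∀ v, Φ.u x (Φ.u x v) = (s * s) • v) : (B.onEig hC x hs0 hs).Pres (Φ.induced G x s) := by
  intro T hT
  obtain ⟨k, l, hk, -, hl, hlT⟩ := hT
  obtain ⟨c, hc⟩ := pr_eq_pr.mp hlT
  obtain ⟨μ, hμ, h⟩ := hP k hk
  by_cases hne : ∀ v : Φ.eig x s, v = 0
  · refine ⟨1, one_ne_zero, fun v w => ?_⟩
    show B.f (T v : V) (T w : V) = 1 * B.f (v : V) w
    rw [hne (T v), hne v, one_mul, ZeroMemClass.coe_zero, B.zero_left, B.zero_left]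
  push Not at hne
  obtain ⟨v0, hv0⟩ := hne
  have hc0 : c ≠ 0 := by
    rintro rfl
    exact hv0 (T.map_eq_zero_iff.mp (by rw [hc, zero_smul]))
  refine ⟨c * B.σ c * μ, mul_ne_zero (mul_ne_zero hc0 ((map_ne_zero B.σ).mpr hc0)) hμ, fun v w => ?_⟩
  show B.f (T v : V) (T w : V) = c * B.σ c * μ * B.f (v : V) w
  rw [hc, hc, Submodule.coe_smul, Submodule.coe_smul, B.smul_left, B.smul_right, hl, hl, h]
  ring

theorem card_four_pow : ∃ m, Nat.card A = 4 ^ m ∨ Subsingleton A ∨ (∀ _ : Data F V A, False) := by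
  by_cases h : Nonempty (Data F V A)
  · obtain ⟨Φ⟩ := h
    obtain ⟨k, hk⟩ : ∃ k, Nat.card A = 2 ^ k := by
      have hp : IsPGroup 2 (Multiplicative A) := fun g =>
        ⟨1, by rw [pow_one, pow_two]; exact congrArg Multiplicative.ofAdd (Φ.elem g.toAdd)⟩
      obtain ⟨k, hk⟩ := IsPGroup.iff_card.mp hp
      exact ⟨k, by rw [← hk]; rfl⟩
    have hd := Φ.dim
    rw [hk] at hd
    obtain ⟨j, -, hj⟩ := (Nat.dvd_prime_pow Nat.prime_two).mp (show finrank F V ∣ 2 ^ k by
      rw [← hd]; exact dvd_pow_self _ two_ne_zero)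
    rw [hj, ← pow_mul] at hd
    refine ⟨j, Or.inl ?_⟩
    rw [hk, ← hd, show (4 : ℕ) = 2 ^ 2 by norm_num, ← pow_mul, mul_comm]
  · exact ⟨0, Or.inr (Or.inr fun Φ => h ⟨Φ⟩)⟩

end Geom

namespace Geom

theorem dich_aux [Finite F] (n : ℕ) : ∀ {V : Type v} [AddCommGroup V] [Module F V] [FiniteDimensional F V]
    {A : Type w} [AddCommGroup A] [Finite A] (Φ : Data F V A) (B : Geom F V) (G : Subgroup (PG F V)),
    Nat.card A = n → 4 ≤ n → Φ.Full G → Φ.Roots → B.Compat Φ → B.Pres G →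
    ∀ i : F, i * i = -1 → (B.IsHerm → i * B.σ i = 1) → G ≤ Φ.N ∨ B.Big G := by
  induction n using Nat.strong_induction_on with
  | _ n ih =>
  intro V _ _ _ A _ _ Φ B G hn h4 hG hr hC hP i hi hiN
  classical
  obtain ⟨m, hm | hm | hm⟩ := card_four_pow (F := F) (V := V) (A := A)
  rotate_left
  · rw [Nat.card_of_subsingleton (0 : A)] at hn; omega
  · exact (hm Φ).elim
  rcases Nat.lt_or_ge m 2 with hm2 | hm2
  · have h4' : Nat.card A = 4 := by
      interval_cases m
      · rw [hm] at hn; omega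
      · exact hm
    exact (plane_dichotomy Φ hG hr hC hP h4' hi hiN).imp_right And.left
  have h16 : 16 ≤ Nat.card A := hm ▸ Nat.pow_le_pow_right (by norm_num : 1 ≤ 4) hm2
  -- the induced frames
  have hsub : ∀ (x z : A) (hxz : Φ.sg x z = -1) (s : F) (hs0 : s ≠ 0) (hs : ∀ v, Φ.u x (Φ.u x v) = (s * s) • v),
      4 ≤ Nat.card (Φ.rest x z) ∧ (Φ.induced G x s ≤ (Φ.sub x z hxz s hs0 hs).N ∨
        (B.onEig hC x hs0 hs).Big (Φ.induced G x s)) := by
    intro x z hxz s hs0 hs
    have hc := Data.card_rest (Φ := Φ) hxz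
    refine ⟨by omega, ih _ (by omega) (Φ.sub x z hxz s hs0 hs) (B.onEig hC x hs0 hs) _ rfl (by omega)
      (Data.induced_full hG hxz hs0 hs) (fun p => ?_) (compat_sub hC hxz hs0 hs) (pres_induced hC hP x hs0 hs) i hi
      fun hW => hiN ?_⟩
    · obtain ⟨t, ht0, ht⟩ := hr p
      exact ⟨t, ht0, fun v => Subtype.ext (ht v)⟩
    · rcases B.cases with h | h
      · exfalso
        obtain ⟨c, hc'⟩ := hW.2.1
        obtain ⟨k, rfl⟩ := h.2 c
        exact hc' (map_natCast _ _)
      · exact h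
  by_cases hex : ∃ (x z : A) (hxz : Φ.sg x z = -1) (s : F) (hs0 : s ≠ 0)
      (hs : ∀ v, Φ.u x (Φ.u x v) = (s * s) • v),
      (B.onEig hC x hs0 hs).Big (Φ.induced G x s) ∧ ¬ (B.IsHerm ∧ (3 : F) = 0 ∧ Nat.card A = 16)
  · -- a supported transvection
    right
    obtain ⟨x, z, hxz, s, hs0, hs, hbig, hnot⟩ := hex
    have hx : x ≠ 0 := by
      rintro rfl
      rw [Φ.sg_symm, Φ.sg_zero] at hxz
      exact Φ.one_ne_neg hxz
    obtain ⟨hc4, -⟩ := hsub x z hxz s hs0 hs
    haveI : Nontrivial (Φ.rest x z) := Finite.one_lt_card_iff_nontrivial.mp (by omega)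
    obtain ⟨b, hb0⟩ := _root_.exists_ne (0 : Φ.rest x z)
    obtain ⟨b', hbb⟩ := (Φ.sub x z hxz s hs0 hs).nd b hb0
    obtain ⟨hxb, hzb⟩ := Φ.mem_perp_two.mp b.2
    have hbn : (b : A) ∉ AddSubgroup.zmultiples x := fun h => by
      rcases Φ.mem_zmultiples.mp h with e | e
      · exact hb0 (Subtype.ext e)
      · rw [e, Φ.sg_symm, hxz] at hzb
        exact Φ.one_ne_neg hzb.symm
    have hdim : ∀ t : F, t ≠ 0 → (∀ v, Φ.u x (Φ.u x v) = (t * t) • v) →
        finrank F (Φ.eig x t) = 2 ∧ Nat.card A = 16 ∨ 4 ≤ finrank F (Φ.eig x t) := fun t ht0 ht => by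
      have h1 := (Φ.sub x z hxz t ht0 ht).dim
      have h2 := Data.card_rest (Φ := Φ) hxz
      obtain ⟨j, hj⟩ : ∃ j, m = j + 2 := ⟨m - 2, by omega⟩
      rw [hm, hj, show (4 : ℕ) ^ (j + 2) = 4 * 4 ^ (j + 1) by ring] at h2
      have h3 : finrank F (Φ.eig x t) = 2 ^ (j + 1) := Nat.pow_left_injective (n := 2) (by norm_num) (by
        show _ ^ 2 = (2 ^ (j + 1)) ^ 2
        rw [h1, ← pow_mul, mul_comm, pow_mul]
        norm_num
        omega)
      rcases Nat.eq_zero_or_pos j with e | e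
      · exact Or.inl ⟨by rw [h3, e]; norm_num, by rw [hm, hj, e]; norm_num⟩
      · exact Or.inr (h3 ▸ (show 2 ^ 2 ≤ 2 ^ (j + 1) from Nat.pow_le_pow_right (by norm_num) (by omega)))
    rcases B.cases with hB | hB
    · obtain ⟨a, φ, ha, hφ, h⟩ := exists_trans_zero hG hr hC hB hx hs0 hs hbig hxb hbn
      exact big_of_eigAll_zero hB (eigAll_of_one hx hG hP hbig (Or.inl ⟨hB, a, φ, ha, hφ, h⟩)) hr hx hxb hbn
    · suffices h : ∃ a t, a ≠ 0 ∧ (B.onEig hC x hs0 hs).f a a = 0 ∧ t ≠ 0 ∧ t + B.σ t = 0 ∧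
          (B.onEig hC x hs0 hs).HasU (supported Φ G x s) a t from
        big_of_eigAll_herm hB hC (eigAll_of_one hx hG hP hbig (Or.inr ⟨hB, h⟩)) hr hx hxb hbn
          fun t ht0 ht => (hdim t ht0 ht).imp_left And.left
      rcases hdim s hs0 hs with ⟨-, h16'⟩ | h
      · have h3 : (3 : F) ≠ 0 := fun e => hnot ⟨hB, e, h16'⟩
        have h5 : (5 : F) ≠ 0 := fun e => by
          have e' : i = 2 ∨ i = -2 := mul_self_eq_mul_self_iff.mp (by linear_combination hi - e)
          have h' := hiN hB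
          rcases e' with e' | e' <;> subst e'
          · rw [map_ofNat] at h'; exact Φ.two (by linear_combination hi - h')
          · rw [map_neg, map_ofNat] at h'; exact Φ.two (by linear_combination hi - h')
        exact exists_trans_torus hG hr hC hB hx hs0 hs hbig hxb hbn (lam := 2) (map_ofNat _ _)
          (fun e => mul_ne_zero h3 h5 (by linear_combination e)) Φ.two
      · exact exists_trans_heis hG hr hC hB hxz hs0 hs hbig (b := b) (b' := b') hbb h
  -- every eigenspace splits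
  push Not at hex
  have hsplit : ∀ x ≠ 0, Φ.Split G x := fun x hx => Data.split_of_induced hx hr fun z hxz s hs0 hs => by
    rcases (hsub x z hxz s hs0 hs).2 with h | h
    · exact h
    · obtain ⟨hB, h3, hA⟩ := hex x z hxz s hs0 hs h
      have hr' : (Φ.sub x z hxz s hs0 hs).Roots := fun p => by
        obtain ⟨t, ht0, ht⟩ := hr p
        exact ⟨t, ht0, fun v => Subtype.ext (ht v)⟩
      have hc := Data.card_rest (Φ := Φ) hxz
      have h4' : Nat.card (Φ.rest x z) = 4 := by omega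
      haveI : Nontrivial (Φ.rest x z) := Finite.one_lt_card_iff_nontrivial.mp (by omega)
      obtain ⟨a, ha⟩ := _root_.exists_ne (0 : Φ.rest x z)
      obtain ⟨b, hab⟩ := (Φ.sub x z hxz s hs0 hs).nd a ha
      exact plane_three (onEig_herm hB hC x hs0 hs) h3 (compat_sub hC hxz hs0 hs) hr'
        (pres_induced hC hP x hs0 hs) (Nat.pow_left_injective (n := 2) (by norm_num)
          (((Φ.sub x z hxz s hs0 hs).dim.trans h4').trans (by norm_num))) hi (hiN hB) hab
  rcases eq_or_ne (Nat.card A) 16 with h | h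
  · exact sixteen_split hG hr hC hP h hi hiN hsplit
  · refine Or.inl (Data.normalises_of_split hG hr ?_ hsplit)
    rw [hm] at h ⊢
    have h3 : 3 ≤ m := by
      rcases Nat.lt_or_ge m 3 with h' | h'
      · exact absurd (by rw [show m = 2 by omega]; norm_num) h
      · exact h'
    exact le_trans (by norm_num) (Nat.pow_le_pow_right (by norm_num : 1 ≤ 4) h3)

variable {V : Type v} [AddCommGroup V] [Module F V] [FiniteDimensional F V] {A : Type w} [AddCommGroup A] [Finite A]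
  {Φ : Data F V A} {B : Geom F V} {G : Subgroup (PG F V)}

/-- **The dichotomy.** -/
theorem dichotomy [Finite F] (hG : Φ.Full G) (hC : B.Compat Φ) (hP : B.Pres G) (h4 : 4 ≤ Nat.card A) {i : F}
    (hi : i * i = -1) (hiN : B.IsHerm → i * B.σ i = 1) : G ≤ Φ.N ∨ B.Big G :=
  dich_aux _ Φ B G rfl h4 hG (Φ.roots_of_single hG.single hi) hC hP i hi hiN

end Geom

end Cfsg.Agent.Classical.Frame
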