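/-
The frame of a 2-group of symplectic type with centre of order four, and its lifted transvections of determinant one.
-/
import Cfsg.Agent.Lib.Classical.Frame.Dich
import Cfsg.Agent.Lib.Classical.SymplecticClassTwo
import Cfsg.Agent.Lib.LocalEven.SymplecticFour
import Cfsg.Agent.Lib.Classical.LinBasic

set_option autoImplicit false
set_option linter.unusedSectionVars false

namespace Cfsg.Agent.Classical.Frame

open Module Matrix Cfsg.Geo

universe u

variable {ι : Type} [Fintype ι] [DecidableEq ι] {F : Type u} [Field F]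

variable (ι F) in
/-- A matrix as an equivalence. -/
noncomputable def toV : GL ι F →* ((ι → F) ≃ₗ[F] (ι → F)) :=
  (LinearMap.GeneralLinearGroup.generalLinearEquiv F (ι → F)).toMonoidHom.comp
    Matrix.GeneralLinearGroup.toLin.toMonoidHom

theorem toV_apply (g : GL ι F) (v : ι → F) : toV ι F g v = (g : Matrix ι ι F) *ᵥ v := rfl

theorem toV_injective : Function.Injective (toV ι F) := fun g h e => by
  refine Units.ext (Matrix.toLin'.injective (LinearMap.ext fun v => ?_))
  exact congrArg (fun f : (ι → F) ≃ₗ[F] (ι → F) => f v) e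

theorem toV_surjective : Function.Surjective (toV ι F) := fun f =>
  ⟨(Matrix.GeneralLinearGroup.toLin).symm ((LinearMap.GeneralLinearGroup.generalLinearEquiv F (ι → F)).symm f), by
    simp [toV]⟩

theorem det_toV (g : GL ι F) : LinearMap.det (toV ι F g).toLinearMap = (g : Matrix ι ι F).det := by
  rw [show (toV ι F g).toLinearMap = Matrix.toLin' (g : Matrix ι ι F) from LinearMap.ext fun v => rfl,
    LinearMap.det_toLin']

theorem scalarGL_apply (c : Fˣ) (v : ι → F) : toV ι F (scalarGL ι F c) v = (c : F) • v := by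
  rw [toV_apply, scalarGL_coe, Matrix.smul_mulVec, Matrix.one_mulVec]

/-- The hypotheses on the group. -/
structure SType (R : Subgroup (GL ι F)) : Prop where
  two : (2 : F) ≠ 0
  irr : ActsAbsolutelyIrreducibly (matrixSet R)
  comm : ∀ x ∈ R, ∀ y ∈ R, x * y * x⁻¹ * y⁻¹ ∈ scalars ι F
  sq : ∀ g ∈ R, ∃ d : F, (d = 1 ∨ d = -1) ∧ ∀ v, toV ι F (g * g) v = d • v
  roots : ∀ c : Fˣ, c ^ 4 = 1 → scalarGL ι F c ∈ R
  center : Nat.card (Subgroup.center R) = 4

/-- A group of symplectic type and exponent four with a centre of order four. -/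
theorem SType.of [Fintype F] [Nonempty ι] {R : Subgroup (GL ι F)} (h2 : (2 : F) ≠ 0)
    (hR : IsSymplecticTypeGroup 2 R) (hirr : ActsAbsolutelyIrreducibly (matrixSet R))
    (hc : Nat.card (Subgroup.center R) = 4) : SType R ∧ ∃ i : Fˣ, (i : F) * i = -1 := by
  classical
  have hexp : ∀ x : R, x ^ 4 = 1 := fun x => by
    have := Monoid.exponent_dvd_iff_forall_pow_eq_one.mp (dvd_of_eq hR.exponent_eq) x
    simpa using this
  have hcomm := symplecticTypeGroup_comm hR hirr
  have hZ : ∀ z : R, z ∈ Subgroup.center R → ∃ c : Fˣ, c ^ 4 = 1 ∧ scalarGL ι F c = z := fun z hz => by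
    obtain ⟨c, hcz⟩ := mem_scalars_of_absIrr hirr (g := (z : GL ι F))
      fun w hw => (congrArg Subtype.val (Subgroup.mem_center_iff.mp hz ⟨w, hw⟩)).symm
    refine ⟨c, scalarGL_injective (ι := ι) ?_, hcz⟩
    rw [map_pow, map_one]
    show (scalarGL ι F c) ^ 4 = 1
    rw [show scalarGL ι F c = z from hcz, ← Subgroup.coe_pow, hexp, Subgroup.coe_one]
  choose f hf4 hfe using hZ
  let T := {c : Fˣ // c ^ 4 = 1}
  have hinj : Function.Injective fun z : Subgroup.center R => (⟨f z z.2, hf4 z z.2⟩ : T) := fun a b e => by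
    have e' : f a a.2 = f b b.2 := congrArg Subtype.val e
    exact Subtype.ext (Subtype.ext (by rw [← hfe a a.2, ← hfe b b.2, e']))
  have hTle : Nat.card T ≤ 4 := by
    have := card_rootsOfUnity (R := F) 4
    calc Nat.card T = Nat.card (rootsOfUnity 4 F) :=
          Nat.card_congr (Equiv.subtypeEquivRight fun c => (mem_rootsOfUnity 4 c).symm)
      _ ≤ 4 := by first | exact this | (rw [Nat.card_eq_fintype_card]; exact this)
  have hsur : Function.Surjective fun z : Subgroup.center R => (⟨f z z.2, hf4 z z.2⟩ : T) :=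
    ((Nat.bijective_iff_injective_and_card _).mpr ⟨hinj, le_antisymm
      (Nat.card_le_card_of_injective _ hinj) (hTle.trans hc.ge)⟩).surjective
  have hroots : ∀ c : Fˣ, c ^ 4 = 1 → scalarGL ι F c ∈ R := fun c h4 => by
    obtain ⟨z, hz⟩ := hsur ⟨c, h4⟩
    have e : f z z.2 = c := congrArg Subtype.val hz
    rw [← e, hfe z z.2]
    exact (z : R).2
  obtain ⟨i, hi⟩ : ∃ i : Fˣ, (i : F) * i = -1 := by
    by_contra hno
    push Not at hno
    have hsub : ∀ c : T, c.1 = 1 ∨ c.1 = -1 := fun ⟨c, h4⟩ => by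
      have h4' : ((c : F) * c) * (c * c) = 1 * 1 := by
        have := congrArg Units.val h4
        simp only [Units.val_pow_eq_pow_val, Units.val_one] at this
        linear_combination this
      rcases mul_self_eq_mul_self_iff.mp h4' with e | e
      · rcases mul_self_eq_one_iff.mp e with e | e
        · exact Or.inl (Units.ext e)
        · exact Or.inr (Units.ext (by simpa using e))
      · exact absurd e (hno c)
    have h2le : Nat.card T ≤ 2 := by
      refine (Nat.card_le_card_of_injective (fun c : T => decide (c.1 = 1)) fun a b e => ?_).trans (by simp)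
      simp only [decide_eq_decide] at e
      rcases hsub a with ha | ha <;> rcases hsub b with hb | hb
      · exact Subtype.ext (ha.trans hb.symm)
      · exact Subtype.ext (ha.trans (e.mp ha).symm)
      · exact Subtype.ext ((e.mpr hb).trans hb.symm)
      · exact Subtype.ext (ha.trans hb.symm)
    have h := Nat.card_le_card_of_injective _ hinj
    exact absurd (hc.symm.trans_le (h.trans h2le)) (by norm_num)
  refine ⟨⟨h2, hirr, hcomm, ?_, hroots, hc⟩, i, hi⟩
  have hm1 : scalarGL ι F (-1) ∈ R := hroots _ (by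
    apply Units.ext; simp; ring)
  have hsq := (LocalEven.SymConj.sq_small (T := R) ⟨hR.pGroup, hR.cyclic_of_characteristic⟩ hexp
    (ζ := ⟨_, hm1⟩) (fun q => Subtype.ext (scalars_commute (scalarGL_mem _) (q : GL ι F)).symm)
    (Subtype.ext (by
      show scalarGL ι F (-1) * scalarGL ι F (-1) = 1
      rw [← map_mul, show (-1 : Fˣ) * -1 = 1 from Units.ext (by simp), map_one]))
    (fun e => by
      have e' : scalarGL ι F (-1) = scalarGL ι F 1 := (congrArg Subtype.val e).trans (map_one _).symm
      have := congrArg Units.val (scalarGL_injective (ι := ι) e')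
      rw [Units.val_neg, Units.val_one] at this
      exact h2 (by linear_combination -this))).1
  intro g hg
  rcases hsq ⟨g, hg⟩ with e | e
  · refine ⟨1, Or.inl rfl, fun v => ?_⟩
    rw [show g * g = 1 from congrArg Subtype.val e, map_one, one_smul]; rfl
  · refine ⟨-1, Or.inr rfl, fun v => ?_⟩
    rw [show g * g = scalarGL ι F (-1) from congrArg Subtype.val e, scalarGL_apply]; simp

variable {R : Subgroup (GL ι F)}

/-- The frame of a group with scalar commutators and squares. -/
theorem exists_data_of [Fintype F] [Nonempty ι] (htwo : (2 : F) ≠ 0)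
    (hirr : ActsAbsolutelyIrreducibly (matrixSet R))
    (hcomm : ∀ x ∈ R, ∀ y ∈ R, x * y * x⁻¹ * y⁻¹ ∈ scalars ι F)
    (hsqR : ∀ g ∈ R, ∃ d : F, (d = 1 ∨ d = -1) ∧ ∀ v, toV ι F (g * g) v = d • v) :
    ∃ (A : Type u) (_ : AddCommGroup A) (_ : Finite A) (Φ : Data F (ι → F) A) (r : A → R),
      (∀ a, Φ.u a = toV ι F (r a : GL ι F)) ∧
      ∀ g ∈ R, ∃ (a : A) (c : F), ∀ v, toV ι F g v = c • Φ.u a v := by
  classical
  set Z := Subgroup.center R with hZd
  have hcent : ∀ x y : R, x * y * x⁻¹ * y⁻¹ ∈ Z := fun x y => Subgroup.mem_center_iff.mpr fun w =>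
    Subtype.ext (scalars_commute (hcomm x x.2 y y.2) (w : GL ι F)).symm
  have hscal : ∀ z : R, z ∈ Z → ∃ c : Fˣ, scalarGL ι F c = z := fun z hz =>
    mem_scalars_of_absIrr hirr (g := (z : GL ι F))
      fun w hw => (congrArg Subtype.val (Subgroup.mem_center_iff.mp hz ⟨w, hw⟩)).symm
  letI : CommGroup (R ⧸ Z) :=
    { (inferInstance : Group (R ⧸ Z)) with
      mul_comm := fun a b => by
        induction a using QuotientGroup.induction_on with | _ x => ?_
        induction b using QuotientGroup.induction_on with | _ y => ?_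
        rw [← QuotientGroup.mk_mul, ← QuotientGroup.mk_mul, QuotientGroup.eq, ← Subgroup.inv_mem_iff]
        refine Eq.mp (congrArg (· ∈ Z) ?_) (hcent x⁻¹ y⁻¹)
        group }
  let r : Additive (R ⧸ Z) → R := fun a => (Additive.toMul a).out
  have hr : ∀ a, ((r a : R) : R ⧸ Z) = Additive.toMul a := fun a => QuotientGroup.out_eq' _
  have hsame : ∀ (g : R) (a : Additive (R ⧸ Z)), (g : R ⧸ Z) = Additive.toMul a →
      ∃ c : Fˣ, ∀ v, toV ι F (g : GL ι F) v = (c : F) • toV ι F (r a : GL ι F) v := fun g a e => by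
    have h : (r a)⁻¹ * g ∈ Z := QuotientGroup.eq.mp ((hr a).trans e.symm)
    obtain ⟨c, hc⟩ := hscal _ h
    refine ⟨c, fun v => ?_⟩
    have e' : (g : GL ι F) = (r a : GL ι F) * scalarGL ι F c := by
      rw [hc, Subgroup.coe_mul, Subgroup.coe_inv, mul_inv_cancel_left]
    rw [e', map_mul, LinearEquiv.mul_apply, scalarGL_apply, map_smul]
  have hne : ∃ v : ι → F, v ≠ 0 := by
    obtain ⟨j⟩ := (inferInstance : Nonempty ι)
    exact ⟨Pi.single j 1, fun e => one_ne_zero (α := F) (by simpa using congrFun e j)⟩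
  have hpm : ∀ x y : R, ∃ ε : F, (ε = 1 ∨ ε = -1) ∧
      ∀ v, toV ι F (x : GL ι F) (toV ι F (y : GL ι F) v) = ε • toV ι F (y : GL ι F) (toV ι F (x : GL ι F) v) := by
    intro x y
    obtain ⟨c, hc⟩ := hcomm x x.2 y y.2
    have e : ∀ v, toV ι F (x : GL ι F) (toV ι F (y : GL ι F) v) =
        (c : F) • toV ι F (y : GL ι F) (toV ι F (x : GL ι F) v) := fun v => by
      have e1 : (x : GL ι F) * y = scalarGL ι F c * (y * x) := by
        rw [show scalarGL ι F c = (x : GL ι F) * y * (x : GL ι F)⁻¹ * (y : GL ι F)⁻¹ from hc]; group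
      have := congrArg (fun g => toV ι F g v) e1
      simpa [map_mul, scalarGL_apply] using this
    refine ⟨c, mul_self_eq_one_iff.mp ?_, e⟩
    obtain ⟨v, hv⟩ := hne
    have hxy : toV ι F (y : GL ι F) v ≠ 0 := fun h => hv ((LinearEquiv.map_eq_zero_iff _).mp h)
    have e2 := congrArg (toV ι F (x : GL ι F)) (e v)
    rw [map_smul, e (toV ι F (x : GL ι F) v), smul_smul] at e2
    have hsq : ∀ w, toV ι F (x : GL ι F) (toV ι F (x : GL ι F) w) = toV ι F ((x : GL ι F) * x) w := fun w => by
      rw [map_mul]; rfl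
    have hd := hsqR x x.2
    obtain ⟨d, hd1, hd⟩ := hd
    rw [hsq, hsq, hd, hd, map_smul, smul_smul] at e2
    have hd0 : d ≠ 0 := by rcases hd1 with rfl | rfl <;> simp
    refine mul_right_cancel₀ hd0 ?_
    rw [one_mul]
    exact (smul_left_injective F hxy e2).symm
  let sgf : Additive (R ⧸ Z) → Additive (R ⧸ Z) → F := fun a b => Classical.choose (hpm (r a) (r b))
  have hsg := fun a b => Classical.choose_spec (hpm (r a) (r b))
  have hdim : finrank F (ι → F) ^ 2 = Nat.card (Additive (R ⧸ Z)) := by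
    have h1 := card_sq_of_scalar_commutators hirr hcomm
    rw [Subgroup.card_eq_card_quotient_mul_card_subgroup Z] at h1
    rw [Module.finrank_fintype_fun_eq_card]
    exact Nat.eq_of_mul_eq_mul_right (Nat.card_pos (α := Z)) h1
  haveI : Finite (Additive (R ⧸ Z)) := inferInstanceAs (Finite (R ⧸ Z))
  refine ⟨Additive (R ⧸ Z), inferInstance, inferInstance,
    { u := fun a => toV ι F (r a : GL ι F)
      sg := sgf
      two := htwo
      elem := fun a => ?_
      mul := fun a b => ?_
      sign := fun a b => (hsg a b).1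
      comm := fun a b v => (hsg a b).2 v
      nd := fun a ha => ?_
      dim := hdim }, r, fun a => rfl, fun g hg => ?_⟩
  · obtain ⟨x, hx⟩ : ∃ x, x = r a := ⟨_, rfl⟩
    have hz : x * x ∈ Z := Subgroup.mem_center_iff.mpr fun w => Subtype.ext (toV_injective (LinearEquiv.ext fun v => by
      show toV ι F ((w : GL ι F) * (x * x : R)) v = toV ι F (((x * x : R) : GL ι F) * w) v
      rw [map_mul, map_mul, LinearEquiv.mul_apply, LinearEquiv.mul_apply, Subgroup.coe_mul]
      obtain ⟨ε, hε, he⟩ := hpm x w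
      simp only [map_mul, LinearEquiv.mul_apply, he, map_smul, smul_smul]
      rcases hε with rfl | rfl <;> simp))
    apply Additive.toMul.injective
    show Additive.toMul a * Additive.toMul a = 1
    rw [← hr, ← hx, ← QuotientGroup.mk_mul, QuotientGroup.eq_one_iff]
    exact hz
  · obtain ⟨c, hc⟩ := hsame (r a * r b) (a + b) (by rw [QuotientGroup.mk_mul, hr, hr]; rfl)
    refine ⟨c, fun v => ?_⟩
    rw [← hc, Subgroup.coe_mul, map_mul]
    rfl
  · by_contra hno
    push Not at hno
    apply ha
    apply Additive.toMul.injective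
    rw [← hr a, toMul_zero, QuotientGroup.eq_one_iff]
    refine Subgroup.mem_center_iff.mpr fun w => Subtype.ext (toV_injective (LinearEquiv.ext fun v => ?_))
    show toV ι F ((w : GL ι F) * (r a : R)) v = toV ι F ((r a : GL ι F) * w) v
    obtain ⟨c, hc⟩ := hsame w (Additive.ofMul (w : R ⧸ Z)) rfl
    have e := (hsg a (Additive.ofMul (w : R ⧸ Z))).2 v
    rcases (hsg a (Additive.ofMul (w : R ⧸ Z))).1 with e' | e'
    · rw [e', one_smul] at e
      simp only [map_mul, LinearEquiv.mul_apply, hc, map_smul, e]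
    · exact absurd e' (hno _)
  · obtain ⟨c, hc⟩ := hsame ⟨g, hg⟩ (Additive.ofMul ((⟨g, hg⟩ : R) : R ⧸ Z)) rfl
    exact ⟨_, c, hc⟩

/-- The frame of the group. -/
theorem SType.exists_data [Fintype F] [Nonempty ι] (hS : SType R) :
    ∃ (A : Type u) (_ : AddCommGroup A) (_ : Finite A) (Φ : Data F (ι → F) A) (r : A → R),
      (∀ a, Φ.u a = toV ι F (r a : GL ι F)) ∧
      ∀ g ∈ R, ∃ (a : A) (c : F), ∀ v, toV ι F g v = c • Φ.u a v :=
  exists_data_of hS.two hS.irr hS.comm hS.sq

end Cfsg.Agent.Classical.Frame
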