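/-
From groups of matrices containing the normaliser to the dichotomy, in dimension eight.
-/
import Cfsg.Agent.Lib.Classical.Frame.FromGroup

set_option autoImplicit false
set_option linter.unusedSectionVars false

namespace Cfsg.Agent.Classical.Frame

open Module Matrix Cfsg.Geo

universe u

variable {ι : Type} [Fintype ι] [DecidableEq ι] {F : Type u} [Field F] [Fintype F]
  {R : Subgroup (GL ι F)} {A : Type u} [AddCommGroup A] [Finite A] {Φ : Data F (ι → F) A} {r : A → R}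

theorem mem_normalizer_of {g : GL ι F} (h : ∀ x ∈ R, g * x * g⁻¹ ∈ R) : g ∈ subgroupNormalizer R := by
  refine Subgroup.mem_normalizer_iff.mpr fun x => ⟨h x, fun hx => ?_⟩
  have e : R.map (MulAut.conj g).toMonoidHom = R := by
    refine Subgroup.eq_of_le_of_card_ge ?_ (le_of_eq ?_)
    · rintro _ ⟨y, hy, rfl⟩
      exact h y hy
    · exact (Subgroup.card_map_of_injective (MulAut.conj g).injective).symm
  rw [← e] at hx
  obtain ⟨y, hy, hye⟩ := hx
  exact (MulAut.conj g).injective hye ▸ hy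

/-- What is needed of the frame. -/
structure OfGroup (R : Subgroup (GL ι F)) (Φ : Data F (ι → F) A) (r : A → R) : Prop where
  stype : SType R
  eq : ∀ a, Φ.u a = toV ι F (r a : GL ι F)
  cover : ∀ g ∈ R, ∃ (a : A) (c : F), ∀ v, toV ι F g v = c • Φ.u a v

theorem OfGroup.sq (h : OfGroup R Φ r) (a : A) :
    ∃ d : F, (d = 1 ∨ d = -1) ∧ ∀ v, Φ.u a (Φ.u a v) = d • v := by
  obtain ⟨d, hd, e⟩ := h.stype.sq _ (r a).2
  exact ⟨d, hd, fun v => by rw [h.eq, ← LinearEquiv.mul_apply, ← map_mul, e]⟩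

/-- The group of the projective images. -/
noncomputable def imgG (M : Subgroup (GL ι F)) : Subgroup (PG F (ι → F)) := (M.map (toV ι F)).map (pr F (ι → F))

/-- A lifted transvection of determinant one normalising the group. -/
theorem OfGroup.exists_single (h : OfGroup R Φ r) (hι : Fintype.card ι = 8) {i : F} (hi : i * i = -1) {z : A}
    (hz : z ≠ 0) : ∃ (T : GL ι F) (ζ : F), T ∈ subgroupNormalizer R ∧ T ∈ specialLinear ι F ∧
      (∀ v, ζ • Φ.u z (ζ • Φ.u z v) = -v) ∧ (ζ = i ∧ (∀ v, Φ.u z (Φ.u z v) = v) ∨ ζ = 1 ∧ ∀ v, Φ.u z (Φ.u z v) = -v) ∧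
      ∀ v, toV ι F T v = (1 + i)⁻¹ • (v + ζ • Φ.u z v) := by
  obtain ⟨ζ, s, hcase, hζs, hs⟩ : ∃ ζ s : F, (ζ = i ∧ (∀ v, Φ.u z (Φ.u z v) = v) ∨
      ζ = 1 ∧ ∀ v, Φ.u z (Φ.u z v) = -v) ∧ ζ * s = i ∧ ∀ v, Φ.u z (Φ.u z v) = (s * s) • v := by
    obtain ⟨d, hd, hdv⟩ := h.sq z
    rcases hd with rfl | rfl
    · exact ⟨i, 1, Or.inl ⟨rfl, fun v => by rw [hdv, one_smul]⟩, mul_one i, fun v => by rw [hdv, one_mul]⟩
    · exact ⟨1, i, Or.inr ⟨rfl, fun v => by rw [hdv, neg_one_smul]⟩, one_mul i, fun v => by rw [hdv, hi]⟩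
  have hζ4 : ζ ^ 4 = 1 := by
    rcases hcase with ⟨e, -⟩ | ⟨e, -⟩ <;> rw [e]
    · linear_combination (i * i - 1) * hi
    · exact one_pow 4
  have hs0 : s ≠ 0 := fun e => by simp [e] at hζs; simp [← hζs] at hi
  have hsq' : ∀ v, ζ • Φ.u z (ζ • Φ.u z v) = -v := fun v => by
    rw [map_smul, smul_smul, hs, smul_smul, show ζ * ζ * (s * s) = -1 by linear_combination (ζ * s + i) * hζs + hi,
      neg_one_smul]
  have hs' : ∀ v, Φ.u z (Φ.u z v) = (-s * -s) • v := fun v => by rw [neg_mul_neg]; exact hs v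
  obtain ⟨L, hL⟩ : ∃ L : End F (ι → F), L = (1 + i)⁻¹ • (1 + ζ • Φ.m z) := ⟨_, rfl⟩
  have hLv : ∀ v, L v = (1 + i)⁻¹ • (v + ζ • Φ.u z v) := fun v => by rw [hL]; rfl
  have hi1 : (1 : F) + i ≠ 0 := fun e => Φ.two (by linear_combination (1 - i) * e + hi)
  -- its determinant
  obtain ⟨y, hy⟩ := Φ.nd z hz
  have hc : IsCompl (Φ.eig z s) (Φ.eig z (-s)) := by
    refine ⟨Submodule.disjoint_def.mpr fun v h1 h2 => ?_, codisjoint_iff.mpr ?_⟩
    · rw [Φ.mem_eig] at h1 h2
      have h3 : (2 * s) • v = 0 := by linear_combination (norm := module) h2 - h1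
      exact (smul_eq_zero.mp h3).resolve_left (mul_ne_zero Φ.two hs0)
    · refine Submodule.eq_top_iff'.mpr fun v => ?_
      obtain ⟨a, ha, b, hb, e⟩ := Geom.decomp hs0 hs v
      exact Submodule.mem_sup.mpr ⟨a, ha, b, hb, e.symm⟩
  have hdet : LinearMap.det L = 1 := by
    let e := Submodule.prodEquivOfIsCompl _ _ hc
    have he : L = e.toLinearMap ∘ₗ LinearMap.prodMap (((1 + i)⁻¹ * (1 + i)) • (LinearMap.id : Φ.eig z s →ₗ[F] Φ.eig z s))
        (((1 + i)⁻¹ * (1 - i)) • (LinearMap.id : Φ.eig z (-s) →ₗ[F] Φ.eig z (-s))) ∘ₗ e.symm.toLinearMap :=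
      LinearMap.ext fun v => by
        obtain ⟨⟨a, b⟩, rfl⟩ := e.surjective v
        rw [LinearMap.comp_apply, LinearMap.comp_apply, LinearEquiv.coe_coe, LinearEquiv.coe_coe, e.symm_apply_apply,
          LinearMap.prodMap_apply, LinearMap.smul_apply, LinearMap.smul_apply, LinearMap.id_apply, LinearMap.id_apply,
          Submodule.coe_prodEquivOfIsCompl', Submodule.coe_prodEquivOfIsCompl', hLv, map_add,
          Φ.mem_eig.mp a.2, Φ.mem_eig.mp b.2]
        simp only [SetLike.val_smul]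
        match_scalars <;> first | linear_combination (1 + i)⁻¹ * hζs | linear_combination -(1 + i)⁻¹ * hζs
    rw [he, LinearMap.det_conj, LinearMap.det_prodMap, LinearMap.det_smul, LinearMap.det_id, LinearMap.det_smul,
      LinearMap.det_id, mul_one, mul_one]
    have h1 := Data.finrank_eig hy hs0 hs
    have h2 := Data.finrank_eig hy (neg_ne_zero.mpr hs0) hs'
    rw [Module.finrank_fintype_fun_eq_card, hι] at h1 h2
    rw [show finrank F (Φ.eig z s) = 4 by omega, show finrank F (Φ.eig z (-s)) = 4 by omega]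
    field_simp
    linear_combination (-8 * i) * 1 * hi
  obtain ⟨T, hT⟩ := toV_surjective (F := F) (LinearEquiv.ofIsUnitDet
    (v := Module.finBasis F (ι → F)) (v' := Module.finBasis F (ι → F)) (f := L)
    (by rw [LinearMap.det_toMatrix, hdet]; exact isUnit_one))
  have hTv : ∀ v, toV ι F T v = (1 + i)⁻¹ • (v + ζ • Φ.u z v) := fun v => by
    rw [hT, ← hLv]; rfl
  refine ⟨T, ζ, mem_normalizer_of fun x hx => ?_, ?_, hsq', hcase, hTv⟩
  · -- it normalises the group
    obtain ⟨c, hc'⟩ := h.stype.comm _ (r z).2 x hx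
    obtain ⟨a, d, hxa⟩ := h.cover x hx
    rcases Φ.sign z a with hsg | hsg
    · have e : T * x * T⁻¹ = x := by
        rw [mul_inv_eq_iff_eq_mul]
        refine toV_injective (LinearEquiv.ext fun v => ?_)
        simp only [map_mul, LinearEquiv.mul_apply, hTv, hxa, map_smul, map_add, Φ.comm z a, hsg]
        module
      rwa [e]
    · have hζu : ζ ≠ 0 := fun e => by simp [e] at hζ4
      have e : T * x * T⁻¹ = scalarGL ι F (Units.mk0 ζ hζu) * (r z : GL ι F) * x := by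
        rw [mul_inv_eq_iff_eq_mul]
        refine toV_injective (LinearEquiv.ext fun v => ?_)
        simp only [map_mul, LinearEquiv.mul_apply, hTv, hxa, ← h.eq, scalarGL_apply, Units.val_mk0, map_smul, map_add,
          Φ.comm a z, Φ.sg_symm z a, hsg]
        have e2 : (ζ * ζ) • Φ.u z (Φ.u z (Φ.u a v)) = -Φ.u a v := by
          rw [mul_smul, ← map_smul]; exact hsq' _
        linear_combination (norm := module) ((1 + i)⁻¹ * d) • e2
      rw [e]
      exact R.mul_mem (R.mul_mem (h.stype.roots _ (Units.ext (by simpa using hζ4))) (r z).2) hx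
  · rw [mem_specialLinear_iff, ← det_toV, show (toV ι F T).toLinearMap = L from LinearMap.ext fun v => by
      show toV ι F T v = L v
      rw [hTv, hLv]]
    exact hdet

theorem OfGroup.full (h : OfGroup R Φ r) (hι : Fintype.card ι = 8) {i : F} (hi : i * i = -1)
    {M : Subgroup (GL ι F)} (hM : ∀ z ≠ 0, ∀ (T : GL ι F) (ζ : F), T ∈ subgroupNormalizer R →
      T ∈ specialLinear ι F → (ζ = i ∧ (∀ v, Φ.u z (Φ.u z v) = v) ∨ ζ = 1 ∧ ∀ v, Φ.u z (Φ.u z v) = -v) →
      (∀ v, toV ι F T v = (1 + i)⁻¹ • (v + ζ • Φ.u z v)) → T ∈ M) : Φ.Full (imgG M) := by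
  have hsingle : ∀ z ≠ 0, Φ.Single (imgG M) z := fun z hz => by
    obtain ⟨T, ζ, h1, h2, hsq, hcase, hT⟩ := h.exists_single hι hi hz
    have hi1 : (1 : F) + i ≠ 0 := fun e => Φ.two (by linear_combination (1 - i) * e + hi)
    let t : (ι → F) ≃ₗ[F] (ι → F) := LinearEquiv.smulOfUnit (Units.mk0 _ hi1) * toV ι F T
    have ht : ∀ v, t v = v + ζ • Φ.u z v := fun v => by
      show (1 + i) • toV ι F T v = _
      rw [hT, smul_inv_smul₀ hi1]
    refine ⟨t, ⟨ζ, hsq, ht⟩, ?_⟩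
    rw [show pr F (ι → F) t = pr F (ι → F) (toV ι F T) from pr_eq_pr.mpr ⟨(1 + i)⁻¹, fun v => by
      rw [ht, hT]⟩]
    exact ⟨_, ⟨T, hM z hz T ζ h1 h2 hcase hT, rfl⟩, rfl⟩
  refine ⟨?_, hsingle⟩
  rintro _ ⟨a, rfl⟩
  rcases eq_or_ne a 0 with rfl | ha
  · rw [Φ.e_zero]; exact one_mem _
  · obtain ⟨t, ⟨ζ, h1, h2⟩, htG⟩ := hsingle a ha
    rw [show Φ.e a = pr F (ι → F) t * pr F (ι → F) t by
      rw [← map_mul, Data.e, pr_eq_pr]
      refine ⟨2 * ζ, fun v => ?_⟩
      rw [LinearEquiv.mul_apply, h2, h2, map_add, smul_add, h1]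
      module]
    exact mul_mem htG htG

theorem OfGroup.le_normalizer (h : OfGroup R Φ r) [Nonempty ι] {M : Subgroup (GL ι F)} (hN : imgG M ≤ Φ.N) :
    M ≤ subgroupNormalizer R := fun g hg => mem_normalizer_of fun x hx => by
  obtain ⟨a, d, hxa⟩ := h.cover x hx
  obtain ⟨b, hb⟩ := Φ.conj_of_mem_N (hN ⟨_, ⟨g, hg, rfl⟩, rfl⟩) a
  obtain ⟨c, hc⟩ := pr_conj.mp hb
  have hne : ∃ v : ι → F, v ≠ 0 := Φ.exists_ne
  obtain ⟨v0, hv0⟩ := hne
  have hd : d ≠ 0 := fun e => hv0 ((LinearEquiv.map_eq_zero_iff (toV ι F x)).mp (by rw [hxa, e, zero_smul]))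
  have hc0 : c ≠ 0 := fun e => hv0 ((LinearEquiv.map_eq_zero_iff (Φ.u a)).mp
    ((LinearEquiv.map_eq_zero_iff (toV ι F g)).mp (by rw [hc, e, zero_smul])))
  obtain ⟨k, hk⟩ : ∃ k, k = Units.mk0 (d * c) (mul_ne_zero hd hc0) := ⟨_, rfl⟩
  have e : g * x * g⁻¹ = scalarGL ι F k * (r b : GL ι F) := by
    rw [mul_inv_eq_iff_eq_mul]
    refine toV_injective (LinearEquiv.ext fun v => ?_)
    simp only [map_mul, LinearEquiv.mul_apply, hxa, map_smul, hc, ← h.eq, scalarGL_apply, hk, Units.val_mk0, smul_smul]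
  rw [e]
  refine R.mul_mem (h.stype.roots _ ?_) (r b).2
  have h4 : ∀ y ∈ R, y * y * (y * y) = 1 := fun y hy => by
    obtain ⟨e, he, hev⟩ := h.stype.sq y hy
    refine toV_injective (LinearEquiv.ext fun v => ?_)
    rw [map_mul, LinearEquiv.mul_apply, hev, hev, smul_smul, map_one]
    rcases he with rfl | rfl <;> simp
  have hkk : scalarGL ι F k = g * x * g⁻¹ * (r b : GL ι F)⁻¹ := by rw [e, mul_inv_cancel_right]
  have hcomm : Commute (scalarGL ι F k) (r b : GL ι F) := scalars_commute (scalarGL_mem k) _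
  have h1 : (g * x * g⁻¹) ^ 4 = 1 := by
    rw [conj_pow, show x ^ 4 = x * x * (x * x) by simp [pow_succ, mul_assoc], h4 x hx, mul_one, mul_inv_cancel]
  rw [e, hcomm.mul_pow, ← map_pow, show (r b : GL ι F) ^ 4 = (r b : GL ι F) * r b * (r b * r b) by
    simp [pow_succ, mul_assoc], h4 _ (r b).2, mul_one, ← map_one (scalarGL ι F)] at h1
  exact scalarGL_injective (ι := ι) h1

/-- An element of the special group projectively in the image lies in the group. -/
theorem mem_of_img {S M : Subgroup (GL ι F)} (hle : subgroupNormalizer R ⊓ S ≤ M) (hMS : M ≤ S) {T : GL ι F}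
    (hT : T ∈ S) (h : pr F (ι → F) (toV ι F T) ∈ imgG M) [Nonempty ι] : T ∈ M := by
  obtain ⟨_, ⟨m, hm, rfl⟩, e⟩ := h
  obtain ⟨c, hc⟩ := pr_eq_pr.mp e
  have hc0 : c ≠ 0 := by
    rintro rfl
    obtain ⟨j⟩ := (inferInstance : Nonempty ι)
    have := (LinearEquiv.map_eq_zero_iff (toV ι F T)).mp
      (show toV ι F T (Pi.single j (1 : F)) = 0 by rw [hc, zero_smul])
    simpa using congrFun this j
  have e1 : T = scalarGL ι F (Units.mk0 c hc0) * m := toV_injective (LinearEquiv.ext fun v => by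
    rw [map_mul, LinearEquiv.mul_apply, scalarGL_apply, Units.val_mk0, hc])
  rw [e1]
  refine M.mul_mem (hle ⟨mem_normalizer_of fun x hx => ?_, ?_⟩) hm
  · rwa [scalars_commute (scalarGL_mem _) x, mul_inv_cancel_right]
  · have := S.mul_mem hT (S.inv_mem (hMS hm))
    rwa [e1, mul_inv_cancel_right] at this

/-- A transvection does not normalise the group. -/
theorem OfGroup.not_normalizes (h : OfGroup R Φ r) (hι : Fintype.card ι = 8) (hr : Φ.Roots) {T : GL ι F} {a0 : ι → F}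
    {φ : (ι → F) →ₗ[F] F} (hT : ∀ v, toV ι F T v = v + φ v • a0) (ha0 : a0 ≠ 0) (hφ : φ ≠ 0)
    (hTN : T ∈ subgroupNormalizer R) : False := by
  have hdim : finrank F (ι → F) = 8 := by rw [Module.finrank_fintype_fun_eq_card, hι]
  have hker : ∀ (ψ : (ι → F) →ₗ[F] F × F), 6 ≤ finrank F (LinearMap.ker ψ) := fun ψ => by
    have h1 := LinearMap.finrank_range_add_finrank_ker ψ
    have h2 : finrank F (LinearMap.range ψ) ≤ 2 :=
      (Submodule.finrank_le _).trans (by rw [Module.finrank_prod, Module.finrank_self])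
    omega
  have hcomm : ∀ a v, toV ι F T (Φ.u a v) = Φ.u a (toV ι F T v) := by
    intro a
    obtain ⟨b, c, hb⟩ := h.cover _ ((Subgroup.mem_normalizer_iff.mp hTN (r a : GL ι F)).mp (r a).2)
    have hTu : ∀ v, toV ι F T (Φ.u a v) = c • Φ.u b (toV ι F T v) := fun v => by
      rw [← hb, h.eq, ← LinearEquiv.mul_apply, ← LinearEquiv.mul_apply, ← map_mul, ← map_mul,
        show T * (r a : GL ι F) * T⁻¹ * T = T * r a by group]
    obtain ⟨ψ, hψ⟩ : ∃ ψ : (ι → F) →ₗ[F] F × F, ψ = φ.prod (φ ∘ₗ Φ.m a) := ⟨_, rfl⟩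
    have hP : ∀ v ∈ LinearMap.ker ψ, Φ.u a v = c • Φ.u b v := by
      intro v hv
      rw [hψ, LinearMap.mem_ker] at hv
      replace hv : φ v = 0 ∧ φ (Φ.u a v) = 0 := ⟨congrArg Prod.fst hv, congrArg Prod.snd hv⟩
      have e := hTu v
      rw [hT, show φ (Φ.u a v) = 0 from hv.2, zero_smul, add_zero, hT, hv.1, zero_smul, add_zero] at e
      exact e
    obtain ⟨w, hw, hw0⟩ := Submodule.exists_mem_ne_zero_of_ne_bot (p := LinearMap.ker ψ) fun e => by
      have := hker ψ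
      rw [e, finrank_bot] at this
      omega
    rcases eq_or_ne a b with e | hne
    · subst e
      have hc1 : c = 1 := smul_left_injective F (fun e => hw0 ((LinearEquiv.map_eq_zero_iff _).mp e))
        (show c • Φ.u a w = (1 : F) • Φ.u a w by rw [← hP w hw, one_smul])
      intro v
      rw [hTu, hc1, one_smul]
    exfalso
    obtain ⟨m, hm⟩ := Φ.mul a b
    obtain ⟨d, hd0, hd⟩ := Φ.sq a
    have hm0 := Φ.mul_ne hm
    have hc0 : c ≠ 0 := fun e => hw0 ((Φ.u a).map_eq_zero_iff.mp (by rw [hP w hw, e, zero_smul]))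
    have hle : LinearMap.ker ψ ≤ Φ.eig (a + b) (d / (c * m)) := fun v hv => by
      rw [Φ.mem_eig]
      have e := congrArg (Φ.u a) (hP v hv)
      rw [hd, map_smul, hm, smul_smul] at e
      rw [div_eq_inv_mul, mul_smul, e, inv_smul_smul₀ (mul_ne_zero hc0 hm0)]
    have hwe := hle hw
    obtain ⟨hs0, hs⟩ := Geom.root_of_mem hwe hw0
    obtain ⟨y, hy⟩ := Φ.nd (a + b) (Φ.add_ne_zero hne)
    have h2 := Data.finrank_eig hy hs0 hs
    have h3 := Submodule.finrank_mono hle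
    have h4 := hker ψ
    omega
  obtain ⟨k, hk⟩ := Φ.commutant (toV ι F T).toLinearMap hcomm
  have hk' : ∀ v, toV ι F T v = k • v := hk
  obtain ⟨w, hw, hw0⟩ := Submodule.exists_mem_ne_zero_of_ne_bot (p := LinearMap.ker (φ.prod φ)) fun e => by
    have := hker (φ.prod φ)
    rw [e, finrank_bot] at this
    omega
  rw [LinearMap.mem_ker] at hw
  replace hw : φ w = 0 ∧ φ w = 0 := ⟨congrArg Prod.fst hw, congrArg Prod.snd hw⟩
  have hk1 : k = 1 := smul_left_injective F hw0 (show k • w = (1 : F) • w by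
    rw [← hk', hT, hw.1, zero_smul, add_zero, one_smul])
  refine hφ (LinearMap.ext fun v => ?_)
  have e := hk' v
  rw [hT, hk1, one_smul, add_eq_left, smul_eq_zero] at e
  exact e.resolve_right ha0

end Cfsg.Agent.Classical.Frame
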