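/-
The normalisers of symplectic-type 2-groups in the special linear and unitary groups of dimension eight are
maximal.
-/
import Cfsg.Agent.Lib.Classical.Frame.Glue
import Cfsg.Agent.Lib.Classical.UnitaryOvergroup

set_option autoImplicit false
set_option linter.unusedSectionVars false

namespace Cfsg.Agent.Classical.Frame

open Module Matrix Cfsg.Geo

universe u

variable {F : Type u} [Field F] [Fintype F]

theorem natCast_of_pow_eq (p : ℕ) [hp : Fact p.Prime] [CharP F p] {c : F} (h : c ^ p = c) :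
    ∃ n : ℕ, (n : F) = c := by
  letI := ZMod.algebra F p
  have hc : c ∈ (⊥ : Subfield F) := (Subfield.mem_bot_iff_pow_eq_self (F := F) (p := p)).mpr h
  rw [Subfield.bot_eq_of_zMod_algebra p, RingHom.mem_fieldRange] at hc
  obtain ⟨z, rfl⟩ := hc
  exact ⟨z.val, by rw [← map_natCast (algebraMap (ZMod p) F), ZMod.natCast_zmod_val]⟩

theorem charP_of_card_pow {p k : ℕ} (hp : p.Prime) (hk : k ≠ 0) (hc : Fintype.card F = p ^ k) : CharP F p := by
  obtain ⟨r, hr⟩ := CharP.exists F
  obtain ⟨⟨m, hm⟩, hrp, hcard⟩ := FiniteField.card F r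
  change Fintype.card F = r ^ m at hcard
  have hd : r ∣ p ^ k := by rw [← hc, hcard]; exact dvd_pow_self r hm.ne'
  rw [← (Nat.prime_dvd_prime_iff_eq hrp hp).mp (hrp.dvd_of_dvd_pow hd)]
  exact hr

variable {R : Subgroup (GL (Fin 8) F)} {A : Type u} [AddCommGroup A] [Finite A]
  {Φ : Data F (Fin 8 → F) A} {r : A → R}

/-- Maximality from the dichotomy. -/
theorem OfGroup.isMaximal (h : OfGroup R Φ r) {i : F} (hi : i * i = -1) {S : Subgroup (GL (Fin 8) F)}
    (hT : ∀ z ≠ 0, ∀ (T : GL (Fin 8) F) (ζ : F), T ∈ subgroupNormalizer R → T ∈ specialLinear (Fin 8) F →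
      (ζ = i ∧ (∀ v, Φ.u z (Φ.u z v) = v) ∨ ζ = 1 ∧ ∀ v, Φ.u z (Φ.u z v) = -v) →
      (∀ v, toV (Fin 8) F T v = (1 + i)⁻¹ • (v + ζ • Φ.u z v)) → T ∈ S)
    (B : Geom F (Fin 8 → F)) (hC : B.Compat Φ) (hiN : B.IsHerm → i * B.σ i = 1)
    (hS : ∀ g ∈ S, B.Isom (toV (Fin 8) F g))
    (hgen : ∀ M : Subgroup (GL (Fin 8) F), subgroupNormalizer R ⊓ S ≤ M → M ≤ S → B.Big (imgG M) → S ≤ M)
    (htr : ∃ (T : GL (Fin 8) F) (a : Fin 8 → F) (φ : (Fin 8 → F) →ₗ[F] F), T ∈ S ∧ a ≠ 0 ∧ φ ≠ 0 ∧
      ∀ v, toV (Fin 8) F T v = v + φ v • a) :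
    IsMaximalIn S (subgroupNormalizer R ⊓ S) := by
  have hfull : ∀ M, subgroupNormalizer R ⊓ S ≤ M → Φ.Full (imgG M) := fun M hle =>
    h.full (Fintype.card_fin 8) hi fun z hz T ζ h1 h2 hcase hv => hle ⟨h1, hT z hz T ζ h1 h2 hcase hv⟩
  refine ⟨lt_of_le_not_ge inf_le_right fun hSN => ?_, fun M hle hM => ?_⟩
  · obtain ⟨T, a, φ, hTS, ha, hφ, hTv⟩ := htr
    exact h.not_normalizes (Fintype.card_fin 8) (Φ.roots_of_single (hfull _ le_rfl).single hi) hTv ha hφ (hSN hTS).1
  have hP : B.Pres (imgG M) := by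
    intro g hg
    obtain ⟨_, ⟨m, hm, rfl⟩, e⟩ := hg
    obtain ⟨c, hc⟩ := pr_eq_pr.mp e
    have hc0 : c ≠ 0 := by
      rintro rfl
      have := g.map_eq_zero_iff.mp (show g (Pi.single 0 (1 : F)) = 0 by rw [hc, zero_smul])
      simpa using congrFun this 0
    refine ⟨c * B.σ c, mul_ne_zero hc0 ((map_ne_zero B.σ).mpr hc0), fun v w => ?_⟩
    rw [hc, hc, B.smul_left, B.smul_right, hS m (hM hm) v w, mul_assoc]
  have h4 : 4 ≤ Nat.card A := by
    rw [← Φ.dim, Module.finrank_fintype_fun_eq_card, Fintype.card_fin]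
    norm_num
  rcases Geom.dichotomy (hfull M hle) hC hP h4 hi hiN with hN | hBig
  · exact Or.inl (le_antisymm (le_inf (h.le_normalizer hN) hM) hle)
  · exact Or.inr (le_antisymm hM (hgen M hle hM hBig))

omit r Φ in
/-- The linear case: a prime field. -/
theorem isMaximal_sl_eight {p : ℕ} (hp : p.Prime) (hc : Fintype.card F = p) (h4 : p % 4 = 1)
    (hR : IsLinearSymplecticTypeData 2 R) :
    IsMaximalIn (specialLinear (Fin 8) F) (subgroupNormalizer R ⊓ specialLinear (Fin 8) F) := by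
  have h2 : (2 : F) ≠ 0 := two_ne_zero_of_odd_card (by rw [hc]; exact Nat.odd_iff.mpr (by omega))
  have hcen : Nat.card (Subgroup.center R) = 4 := by
    obtain ⟨q, e, -, -, h | h | h⟩ := hR.field
    · exact absurd h.1 (by decide)
    · exact h.2.2.1
    · exact absurd h.2.2.1 (by simp)
  obtain ⟨hst, i, hi⟩ := SType.of h2 hR.symplecticType hR.absIrred hcen
  obtain ⟨A, _, _, Φ, r, heq, hcov⟩ := hst.exists_data
  haveI := Fact.mk hp
  haveI : CharP F p := charP_of_card_pow hp one_ne_zero (by rw [pow_one, hc])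
  let B : Geom F (Fin 8 → F) :=
    { σ := RingEquiv.refl F
      f := fun _ _ => 0
      add_left := fun _ _ _ => (add_zero 0).symm
      smul_left := fun _ _ _ => (mul_zero _).symm
      herm := fun _ _ => rfl
      invol := fun _ => rfl
      kind := Or.inl ⟨fun _ _ => rfl, fun c => natCast_of_pow_eq p (by rw [← hc]; exact FiniteField.pow_card c)⟩ }
  have hnH : ¬ B.IsHerm := fun hH => by
    obtain ⟨c, hc⟩ := hH.2.1
    exact hc rfl
  have hZ : B.IsZero := B.cases.resolve_right hnH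
  refine OfGroup.isMaximal ⟨hst, heq, hcov⟩ hi (fun _ _ _ _ _ h _ _ => h) B
    (fun a => ⟨B.isom_of_zero hZ _, fun hH => absurd hH hnH⟩) (fun hH => absurd hH hnH)
    (fun g _ => B.isom_of_zero hZ _) (fun M hle hM hBig => ?_) ?_
  · refine (specialLinear_le_iff M).mpr fun j k hjk c => mem_of_img hle hM (transGL_mem hjk c) ?_
    refine hBig _ (Pi.single j 1) (c • LinearMap.proj k) (fun v => ?_) ?_ (B.isom_of_zero hZ _)
    · rw [toV_apply, transGL_mulVec, LinearMap.smul_apply, LinearMap.proj_apply, ← Pi.single_smul, smul_eq_mul,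
        smul_eq_mul, mul_one]
    · simp [hjk.symm]
  · have h01 : (0 : Fin 8) ≠ 1 := by decide
    refine ⟨transGL h01 1, Pi.single 0 1, LinearMap.proj 1, transGL_mem h01 1, fun e => ?_, fun e => ?_, fun v => ?_⟩
    · simpa using congrFun e 0
    · simpa using LinearMap.congr_fun e (Pi.single 1 1)
    · rw [toV_apply, transGL_mulVec, LinearMap.proj_apply, ← Pi.single_smul, smul_eq_mul, mul_one, one_mul]

omit r Φ in
/-- The unitary case: a quadratic extension of a prime field. -/
theorem isMaximal_su_eight {p : ℕ} (hp : p.Prime) (hF : Fintype.card F = p ^ 2) (h4 : p % 4 = 3)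
    (hR : IsSymplecticTypeGroup 2 R) (hirr : ActsAbsolutelyIrreducibly (matrixSet R)) (hU : R ≤ Cfsg.GU 8 F p)
    (hcen : Nat.card (Subgroup.center R) = 4) :
    IsMaximalIn (Cfsg.GU 8 F p ⊓ specialLinear (Fin 8) F)
      (subgroupNormalizer R ⊓ (Cfsg.GU 8 F p ⊓ specialLinear (Fin 8) F)) := by
  obtain ⟨-, -, σ, -, -, -, -, hσ⟩ := exists_usigma hF
  have h2 : (2 : F) ≠ 0 := two_ne_zero_of_odd_card (by rw [hF]; exact (Nat.odd_iff.mpr (by omega)).pow)
  obtain ⟨hst, iu, hi⟩ := SType.of h2 hR hirr hcen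
  obtain ⟨A, _, _, Φ, r, heq, hcov⟩ := hst.exists_data
  haveI := Fact.mk hp
  haveI : CharP F p := charP_of_card_pow hp two_ne_zero hF
  have hsf := semiForm_of_unitary (hσ.isUnitaryForm (n := 8))
  let B : Geom F (Fin 8 → F) :=
    { σ := σ
      f := hermForm 8 F p
      add_left := hσ.isUnitaryForm.add_left
      smul_left := hσ.isUnitaryForm.smul_left
      herm := fun v w => hσ.isUnitaryForm.herm w v
      invol := hσ.involutive
      kind := Or.inr ⟨fun v hv => by
          by_contra hv0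
          obtain ⟨w, hw⟩ := (hσ.isUnitaryForm.nondegenerate v hv0).1
          exact hw (by rw [hσ.isUnitaryForm.herm w v, hv w, map_zero]),
        by
          by_contra hh
          push Not at hh
          exact hσ.ne_refl (RingEquiv.ext hh),
        fun c hc => natCast_of_pow_eq p (by rw [← hσ.apply_eq]; exact hc),
        fun t ht => by
          rcases eq_or_ne t 0 with rfl | ht0
          · exact ⟨0, zero_mul _⟩
          · obtain ⟨x, -, hx⟩ := hσ.norm_surjective ht0 ht
            exact ⟨x, hx⟩⟩ }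
  have hB : B.IsHerm := B.cases.resolve_left fun hz => by
    obtain ⟨w, hw⟩ := ((hσ.isUnitaryForm (n := 8)).nondegenerate (Pi.single 0 (1 : F))
      (fun e => by simpa using congrFun e 0)).1
    exact hw (hz.1 _ _)
  have hisom : ∀ g ∈ Cfsg.GU 8 F p, B.Isom (toV (Fin 8) F g) := fun g hg v w => mem_GU_iff.mp hg v w
  have hNi : (iu : F) * σ iu = 1 := by
    have h4i : iu ^ 4 = 1 := Units.ext (by
      rw [Units.val_pow_eq_pow_val, Units.val_one]; linear_combination ((iu : F) * iu - 1) * hi)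
    obtain ⟨v, hv⟩ := hB.exists_aniso (v := (Pi.single 0 1 : Fin 8 → F)) fun e => by simpa using congrFun e 0
    have e := hisom _ (hU (hst.roots iu h4i)) v v
    rw [scalarGL_apply, B.smul_left, B.smul_right] at e
    exact mul_right_cancel₀ hv (by rw [one_mul]; linear_combination e)
  have hiso_u : ∀ a, B.Isom (Φ.u a) := fun a => by rw [heq]; exact hisom _ (hU (r a).2)
  have hroot : ∀ a, ∀ s : F, (∀ v, Φ.u a (Φ.u a v) = (s * s) • v) → s * σ s = 1 := fun a s hs => by
    have hG : OfGroup R Φ r := ⟨hst, heq, hcov⟩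
    obtain ⟨d, hd, hdv⟩ := hG.sq a
    obtain ⟨v, hv⟩ := Φ.exists_ne
    have e : s * s = d := smul_left_injective F hv (show (s * s) • v = d • v by rw [← hs, hdv])
    rcases hd with rfl | rfl
    · rcases mul_self_eq_one_iff.mp e with rfl | rfl <;> simp
    · rcases mul_self_eq_mul_self_iff.mp (e.trans hi.symm) with rfl | rfl
      · exact hNi
      · simpa using hNi
  have hσi : σ (iu : F) = -iu := mul_left_cancel₀ iu.ne_zero (by linear_combination hNi + hi)
  refine OfGroup.isMaximal ⟨hst, heq, hcov⟩ hi (fun z hz T ζ _ hTS hcase hTv => ⟨?_, hTS⟩) B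
    (fun a => ⟨hiso_u a, fun _ => hroot a⟩) (fun _ => hNi) (fun g hg => hisom g hg.1)
    (fun M hle hM hBig => ?_) ?_
  · refine mem_GU_iff.mpr fun v w => ?_
    show B.f (toV (Fin 8) F T v) (toV (Fin 8) F T w) = B.f v w
    obtain ⟨d, hd, hζ⟩ : ∃ d : F, (∀ x, Φ.u z (Φ.u z x) = d • x) ∧ ζ * σ ζ = 1 ∧ σ ζ + ζ * d = 0 ∧ σ d = d := by
      rcases hcase with ⟨rfl, h⟩ | ⟨rfl, h⟩
      · exact ⟨1, fun x => by rw [h, one_smul], hNi, by rw [hσi]; ring, map_one σ⟩
      · exact ⟨-1, fun x => by rw [h, neg_one_smul], by simp, by simp, by simp⟩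
    have h1 : B.f (Φ.u z v) w = d * B.f v (Φ.u z w) := by
      have e := hiso_u z (Φ.u z v) w
      rw [hd, B.smul_left] at e
      linear_combination -e
    have hpm : (1 + (iu : F)) * (1 + σ iu) = 2 := by rw [hσi]; linear_combination -hi
    rw [hTv, hTv, B.smul_left, B.smul_right, B.add_left, B.add_right, B.add_right, B.smul_left, B.smul_left,
      B.smul_right, B.smul_right, hiso_u z v w, h1]
    show (1 + (iu : F))⁻¹ * (σ (1 + (iu : F))⁻¹ * _) = _
    rw [map_inv₀, map_add, map_one, ← mul_assoc, ← mul_inv, hpm]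
    apply mul_left_cancel₀ h2
    rw [← mul_assoc, mul_inv_cancel₀ h2, one_mul]
    change _ + σ ζ * B.f v (Φ.u z w) + (ζ * (d * B.f v (Φ.u z w)) + ζ * (σ ζ * B.f v w)) = 2 * B.f v w
    linear_combination B.f v w * hζ.1 + B.f v (Φ.u z w) * hζ.2.1
  · refine le_trans (le_of_eq ?_) (UOver.suGL_le (K := M) hσ (by norm_num) fun v c hv hc g hg => ?_)
    · rfl
    · refine mem_of_img hle hM (UOver.tv_mem hσ hv hc hg) ?_
      refine hBig _ v { toFun := fun x => c * B.f x v
                        map_add' := fun x y => by rw [B.add_left]; ring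
                        map_smul' := fun e x => by rw [B.smul_left, RingHom.id_apply, smul_eq_mul]; ring } hg ?_
        (hisom g (UOver.tv_mem hσ hv hc hg).1)
      show c * B.f v v = 0
      rw [show B.f v v = 0 from hv, mul_zero]
  · have hdim : 2 ≤ finrank F (Fin 8 → F) := by rw [Module.finrank_fin_fun]; norm_num
    obtain ⟨a, w, ha, haa, -, haw⟩ := Geom.exists_hyperbolic hB h2 hdim 1
    obtain ⟨c, hc0, hc⟩ := hσ.exists_skew
    obtain ⟨T, hT, hTv⟩ := hσ.exists_transvection (v := a) haa hc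
    refine ⟨T, a, { toFun := fun x => c * B.f x a
                    map_add' := fun x y => by rw [B.add_left]; ring
                    map_smul' := fun e x => by rw [B.smul_left, RingHom.id_apply, smul_eq_mul]; ring },
      hT, ha, fun e => ?_, hTv⟩
    have e' : c * B.f w a = 0 := LinearMap.congr_fun e w
    rw [B.herm a w, haw, map_one, mul_one] at e'
    exact hc0 e'

end Cfsg.Agent.Classical.Frame
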