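/-
Products of lifted transvections and frame maps.
-/
import Cfsg.Agent.Lib.Classical.Frame.SameSplit

set_option autoImplicit false
set_option linter.unusedSectionVars false

namespace Cfsg.Agent.Classical.Frame

open Module

universe u v w

variable {F : Type u} [Field F] {V : Type v} [AddCommGroup V] [Module F V] [FiniteDimensional F V]
  {A : Type w} [AddCommGroup A] [Finite A] {Φ : Data F V A}

namespace Data

/-- A lifted transvection squares to a frame element. -/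
theorem Tz.sq_pr {z : A} {t : V ≃ₗ[F] V} (h : Φ.Tz z t) : pr F V t * pr F V t = Φ.e z := by
  obtain ⟨ζ, h1, h2⟩ := h
  rw [← map_mul, Data.e, pr_eq_pr]
  have hζ : ζ ≠ 0 := by
    rintro rfl
    obtain ⟨v, hv⟩ := Φ.exists_ne
    exact hv (neg_eq_zero.mp (by rw [← h1 v, zero_smul]))
  refine ⟨(2 * ζ)⁻¹, fun v => ?_⟩
  rw [LinearEquiv.mul_apply,
    show t (t v) = (2 * ζ) • Φ.u z v by rw [h2, h2, map_add, smul_add, h1]; module,
    inv_smul_smul₀ (mul_ne_zero Φ.two hζ)]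

theorem Tz.comm_e {z a : A} {t : V ≃ₗ[F] V} (h : Φ.Tz z t) (hs : Φ.sg z a = 1) :
    pr F V t * Φ.e a = Φ.e a * pr F V t :=
  (h.acts.commute_iff a).mpr (Φ.tau_of_one hs)

theorem Tz.flip_e {z a : A} {t : V ≃ₗ[F] V} (h : Φ.Tz z t) (hs : Φ.sg z a = -1) :
    Φ.e a * pr F V t = (pr F V t)⁻¹ * Φ.e a := by
  have h1 := h.acts a
  rw [Φ.tau_of_neg hs, Φ.e_add, Φ.e_comm, ← h.sq_pr, mul_inv_eq_iff_eq_mul, mul_assoc, mul_assoc] at h1
  have h2 := mul_left_cancel h1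
  rw [eq_inv_mul_iff_mul_eq]
  exact h2.symm

/-- Lifts of commuting transvections commute. -/
theorem Tz.comm_tz {z z' : A} {t t' : V ≃ₗ[F] V} (h : Φ.Tz z t) (h' : Φ.Tz z' t') (hs : Φ.sg z z' = 1) :
    pr F V t * pr F V t' = pr F V t' * pr F V t := by
  obtain ⟨ζ', -, ht'⟩ := h'
  rw [← map_mul, ← map_mul, pr_eq_pr]
  refine ⟨1, fun v => ?_⟩
  rw [one_smul, LinearEquiv.mul_apply, LinearEquiv.mul_apply, ht', ht', map_add, map_smul, h.comm hs]

/-- Conjugating a lifted transvection. -/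
theorem Tz.conj_sign {z z' : A} {t t' : V ≃ₗ[F] V} (h : Φ.Tz z t) (h' : Φ.Tz z' t') {m : V ≃ₗ[F] V}
    {f : A → A} (hm : Φ.Acts (pr F V m) f) (hf : f z = z') :
    ∃ ε : F, (ε = 1 ∨ ε = -1) ∧ ∀ ζ ζ' : F, (∀ v, t v = v + ζ • Φ.u z v) → (∀ v, t' v = v + ζ' • Φ.u z' v) →
      ∀ v, m (ζ • Φ.u z v) = ε • ζ' • Φ.u z' (m v) := by
  obtain ⟨c, hc⟩ := pr_conj.mp (hf ▸ hm z)
  obtain ⟨ζ, h1, h2⟩ := h
  obtain ⟨ζ', h1', h2'⟩ := h'
  obtain ⟨v0, hv0⟩ := Φ.exists_ne
  have hu : ∀ {y : A} {v : V}, v ≠ 0 → Φ.u y v ≠ 0 := fun hv e => hv ((Φ.u _).map_eq_zero_iff.mp e)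
  have hζ' : ζ' ≠ 0 := by
    rintro rfl
    exact hv0 (neg_eq_zero.mp (by rw [← h1' v0, zero_smul]))
  have hmv : ∀ v, m (ζ • Φ.u z v) = (ζ * c) • Φ.u z' (m v) := fun v => by rw [map_smul, hc, smul_smul]
  have e : (ζ * c) * (ζ * c) = ζ' * ζ' := by
    have e1 := congrArg m (h1 v0)
    rw [hmv, hmv, map_neg, ← h1' (m v0), map_smul, smul_smul, map_smul, smul_smul] at e1
    exact smul_left_injective F (hu (hu (fun e0 => hv0 (m.map_eq_zero_iff.mp e0)))) e1
  have huniq : ∀ {y : A} {s : V ≃ₗ[F] V} {a b : F}, (∀ v, s v = v + a • Φ.u y v) → (∀ v, s v = v + b • Φ.u y v) →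
      a = b := fun {y s a b} ha hb => smul_left_injective F (hu (y := y) hv0)
        (add_left_cancel ((ha v0).symm.trans (hb v0)))
  refine ⟨ζ * c / ζ', ?_, fun ζ₁ ζ₁' k1 k1' v => ?_⟩
  · rcases mul_self_eq_mul_self_iff.mp e with e | e
    · exact Or.inl (by rw [e, div_self hζ'])
    · exact Or.inr (by rw [e, neg_div, div_self hζ'])
  · rw [huniq k1 h2, huniq k1' h2', hmv, smul_smul, div_mul_cancel₀ _ hζ']

/-- Four elements exhaust a subgroup of order four. -/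
theorem mem_four {S : AddSubgroup A} (hS : Nat.card S = 4) {a b : A} (ha : a ∈ S) (hb : b ∈ S) (ha0 : a ≠ 0)
    (hb0 : b ≠ 0) (hab : a ≠ b) (Φ' : Data F V A) {x : A} (hx : x ∈ S) : x = 0 ∨ x = a ∨ x = b ∨ x = a + b := by
  by_contra hc
  push Not at hc
  obtain ⟨h1, h2, h3, h4⟩ := hc
  have hne : a + b ≠ 0 := Φ'.add_ne_zero hab
  have hne1 : a + b ≠ a := fun e => hb0 (add_eq_left.mp e)
  have hne2 : a + b ≠ b := fun e => ha0 (add_eq_right.mp e)
  classical
  haveI := Fintype.ofFinite S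
  have hcard := Finset.card_le_univ
    ({(0 : S), ⟨a, ha⟩, ⟨b, hb⟩, ⟨a + b, S.add_mem ha hb⟩, ⟨x, hx⟩} : Finset S)
  rw [← Nat.card_eq_fintype_card, hS, Finset.card_insert_of_notMem, Finset.card_insert_of_notMem,
    Finset.card_insert_of_notMem, Finset.card_insert_of_notMem, Finset.card_singleton] at hcard
  · omega
  all_goals simp [Subtype.ext_iff, Ne.symm, ha0, hb0, hab, hne, hne1.symm, hne2.symm, Ne.symm h1, Ne.symm h2,
    Ne.symm h3, Ne.symm h4, Ne.symm ha0, Ne.symm hb0, hne.symm]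

/-- The maps moving every index into a Lagrangian of order four and fixing exactly it. -/
theorem lagrangian_cases {L : AddSubgroup A} (hL : Nat.card L = 4) (hperp : Φ.perp L = L) {g : PG F V} {f : A → A}
    (hf : Φ.Acts g f) (hmem : ∀ x, f x + x ∈ L) (hfix : ∀ x, f x = x ↔ x ∈ L) :
    ∃ p q, p ∈ L ∧ q ∈ L ∧ p ≠ 0 ∧ q ≠ 0 ∧ p ≠ q ∧
      (f = Φ.tau p ∘ Φ.tau q ∨ f = Φ.tau p ∘ Φ.tau q ∘ Φ.tau (p + q)) := by
  haveI : Nontrivial L := Finite.one_lt_card_iff_nontrivial.mp (by omega)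
  obtain ⟨⟨u, hu⟩, hu'⟩ := _root_.exists_ne (0 : L)
  have hu0 : u ≠ 0 := fun e => hu' (Subtype.ext e)
  obtain ⟨v, hv, hv0, huv⟩ : ∃ v ∈ L, v ≠ 0 ∧ u ≠ v := by
    by_contra hc
    push Not at hc
    have h2 := AddSubgroup.card_le_of_le (show L ≤ AddSubgroup.zmultiples u from fun x hx =>
      Φ.mem_zmultiples.mpr (or_iff_not_imp_left.mpr fun h => (hc x hx h).symm))
    have h3 := Φ.card_zmultiples_le u
    omega
  have sL : ∀ {a b : A}, a ∈ L → b ∈ L → Φ.sg a b = 1 := fun {a b} ha hb => by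
    rw [← hperp] at ha
    exact ha b hb
  -- dual elements
  have dual : ∀ {a b : A}, a ≠ 0 → a ≠ b → ∃ c, Φ.sg a c = -1 ∧ Φ.sg b c = 1 := by
    intro a b ha hab
    by_contra hc
    push Not at hc
    have h1 : a ∈ Φ.perp (Φ.cen b) := fun c hcb => by
      rcases Φ.sign a c with h | h
      · exact h
      · exact absurd (Φ.mem_cen.mp hcb) (hc c h)
    rw [Φ.perp_cen] at h1
    rcases Φ.mem_zmultiples.mp h1 with h | h
    · exact ha h
    · exact hab h
  obtain ⟨U, huU, hvU⟩ := dual hu0 huv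
  obtain ⟨W, hvW, huW⟩ := dual hv0 (Ne.symm huv)
  have span : ∀ x, x ∈ L ∨ x + U ∈ L ∨ x + W ∈ L ∨ x + U + W ∈ L := by
    intro x
    have inL : ∀ {y}, Φ.sg u y = 1 → Φ.sg v y = 1 → y ∈ L := fun {y} h1 h2 => by
      rw [← hperp]
      intro c hc
      rw [Φ.sg_symm]
      rcases mem_four hL hu hv hu0 hv0 huv Φ hc with rfl | rfl | rfl | rfl
      · rw [Φ.sg_symm, Φ.sg_zero]
      · exact h1
      · exact h2
      · rw [Φ.sg_add_left, h1, h2, one_mul]
    rcases Φ.sign u x with h1 | h1 <;> rcases Φ.sign v x with h2 | h2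
    · exact Or.inl (inL h1 h2)
    · exact Or.inr (Or.inr (Or.inl (inL (by rw [Φ.sg_add, h1, huW, one_mul]) (by rw [Φ.sg_add, h2, hvW]; ring))))
    · exact Or.inr (Or.inl (inL (by rw [Φ.sg_add, h1, huU]; ring) (by rw [Φ.sg_add, h2, hvU, one_mul])))
    · exact Or.inr (Or.inr (Or.inr (inL (by rw [Φ.sg_add, Φ.sg_add, h1, huU, huW]; ring)
        (by rw [Φ.sg_add, Φ.sg_add, h2, hvU, hvW]; ring))))
  have two : ∀ a b : A, a + b + b = a := Φ.add_self_cancel
  obtain ⟨a, ha⟩ : ∃ a, a = f U + U := ⟨_, rfl⟩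
  obtain ⟨b, hb⟩ : ∃ b, b = f W + W := ⟨_, rfl⟩
  have haL : a ∈ L := ha ▸ hmem U
  have hbL : b ∈ L := hb ▸ hmem W
  have hfU : f U = U + a := by rw [ha, add_comm U, two]
  have hfW : f W = W + b := by rw [hb, add_comm W, two]
  have hsym : Φ.sg a W * Φ.sg b U = 1 := by
    have h := hf.sg U W
    rw [hfU, hfW, Φ.sg_add_left, Φ.sg_add, Φ.sg_add, sL haL hbL, mul_one] at h
    refine mul_left_cancel₀ (Φ.sg_ne U W) ?_
    have e := Φ.sg_symm b U
    rw [mul_one]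
    linear_combination h - (Φ.sg U W * Φ.sg a W) * e
  have hUL : U ∉ L := fun h => Φ.one_ne_neg ((sL hu h).symm.trans huU)
  have hWL : W ∉ L := fun h => Φ.one_ne_neg ((sL hv h).symm.trans hvW)
  have hUWL : U + W ∉ L := fun h => Φ.one_ne_neg ((sL hu h).symm.trans (by rw [Φ.sg_add, huU, huW]; ring))
  have ha0 : a ≠ 0 := fun e => hUL ((hfix U).mp (by rw [hfU, e, add_zero]))
  have hb0 : b ≠ 0 := fun e => hWL ((hfix W).mp (by rw [hfW, e, add_zero]))
  have hab : a ≠ b := fun e => hUWL ((hfix _).mp (by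
    rw [hf.add, hfU, hfW, e, show U + b + (W + b) = U + W + (b + b) by abel, Φ.elem, add_zero]))
  have ext : ∀ (F' : A → A), (∀ x y, F' (x + y) = F' x + F' y) → (∀ x ∈ L, F' x = x) → F' U = U + a →
      F' W = W + b → f = F' := by
    intro F' hadd hid hU hW
    refine funext fun x => ?_
    rcases span x with h | h | h | h
    · rw [(hfix x).mpr h, hid x h]
    · rw [show x = x + U + U from (two x U).symm, hf.add, hadd, (hfix _).mpr h, hid _ h, hfU, hU]
    · rw [show x = x + W + W from (two x W).symm, hf.add, hadd, (hfix _).mpr h, hid _ h, hfW, hW]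
    · rw [show x = x + U + W + W + U by rw [two, two], hf.add, hf.add, hadd, hadd, (hfix _).mpr h, hid _ h, hfU,
        hfW, hU, hW]
  have tadd2 : ∀ p q x y, (Φ.tau p ∘ Φ.tau q) (x + y) = (Φ.tau p ∘ Φ.tau q) x + (Φ.tau p ∘ Φ.tau q) y :=
    fun p q x y => by rw [Function.comp_apply, Φ.tau_add, Φ.tau_add]; rfl
  have tfix : ∀ {p x}, p ∈ L → x ∈ L → Φ.tau p x = x := fun hp hx => Φ.tau_of_one (sL hp hx)
  have hw0 := Φ.add_ne_zero huv
  have hwu : u ≠ u + v := fun e => hv0 (add_eq_left.mp e.symm)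
  have hwv : v ≠ u + v := fun e => hu0 (add_eq_right.mp e.symm)
  have hw : u + v ∈ L := L.add_mem hu hv
  have huvs : Φ.sg u v = 1 := sL hu hv
  have hvus : Φ.sg v u = 1 := sL hv hu
  have huus : Φ.sg u u = 1 := sL hu hu
  have hvvs : Φ.sg v v = 1 := sL hv hv
  have hUu : Φ.sg (u + v) U = -1 := by rw [Φ.sg_add_left, huU, hvU, mul_one]
  have hWw : Φ.sg (u + v) W = -1 := by rw [Φ.sg_add_left, huW, hvW, one_mul]
  have e1 : u + (u + v) = v := by rw [← add_assoc, Φ.elem, zero_add]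
  have e2 : v + (u + v) = u := by rw [add_comm u v, ← add_assoc, Φ.elem, zero_add]
  rcases mem_four hL hu hv hu0 hv0 huv Φ haL with e | e | e | e <;>
    rcases mem_four hL hu hv hu0 hv0 huv Φ hbL with e' | e' | e' | e' <;>
      rw [e, e'] at hab hsym <;> rw [e] at ha0 <;> rw [e'] at hb0
  all_goals first
    | exact absurd rfl ha0
    | exact absurd rfl hb0
    | exact absurd rfl hab
    | (rw [Φ.sg_add_left] at hsym; simp [huU, huW, hvU, hvW, Φ.one_ne_neg.symm] at hsym; done)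
    | (simp [huU, huW, hvU, hvW, Φ.one_ne_neg.symm] at hsym; done)
    | skip
  · -- the first pair
    refine ⟨u, v, hu, hv, hu0, hv0, huv, Or.inl (ext _ (tadd2 u v) ?_ ?_ ?_)⟩
    · intro x hx; rw [Function.comp_apply, tfix hv hx, tfix hu hx]
    · rw [Function.comp_apply, Φ.tau_of_one hvU, Φ.tau_of_neg huU, e]
    · rw [Function.comp_apply, Φ.tau_of_neg hvW, Φ.tau_of_one (by rw [Φ.sg_add, huW, huvs, one_mul]), e']
  · -- the triple
    refine ⟨u, v, hu, hv, hu0, hv0, huv, Or.inr (ext _ (fun x y => ?_) ?_ ?_ ?_)⟩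
    · rw [Function.comp_apply, Function.comp_apply, Φ.tau_add, Φ.tau_add, Φ.tau_add]; rfl
    · intro x hx; rw [Function.comp_apply, Function.comp_apply, tfix hw hx, tfix hv hx, tfix hu hx]
    · rw [Function.comp_apply, Function.comp_apply, Φ.tau_of_neg hUu,
        Φ.tau_of_one (z := v) (by rw [Φ.sg_add, Φ.sg_add, hvU, hvus, hvvs]; ring),
        Φ.tau_of_neg (z := u) (by rw [Φ.sg_add, Φ.sg_add, huU, huvs, huus]; ring), add_assoc, add_comm (u + v) u, e1, e]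
    · rw [Function.comp_apply, Function.comp_apply, Φ.tau_of_neg hWw,
        Φ.tau_of_neg (z := v) (by rw [Φ.sg_add, Φ.sg_add, hvW, hvus, hvvs]; ring),
        Φ.tau_of_one (z := u) (by rw [Φ.sg_add, Φ.sg_add, Φ.sg_add, huW, huvs, huus]; ring), add_assoc, add_comm (u + v) v,
        e2, e']
  · -- the second pair
    refine ⟨u, u + v, hu, hw, hu0, hw0, hwu, Or.inl (ext _ (tadd2 u (u + v)) ?_ ?_ ?_)⟩
    · intro x hx; rw [Function.comp_apply, tfix hw hx, tfix hu hx]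
    · rw [Function.comp_apply, Φ.tau_of_neg hUu,
        Φ.tau_of_neg (by rw [Φ.sg_add, Φ.sg_add, huU, huvs, huus]; ring), add_assoc, add_comm (u + v) u, e1, e]
    · rw [Function.comp_apply, Φ.tau_of_neg hWw, Φ.tau_of_one (by rw [Φ.sg_add, Φ.sg_add, huW, huvs, huus]; ring), e']
  · -- the third pair
    refine ⟨v, u + v, hv, hw, hv0, hw0, hwv, Or.inl (ext _ (tadd2 v (u + v)) ?_ ?_ ?_)⟩
    · intro x hx; rw [Function.comp_apply, tfix hw hx, tfix hv hx]
    · rw [Function.comp_apply, Φ.tau_of_neg hUu, Φ.tau_of_one (by rw [Φ.sg_add, Φ.sg_add, hvU, hvus, hvvs]; ring), e]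
    · rw [Function.comp_apply, Φ.tau_of_neg hWw,
        Φ.tau_of_neg (by rw [Φ.sg_add, Φ.sg_add, hvW, hvus, hvvs]; ring), add_assoc, add_comm (u + v) v, e2, e']

end Data

end Cfsg.Agent.Classical.Frame
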