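/-
In dimension four, a group holding the pairs of lifted transvections but no single one fuses frame elements only
inside the frame.
-/
import Cfsg.Agent.Lib.Classical.Frame.PairLift

set_option autoImplicit false
set_option linter.unusedSectionVars false
set_option linter.style.haveILetI false

namespace Cfsg.Agent.Classical.Frame

open Module

universe u v w

variable {F : Type u} [Field F] {V : Type v} [AddCommGroup V] [Module F V] [FiniteDimensional F V]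
  {A : Type w} [AddCommGroup A] [Finite A] {Φ : Data F V A} {G : Subgroup (PG F V)}

namespace Data

/-- No single lifted transvection. -/
def NoSingle (Φ : Data F V A) (G : Subgroup (PG F V)) : Prop :=
  ∀ z ≠ 0, ∀ t, Φ.Tz z t → pr F V t ∉ G

theorem sq_expand {M : Type*} [Group M] {P Q E P' Q' : M} (hE : E * E = 1) (hP : E * P = P' * E)
    (hQ : E * Q = Q' * E) : P * Q * E * (P * Q * E) = P * Q * (P' * Q') := by
  calc P * Q * E * (P * Q * E) = P * Q * (E * P) * Q * E := by group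
    _ = P * Q * P' * (E * Q) * E := by rw [hP]; group
    _ = P * Q * P' * Q' * (E * E) := by rw [hQ]; group
    _ = P * Q * (P' * Q') := by rw [hE]; group

/-- The normal form of an involution acting as two commuting transvections. -/
theorem signs_of_sq {p q d : A} {tp tq : V ≃ₗ[F] V} (hp : Φ.Tz p tp) (hq : Φ.Tz q tq) (hpq : Φ.sg p q = 1)
    (hne : p ≠ q) (hp0 : p ≠ 0) (hq0 : q ≠ 0)
    (h : pr F V tp * pr F V tq * Φ.e d * (pr F V tp * pr F V tq * Φ.e d) = 1) :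
    Φ.sg p d = -1 ∧ Φ.sg q d = -1 := by
  have hcomm : Commute (pr F V tp) (pr F V tq) := hp.comm_tz hq hpq
  rcases Φ.sign p d with h1 | h1 <;> rcases Φ.sign q d with h2 | h2
  · exfalso
    rw [sq_expand (Φ.e_sq d) (hp.comm_e h1).symm (hq.comm_e h2).symm, hcomm.symm.mul_mul_mul_comm, hp.sq_pr,
      hq.sq_pr, ← Φ.e_add] at h
    exact Φ.add_ne_zero hne (Φ.e_eq_one.mp h)
  · exfalso
    rw [sq_expand (Φ.e_sq d) (hp.comm_e h1).symm (hq.flip_e h2), hcomm.symm.mul_mul_mul_comm, mul_inv_cancel,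
      mul_one, hp.sq_pr] at h
    exact hp0 (Φ.e_eq_one.mp h)
  · exfalso
    rw [sq_expand (Φ.e_sq d) (hp.flip_e h1) (hq.comm_e h2).symm, hcomm.symm.inv_right.mul_mul_mul_comm, mul_inv_cancel,
      one_mul, hq.sq_pr] at h
    exact hq0 (Φ.e_eq_one.mp h)
  · exact ⟨h1, h2⟩

/-- Fusion of frame elements happens inside the frame. -/
theorem fuses_sixteen [Finite F] (hG : Pairs Φ G) (hno : NoSingle Φ G) (hc : Φ.CentLe G) (hA : Nat.card A = 16) :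
    Fuses Φ G := by
  classical
  intro g hg a hy
  by_contra hE
  have ha : a ≠ 0 := by
    rintro rfl
    exact hE (by rw [Φ.e_zero, mul_one, mul_inv_cancel]; exact Φ.E.one_mem)
  have hgN : g ∉ Φ.N := fun hgN => hE (by
    obtain ⟨b, hb⟩ := Φ.conj_of_mem_N hgN a
    exact ⟨b, hb.symm⟩)
  have hsk : Φ.Skew G g :=
    ⟨hg, hG.le, hc, fun b c e => by by_contra hb; exact hgN (mem_N_of_conj hG hc hb hg e)⟩
  obtain ⟨hlag, hcard⟩ := hsk.lagrangian (b := a) hy ha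
  obtain ⟨L, hL⟩ : ∃ L, L = Φ.inside g⁻¹ := ⟨_, rfl⟩
  rw [← hL] at hlag hcard
  have hL4 : Nat.card L = 4 := by
    have h := Φ.card_perp L
    rw [hlag, hA] at h
    exact (Nat.pow_left_injective (n := 2) (by norm_num) (by show _ ^ 2 = 4 ^ 2; rw [pow_two, h]))
  obtain ⟨c0, hc0, hc00⟩ := hsk.exists_inside (b := a) hy ha
  have hinv := (hsk.symm.lagrangian (b := c0) hc0 hc00).1
  rw [inv_inv] at hinv
  obtain ⟨b, hb, hb0, hba⟩ : ∃ b ∈ Φ.inside g, b ≠ 0 ∧ b ≠ a := by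
    by_contra hh
    push Not at hh
    have h2 := AddSubgroup.card_le_of_le (show Φ.inside g ≤ AddSubgroup.zmultiples a from fun x hx =>
      Φ.mem_zmultiples.mpr (or_iff_not_imp_left.mpr fun h => hh x hx h))
    have h3 := Φ.card_zmultiples_le a
    omega
  have hab : Φ.sg a b = 1 := by
    have h : a ∈ Φ.perp (Φ.inside g) := by rw [hinv]; exact hy
    exact h b hb
  choose tl htl using fun z : {z : A // z ≠ 0} => hG.lift z z.2
  obtain ⟨T, hT⟩ : ∃ T : A → (V ≃ₗ[F] V), ∀ z, z ≠ 0 → Φ.Tz z (T z) :=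
    ⟨fun z => if h : z ≠ 0 then tl ⟨z, h⟩ else 1, fun z hz => by simp only [dif_pos hz]; exact htl ⟨z, hz⟩⟩
  have sL : ∀ {x y : A}, x ∈ L → y ∈ L → Φ.sg x y = 1 := fun {x y} hx hy => by
    rw [← hlag] at hx
    exact hx y hy
  -- the shape of the conjugates
  have shape : ∀ c ∈ Φ.inside g, c ≠ 0 → ∃ p q d, p ∈ L ∧ q ∈ L ∧ p ≠ 0 ∧ q ≠ 0 ∧ p ≠ q ∧
      Φ.sg p d = -1 ∧ Φ.sg q d = -1 ∧ g * Φ.e c * g⁻¹ = pr F V (T p) * pr F V (T q) * Φ.e d := by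
    intro c hcm hc1
    have hfa := Φ.acts_act hcm
    generalize Φ.act ⟨_, hcm⟩ = f at hfa
    obtain ⟨p, q, hp, hq, hp0, hq0, hpq, hf⟩ := lagrangian_cases hL4 hlag hfa
      (fun x => by rw [hL]; exact (hsk.sub_mem hcm hc1 hfa x).1) (fun x => by rw [hL]; exact hsk.fix_iff hcm hc1 hfa)
    have hyG : g * Φ.e c * g⁻¹ ∈ G := G.mul_mem (G.mul_mem hg (hG.le (Φ.e_mem c))) (G.inv_mem hg)
    have haPQ : Φ.Acts (pr F V (T p) * pr F V (T q)) (Φ.tau p ∘ Φ.tau q) := (hT p hp0).acts.mul (hT q hq0).acts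
    have hidem : ∀ {m : PG F V} {f' : A → A}, Φ.Acts m f' → f = f' → ∃ d, g * Φ.e c * g⁻¹ = m * Φ.e d :=
      fun {m f'} hm e => by
      subst e
      have hi : Φ.Acts (m⁻¹ * (g * Φ.e c * g⁻¹)) id := fun x => by
        rw [id, show m⁻¹ * (g * Φ.e c * g⁻¹) * Φ.e x * (m⁻¹ * (g * Φ.e c * g⁻¹))⁻¹ =
          m⁻¹ * ((g * Φ.e c * g⁻¹) * Φ.e x * (g * Φ.e c * g⁻¹)⁻¹) * m by group, hfa, ← hm]
        group
      obtain ⟨d, hd⟩ := Φ.mem_E.mp hi.mem_E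
      exact ⟨d, by rw [hd]; group⟩
    rcases hf with hf | hf
    · obtain ⟨d, hd⟩ := hidem haPQ hf
      have hs := signs_of_sq (d := d) (hT p hp0) (hT q hq0) (sL hp hq) hpq hp0 hq0 (by
        rw [← hd, show g * Φ.e c * g⁻¹ * (g * Φ.e c * g⁻¹) = g * (Φ.e c * Φ.e c) * g⁻¹ by group, Φ.e_sq]; group)
      exact ⟨p, q, d, hp, hq, hp0, hq0, hpq, hs.1, hs.2, hd⟩
    · exfalso
      obtain ⟨d, hd⟩ := hidem (haPQ.mul (hT _ (Φ.add_ne_zero hpq)).acts) hf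
      refine hno _ (Φ.add_ne_zero hpq) _ (hT _ (Φ.add_ne_zero hpq)) ?_
      have h1 := G.mul_mem (G.mul_mem (G.inv_mem (hG.pair p q hp0 hq0 _ _ (hT p hp0) (hT q hq0))) hyG)
        (hG.le (Φ.e_mem d))
      rw [hd] at h1
      have e : (pr F V (T p) * pr F V (T q))⁻¹ * (pr F V (T p) * pr F V (T q) * pr F V (T (p + q)) * Φ.e d) * Φ.e d =
          pr F V (T (p + q)) := by
        rw [mul_assoc _ _ (Φ.e d), mul_assoc _ (Φ.e d), Φ.e_sq]; group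
      rwa [e] at h1
  obtain ⟨p₀, q₀, d, hp₀, hq₀, hp₀0, hq₀0, hpq₀, hdp₀, hdq₀, hya₀⟩ := shape a hy ha
  obtain ⟨p₁, q₁, d', hp₁, hq₁, hp₁0, hq₁0, hpq₁, hdp₁, hdq₁, hyb₁⟩ := shape b hb hb0
  have hsame : ∀ {p q p' q'}, p ∈ L → q ∈ L → p' ∈ L → q' ∈ L → (hp0 : p ≠ 0) → (hq0 : q ≠ 0) →
      p' = p → q' = q → Φ.sg p d = -1 → Φ.sg q d = -1 →
      g * Φ.e a * g⁻¹ = pr F V (T p) * pr F V (T q) * Φ.e d →
      g * Φ.e b * g⁻¹ = pr F V (T p') * pr F V (T q') * Φ.e d' → False := by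
    intro p q p' q' hp hq _ _ hp0 hq0 e1 e2 h1 h2 hA' hB'
    subst e1 e2
    have hcomm : Commute (pr F V (T p')) (pr F V (T q')) := (hT _ hp0).comm_tz (hT _ hq0) (sL hp hq)
    have h3 : g * Φ.e (a + b) * g⁻¹ = Φ.e (d + d') := by
      rw [Φ.e_add, show g * (Φ.e a * Φ.e b) * g⁻¹ = g * Φ.e a * g⁻¹ * (g * Φ.e b * g⁻¹) by group, hA', hB', Φ.e_add]
      calc _ = pr F V (T p') * pr F V (T q') * (Φ.e d * pr F V (T p')) * pr F V (T q') * Φ.e d' := by group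
        _ = pr F V (T p') * pr F V (T q') * (pr F V (T p'))⁻¹ * (Φ.e d * pr F V (T q')) * Φ.e d' := by
          rw [(hT _ hp0).flip_e h1]; group
        _ = pr F V (T p') * pr F V (T q') * (pr F V (T p'))⁻¹ * (pr F V (T q'))⁻¹ * (Φ.e d * Φ.e d') := by
          rw [(hT _ hq0).flip_e h2]; group
        _ = Φ.e d * Φ.e d' := by rw [hcomm.eq]; group
    exact Φ.add_ne_zero (Ne.symm hba) (hsk.disjoint _ _ h3)
  -- arrange the two shapes as a chain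
  obtain ⟨p, q, r, hp, hq, hr, hp0, hq0, hr0, hpq, hr', hdp, hdq, hdq', hdr', hya, hyb⟩ :
      ∃ p q r, p ∈ L ∧ q ∈ L ∧ r ∈ L ∧ p ≠ 0 ∧ q ≠ 0 ∧ r ≠ 0 ∧ p ≠ q ∧ r = p + q ∧ Φ.sg p d = -1 ∧ Φ.sg q d = -1 ∧
        Φ.sg q d' = -1 ∧ Φ.sg r d' = -1 ∧ g * Φ.e a * g⁻¹ = pr F V (T p) * pr F V (T q) * Φ.e d ∧
        g * Φ.e b * g⁻¹ = pr F V (T q) * pr F V (T r) * Φ.e d' := by
    have swapA : g * Φ.e a * g⁻¹ = pr F V (T q₀) * pr F V (T p₀) * Φ.e d := by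
      rw [hya₀, (hT _ hp₀0).comm_tz (hT _ hq₀0) (sL hp₀ hq₀)]
    have swapB : g * Φ.e b * g⁻¹ = pr F V (T q₁) * pr F V (T p₁) * Φ.e d' := by
      rw [hyb₁, (hT _ hp₁0).comm_tz (hT _ hq₁0) (sL hp₁ hq₁)]
    have hw := Φ.add_ne_zero hpq₀
    have hwL := L.add_mem hp₀ hq₀
    rcases mem_four hL4 hp₀ hq₀ hp₀0 hq₀0 hpq₀ Φ hp₁ with e | e | e | e <;>
      rcases mem_four hL4 hp₀ hq₀ hp₀0 hq₀0 hpq₀ Φ hq₁ with e' | e' | e' | e' <;>
      rw [e] at hdp₁ hyb₁ swapB <;> rw [e'] at hdq₁ hyb₁ swapB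
    all_goals first
      | exact absurd e hp₁0
      | exact absurd e' hq₁0
      | exact absurd (e.trans e'.symm) hpq₁
      | exact (hsame hp₀ hq₀ hp₀ hq₀ hp₀0 hq₀0 rfl rfl hdp₀ hdq₀ hya₀ hyb₁).elim
      | exact (hsame hp₀ hq₀ hp₀ hq₀ hp₀0 hq₀0 rfl rfl hdp₀ hdq₀ hya₀ swapB).elim
      | (exact ⟨q₀, p₀, _, hq₀, hp₀, hwL, hq₀0, hp₀0, hw, Ne.symm hpq₀, add_comm _ _, hdq₀, hdp₀,
          hdp₁, hdq₁, swapA, hyb₁⟩)
      | (exact ⟨p₀, q₀, _, hp₀, hq₀, hwL, hp₀0, hq₀0, hw, hpq₀, rfl, hdp₀, hdq₀, hdp₁, hdq₁, hya₀,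
          hyb₁⟩)
      | (exact ⟨q₀, p₀, _, hq₀, hp₀, hwL, hq₀0, hp₀0, hw, Ne.symm hpq₀, add_comm _ _, hdq₀, hdp₀,
          hdq₁, hdp₁, swapA, swapB⟩)
      | (exact ⟨p₀, q₀, _, hp₀, hq₀, hwL, hp₀0, hq₀0, hw, hpq₀, rfl, hdp₀, hdq₀, hdq₁, hdp₁, hya₀,
          swapB⟩)
  have hpq1 := sL hp hq
  have hpr1 := sL hp hr
  have hqr1 := sL hq hr
  have hdr : Φ.sg r d = 1 := by rw [hr', Φ.sg_add_left, hdp, hdq]; ring
  have hdp' : Φ.sg p d' = 1 := by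
    have h := hdr'
    rw [hr', Φ.sg_add_left, hdq'] at h
    linear_combination -h
  -- the two lifts commute
  have hdd : Φ.sg d d' = 1 := by
    obtain ⟨lg, hlg⟩ := pr_surjective g
    obtain ⟨ζp, -, -, hPv⟩ := (hT p hp0).apply_sq
    obtain ⟨ζq, hq2, hQv⟩ := hT q hq0
    obtain ⟨ζr, -, -, hRv⟩ := (hT r hr0).apply_sq
    obtain ⟨c, hc⟩ := pr_eq_pr.mp (show pr F V (T p * T q * Φ.u d) = pr F V (lg * Φ.u a * lg⁻¹) by
      rw [map_mul, map_mul, map_mul, map_mul, map_inv, hlg]; exact hya.symm)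
    obtain ⟨c', hc'⟩ := pr_eq_pr.mp (show pr F V (T q * T r * Φ.u d') = pr F V (lg * Φ.u b * lg⁻¹) by
      rw [map_mul, map_mul, map_mul, map_mul, map_inv, hlg]; exact hyb.symm)
    have hl : ∀ v, lg⁻¹ (lg v) = v := fun v => lg.symm_apply_apply v
    obtain ⟨v, hv⟩ := Φ.exists_ne
    have hkl : (lg * Φ.u a * lg⁻¹) ((lg * Φ.u b * lg⁻¹) v) = (lg * Φ.u b * lg⁻¹) ((lg * Φ.u a * lg⁻¹) v) := by
      simp only [LinearEquiv.mul_apply, hl, Φ.comm a b, hab, one_smul]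
    have hcc : c ≠ 0 := fun e => hv (((lg * Φ.u a * lg⁻¹) : V ≃ₗ[F] V).map_eq_zero_iff.mp (by
      rw [hc, e, zero_smul]))
    have hcc' : c' ≠ 0 := fun e => hv (((lg * Φ.u b * lg⁻¹) : V ≃ₗ[F] V).map_eq_zero_iff.mp (by
      rw [hc', e, zero_smul]))
    rw [hc, hc', hc', hc, map_smul, map_smul, smul_smul, smul_smul, mul_comm c' c] at hkl
    have hkl' := smul_right_injective V (mul_ne_zero hcc hcc') hkl
    have half : ∀ x, T q (x + -ζq • Φ.u q x) = (2 : F) • x := fun x => by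
      have e := hq2 x
      rw [map_smul, smul_smul] at e
      rw [hQv, map_add, map_smul, smul_add, smul_smul, mul_neg, neg_smul (ζq * ζq), e]
      module
    have flipq : ∀ {δ : A}, Φ.sg q δ = -1 → ∀ x, Φ.u δ (T q x) = Φ.u δ x + -ζq • Φ.u q (Φ.u δ x) :=
      fun {δ} hδ x => by
      rw [hQv, map_add, map_smul, Φ.comm δ q, Φ.sg_symm q δ, hδ]; module
    have hTq : ∀ {δ : A}, Φ.sg q δ = -1 → ∀ x, T q (Φ.u δ (T q x)) = (2 : F) • Φ.u δ x := fun hδ x => by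
      rw [flipq hδ, half]
    have hqd : ∀ x, T r (Φ.u d x) = Φ.u d (T r x) := (hT r hr0).comm hdr
    have hpd' : ∀ x, T p (Φ.u d' x) = Φ.u d' (T p x) := (hT p hp0).comm hdp'
    have hqp : ∀ x, T q (T p x) = T p (T q x) := fun x => by
      rw [hPv, hPv, map_add, map_smul, (hT q hq0).comm (by rw [Φ.sg_symm]; exact hpq1)]
    have hqr : ∀ x, T q (T r x) = T r (T q x) := fun x => by
      rw [hRv, hRv, map_add, map_smul, (hT q hq0).comm hqr1]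
    have hrp : ∀ x, T r (T p x) = T p (T r x) := fun x => by
      rw [hPv, hPv, map_add, map_smul, (hT r hr0).comm (by rw [Φ.sg_symm]; exact hpr1)]
    have L1 : (T p * T q * Φ.u d) ((T q * T r * Φ.u d') v) = (2 : F) • T p (T r (Φ.u d (Φ.u d' v))) := by
      simp only [LinearEquiv.mul_apply]
      rw [hTq hdq, map_smul, hqd]
    have L2 : (T q * T r * Φ.u d') ((T p * T q * Φ.u d) v) = (2 : F) • T r (T p (Φ.u d' (Φ.u d v))) := by
      simp only [LinearEquiv.mul_apply]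
      rw [← hpd', hqr, hqp, hTq hdq', map_smul, map_smul]
    rw [L1, L2, hrp, Φ.comm d d', map_smul, map_smul, smul_comm (2 : F)] at hkl'
    have hne : T p (T r (Φ.u d' (Φ.u d v))) ≠ 0 := by
      simp only [ne_eq, LinearEquiv.map_eq_zero_iff]; exact hv
    exact smul_left_injective F (smul_ne_zero Φ.two hne) (hkl'.trans (one_smul F _).symm)
  -- the mover
  have hd0 : d ≠ 0 := fun e => Φ.one_ne_neg ((Φ.sg_zero p).symm.trans (e ▸ hdp))
  have hdr0 : d ≠ r := fun e => Φ.one_ne_neg ((sL hp hr).symm.trans (e ▸ hdp))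
  obtain ⟨s, hs⟩ : ∃ s, s = d + r := ⟨_, rfl⟩
  have hs0 : s ≠ 0 := hs ▸ Φ.add_ne_zero hdr0
  obtain ⟨f, hf⟩ : ∃ f, f = Φ.tau s ∘ Φ.tau d := ⟨_, rfl⟩
  have hrd : Φ.sg d r = 1 := by rw [Φ.sg_symm]; exact hdr
  have f_p : f p = q := by
    rw [hf, Function.comp_apply, Φ.tau_of_neg (z := d) (by rw [Φ.sg_symm]; exact hdp), Φ.tau_of_neg (by
      rw [hs, Φ.sg_add, Φ.sg_add_left, Φ.sg_add_left, Φ.sg_self, hdr, Φ.sg_symm p d, hdp, sL hr hp]; ring), hs, hr']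
    rw [show p + d + (d + (p + q)) = q + (p + p) + (d + d) by abel, Φ.elem, Φ.elem, add_zero, add_zero]
  have f_q : f q = p := by
    rw [hf, Function.comp_apply, Φ.tau_of_neg (z := d) (by rw [Φ.sg_symm]; exact hdq), Φ.tau_of_neg (by
      rw [hs, Φ.sg_add, Φ.sg_add_left, Φ.sg_add_left, Φ.sg_self, hdr, Φ.sg_symm q d, hdq, sL hr hq]; ring), hs, hr']
    rw [show q + d + (d + (p + q)) = p + (q + q) + (d + d) by abel, Φ.elem, Φ.elem, add_zero, add_zero]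
  have f_d : f d = d := by
    rw [hf, Function.comp_apply, Φ.tau_self, Φ.tau_of_one (by rw [hs, Φ.sg_add_left, Φ.sg_self, hdr, one_mul])]
  have f_r : f r = r := by
    rw [hf, Function.comp_apply, Φ.tau_of_one hrd, Φ.tau_of_one (by rw [hs, Φ.sg_add_left, hrd, Φ.sg_self, one_mul])]
  have f_d' : f d' = d' + (d + r) := by
    rw [hf, Function.comp_apply, Φ.tau_of_one hdd, Φ.tau_of_neg (by rw [hs, Φ.sg_add_left, hdd, hdr', one_mul]), hs]
  obtain ⟨N0, hN0⟩ : ∃ N0, N0 = T s * T d := ⟨_, rfl⟩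
  have hN0a : Φ.Acts (pr F V N0) f := by rw [hN0, map_mul, hf]; exact (hT s hs0).acts.mul (hT d hd0).acts
  have hN0G : pr F V N0 ∈ G := by rw [hN0, map_mul]; exact hG.pair s d hs0 hd0 _ _ (hT s hs0) (hT d hd0)
  obtain ⟨ζp, hp2, hPv⟩ := hT p hp0
  obtain ⟨ζq, hq2, hQv⟩ := hT q hq0
  obtain ⟨ε₁, hε₁, c₁⟩ := (hT p hp0).conj_sign (hT q hq0) hN0a f_p
  obtain ⟨ε₂, hε₂, c₂⟩ := (hT q hq0).conj_sign (hT p hp0) hN0a f_q
  obtain ⟨x, hxq, hxp⟩ : ∃ x, Φ.sg x q = ε₁ ∧ Φ.sg x p = ε₂ := by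
    rcases hε₁ with e | e <;> rcases hε₂ with e' | e' <;> subst e e'
    · exact ⟨0, by rw [Φ.sg_symm, Φ.sg_zero], by rw [Φ.sg_symm, Φ.sg_zero]⟩
    · exact ⟨d + d', by rw [Φ.sg_symm, Φ.sg_add, hdq, hdq']; ring, by rw [Φ.sg_symm, Φ.sg_add, hdp, hdp']; ring⟩
    · exact ⟨d', by rw [Φ.sg_symm]; exact hdq', by rw [Φ.sg_symm]; exact hdp'⟩
    · exact ⟨d, by rw [Φ.sg_symm]; exact hdq, by rw [Φ.sg_symm]; exact hdp⟩
  obtain ⟨M, hM⟩ : ∃ M, M = Φ.u x * N0 := ⟨_, rfl⟩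
  have hMa : Φ.Acts (pr F V M) f := by rw [hM, map_mul]; exact (acts_e x).mul hN0a
  have hMG : pr F V M ∈ G := by rw [hM, map_mul]; exact G.mul_mem (hG.le (Φ.e_mem x)) hN0G
  have hMp : ∀ v, M (ζp • Φ.u p v) = ζq • Φ.u q (M v) := fun v => by
    rw [hM, LinearEquiv.mul_apply, LinearEquiv.mul_apply, c₁ ζp ζq hPv hQv, map_smul, map_smul, Φ.comm x q, hxq,
      smul_smul, smul_smul]
    congr 1
    rcases hε₁ with e | e <;> rw [e] <;> ring
  have hMq : ∀ v, M (ζq • Φ.u q v) = ζp • Φ.u p (M v) := fun v => by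
    rw [hM, LinearEquiv.mul_apply, LinearEquiv.mul_apply, c₂ ζq ζp hQv hPv, map_smul, map_smul, Φ.comm x p, hxp,
      smul_smul, smul_smul]
    congr 1
    rcases hε₂ with e | e <;> rw [e] <;> ring
  have hMr : ∀ v, M (Φ.u r v) = Φ.u r (M v) := fun v => by
    obtain ⟨m, hm⟩ := Φ.mul p q
    have h1 : M ((ζp * ζq * m) • Φ.u r v) = (ζp * ζq * m) • Φ.u r (M v) := by
      have e1 : ∀ w, ζp • Φ.u p (ζq • Φ.u q w) = (ζp * ζq * m) • Φ.u r w := fun w => by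
        rw [map_smul, hm, smul_smul, smul_smul, ← hr']
      have e2 : ∀ w, ζq • Φ.u q (ζp • Φ.u p w) = (ζp * ζq * m) • Φ.u r w := fun w => by
        rw [← e1, map_smul, map_smul, Φ.comm q p, Φ.sg_symm p q, hpq1, one_smul, smul_comm]
      rw [← e1, hMp, hMq, e2]
    rw [map_smul] at h1
    refine smul_right_injective V ?_ h1
    have hz : ∀ {z : A} {ζ : F}, (∀ v, ζ • Φ.u z (ζ • Φ.u z v) = -v) → ζ ≠ 0 := fun {z ζ} h e => by
      obtain ⟨w, hw⟩ := Φ.exists_ne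
      exact hw (neg_eq_zero.mp (by rw [← h w, e, zero_smul]))
    exact mul_ne_zero (mul_ne_zero (hz hp2) (hz hq2)) (Φ.mul_ne hm)
  have cp : pr F V M * pr F V (T p) * (pr F V M)⁻¹ = pr F V (T q) :=
    pr_conj.mpr ⟨1, fun v => by rw [hPv, hQv, map_add, hMp, one_smul]⟩
  have cq : pr F V M * pr F V (T q) * (pr F V M)⁻¹ = pr F V (T p) :=
    pr_conj.mpr ⟨1, fun v => by rw [hQv, hPv, map_add, hMq, one_smul]⟩
  obtain ⟨ζr, -, -, hRv⟩ := (hT r hr0).apply_sq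
  have cr : pr F V M * pr F V (T r) * (pr F V M)⁻¹ = pr F V (T r) :=
    pr_conj.mpr ⟨1, fun v => by rw [hRv, hRv, map_add, map_smul, hMr, one_smul]⟩
  have hMA : pr F V M * (g * Φ.e a * g⁻¹) * (pr F V M)⁻¹ = g * Φ.e a * g⁻¹ := by
    have e := hMa d
    rw [f_d] at e
    rw [hya]
    calc _ = (pr F V M * pr F V (T p) * (pr F V M)⁻¹) * (pr F V M * pr F V (T q) * (pr F V M)⁻¹) *
          (pr F V M * Φ.e d * (pr F V M)⁻¹) := by group
      _ = pr F V (T p) * pr F V (T q) * Φ.e d := by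
        rw [cp, cq, e, (hT p hp0).comm_tz (hT q hq0) hpq1]
  have hMB : pr F V M * (g * Φ.e b * g⁻¹) * (pr F V M)⁻¹ = pr F V (T p) * pr F V (T r) * Φ.e (d' + (d + r)) := by
    have e := hMa d'
    rw [f_d'] at e
    rw [hyb]
    calc _ = (pr F V M * pr F V (T q) * (pr F V M)⁻¹) * (pr F V M * pr F V (T r) * (pr F V M)⁻¹) *
          (pr F V M * Φ.e d' * (pr F V M)⁻¹) := by group
      _ = pr F V (T p) * pr F V (T r) * Φ.e (d' + (d + r)) := by rw [cq, cr, e]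
  -- the conjugate commutes with the frame element
  obtain ⟨m', hm'⟩ : ∃ m', m' = g⁻¹ * pr F V M * g := ⟨_, rfl⟩
  have hm'N : m' ∈ Φ.N := hc a ha _ (hm' ▸ G.mul_mem (G.mul_mem (G.inv_mem hg) hMG) hg) (by
    rw [hm', ← mul_inv_eq_iff_eq_mul,
      show g⁻¹ * pr F V M * g * Φ.e a * (g⁻¹ * pr F V M * g)⁻¹ =
        g⁻¹ * (pr F V M * (g * Φ.e a * g⁻¹) * (pr F V M)⁻¹) * g by group, hMA]
    group)
  obtain ⟨b', hb'⟩ := Φ.conj_of_mem_N hm'N b
  have hkey : g * Φ.e b' * g⁻¹ = pr F V M * (g * Φ.e b * g⁻¹) * (pr F V M)⁻¹ := by rw [← hb', hm']; group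
  have hb'i : b' ∈ Φ.inside g := by
    show g * Φ.e b' * g⁻¹ ∈ Φ.N
    rw [hkey]
    exact Φ.N.mul_mem (Φ.N.mul_mem hMa.mem_N hb) (Φ.N.inv_mem hMa.mem_N)
  have hcard4 : Nat.card (Φ.inside g) = 4 := hcard.trans hL4
  rcases mem_four hcard4 hy hb ha hb0 (Ne.symm hba) Φ hb'i with e | e | e | e <;> rw [e] at hkey
  · rw [Φ.e_zero, show g * 1 * g⁻¹ = (1 : PG F V) by group, eq_comm, mul_inv_eq_one, mul_eq_left, mul_inv_eq_one,
      mul_eq_left, Φ.e_eq_one] at hkey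
    exact hb0 hkey
  · conv_lhs at hkey => rw [← hMA]
    exact hba (Φ.e_injective (mul_left_cancel (mul_right_cancel (mul_left_cancel (mul_right_cancel hkey))))).symm
  · rw [hMB, hyb] at hkey
    have h1 : Φ.Acts (pr F V (T p) * pr F V (T r) * Φ.e (d' + (d + r))) (Φ.tau p ∘ Φ.tau r ∘ id) :=
      ((hT p hp0).acts.mul (hT r hr0).acts).mul (acts_e _)
    have h2 : Φ.Acts (pr F V (T q) * pr F V (T r) * Φ.e d') (Φ.tau q ∘ Φ.tau r ∘ id) :=
      ((hT q hq0).acts.mul (hT r hr0).acts).mul (acts_e _)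
    rw [← hkey] at h1
    have h3 := congrFun (h1.eq h2) d
    simp only [Function.comp_apply, id, Φ.tau_of_one hdr, Φ.tau_of_neg hdp, Φ.tau_of_neg hdq, add_right_inj] at h3
    exact hpq h3
  · rw [hMB, Φ.e_add, show g * (Φ.e a * Φ.e b) * g⁻¹ = g * Φ.e a * g⁻¹ * (g * Φ.e b * g⁻¹) by group, hya, hyb] at hkey
    have e1 : pr F V (T p) * pr F V (T q) * Φ.e d * (pr F V (T q) * pr F V (T r) * Φ.e d') =
        pr F V (T p) * pr F V (T r) * Φ.e (d + d') := by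
      rw [Φ.e_add]
      calc _ = pr F V (T p) * pr F V (T q) * (Φ.e d * pr F V (T q)) * pr F V (T r) * Φ.e d' := by group
        _ = pr F V (T p) * (Φ.e d * pr F V (T r)) * Φ.e d' := by rw [(hT q hq0).flip_e hdq]; group
        _ = _ := by rw [← (hT r hr0).comm_e hdr]; group
    rw [e1] at hkey
    have h2 := Φ.e_injective (mul_left_cancel hkey)
    rw [show d' + (d + r) = d + d' + r by abel, eq_comm, add_eq_left] at h2
    exact hr0 h2

end Data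

end Cfsg.Agent.Classical.Frame
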