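/-
The dichotomy from pairs of lifted transvections in dimension four over a prime field.
-/
import Cfsg.Agent.Lib.Classical.Frame.PairFusion
import Cfsg.Agent.Lib.Classical.Frame.Dich

set_option autoImplicit false
set_option linter.unusedSectionVars false
set_option linter.style.haveILetI false

namespace Cfsg.Agent.Classical.Frame

open Module

universe u v w

variable {F : Type u} [Field F] {V : Type v} [AddCommGroup V] [Module F V] [FiniteDimensional F V]
  {A : Type w} [AddCommGroup A] [Finite A] {Φ : Data F V A} {G : Subgroup (PG F V)}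

namespace Data

/-- The elements staying in `G` under conjugation by `T`. -/
def stable (G : Subgroup (PG F V)) (T : PG F V) : Subgroup (PG F V) :=
  G ⊓ G.comap (MulAut.conj T).toMonoidHom

theorem mem_stable {T g : PG F V} : g ∈ stable G T ↔ g ∈ G ∧ T * g * T⁻¹ ∈ G := Iff.rfl

/-- The extension of the stable part by the conjugating element. -/
def widen (G : Subgroup (PG F V)) (T : PG F V) (hT : T * T ∈ G) : Subgroup (PG F V) :=
  have hn : ∀ k ∈ stable G T, T * k * T⁻¹ ∈ stable G T := fun k hk => by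
    obtain ⟨h1, h2⟩ := mem_stable.mp hk
    refine mem_stable.mpr ⟨h2, ?_⟩
    rw [show T * (T * k * T⁻¹) * T⁻¹ = T * T * k * (T * T)⁻¹ by group]
    exact G.mul_mem (G.mul_mem hT h1) (G.inv_mem hT)
  have hTT : T * T ∈ stable G T := mem_stable.mpr ⟨hT, by rw [show T * (T * T) * T⁻¹ = T * T by group]; exact hT⟩
  have hn' : ∀ k ∈ stable G T, T⁻¹ * k * T ∈ stable G T := fun k hk => by
    rw [show T⁻¹ * k * T = (T * T)⁻¹ * (T * k * T⁻¹) * (T * T) by group]
    exact mul_mem (mul_mem (inv_mem hTT) (hn k hk)) hTT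
  { carrier := {g | g ∈ stable G T ∨ g * T ∈ stable G T}
    one_mem' := Or.inl (one_mem _)
    mul_mem' := fun {g h} hg hh => by
      rcases hg with hg | hg <;> rcases hh with hh | hh
      · exact Or.inl (mul_mem hg hh)
      · exact Or.inr (by rw [mul_assoc]; exact mul_mem hg hh)
      · exact Or.inr (by
          rw [show g * h * T = g * T * (T⁻¹ * h * T) by group]
          exact mul_mem hg (hn' h hh))
      · exact Or.inl (by
          rw [show g * h = g * T * (T⁻¹ * (h * T) * T) * (T * T)⁻¹ by group]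
          exact mul_mem (mul_mem hg (hn' _ hh)) (inv_mem hTT))
    inv_mem' := fun {g} hg => by
      rcases hg with hg | hg
      · exact Or.inl (inv_mem hg)
      · exact Or.inr (by
          rw [show g⁻¹ * T = T * (g * T)⁻¹ * T⁻¹ * (T * T) by group]
          exact mul_mem (hn _ (inv_mem hg)) hTT) }

theorem mem_widen {T g : PG F V} {hT : T * T ∈ G} :
    g ∈ widen G T hT ↔ g ∈ stable G T ∨ g * T ∈ stable G T := Iff.rfl

theorem sq_mem_of_widen {T g : PG F V} {hT : T * T ∈ G} (h : g ∈ widen G T hT) : g * g ∈ G := by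
  rcases mem_widen.mp h with h | h
  · exact G.mul_mem (mem_stable.mp h).1 (mem_stable.mp h).1
  · obtain ⟨h1, h2⟩ := mem_stable.mp h
    rw [show g * g = g * T * (T * T)⁻¹ * (T * (g * T) * T⁻¹) by group]
    exact G.mul_mem (G.mul_mem h1 (G.inv_mem hT)) h2

end Data

namespace Geom

variable {B : Geom F V}

/-- **The dichotomy from pairs.** -/
theorem dichotomy_pairs_of [Finite F] (hG : Data.Pairs Φ G) (hC : B.Compat Φ) (hA : Nat.card A = 16)
    {i : F} (hi : i * i = -1) (hiN : B.IsHerm → i * B.σ i = 1) (hP : B.Pres G)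
    (hPt : ∀ z t, Φ.Tz z t → ∃ μ : F, μ ≠ 0 ∧ ∀ v w, B.f (t v) (t w) = μ * B.f v w)
    (hhalf : ∀ (g : V ≃ₗ[F] V) (a : V) (φ : V →ₗ[F] F), (∀ v, g v = v + φ v • a) → φ a = 0 → B.Isom g →
      ∀ g' : V ≃ₗ[F] V, (∀ v, g' v = v + ((2 : F)⁻¹ • φ) v • a) → B.Isom g') : G ≤ Φ.N ∨ B.Big G := by
  classical
  by_cases hsg : ∃ z, z ≠ 0 ∧ ∃ t, Φ.Tz z t ∧ pr F V t ∈ G
  · obtain ⟨z, hz, t, ht, htG⟩ := hsg
    have hF : Φ.Full G := ⟨hG.le, fun z' hz' => by
      obtain ⟨t', ht'⟩ := hG.lift z' hz'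
      refine ⟨t', ht', ?_⟩
      have := G.mul_mem (G.inv_mem htG) (hG.pair z z' hz hz' t t' ht ht')
      rwa [inv_mul_cancel_left] at this⟩
    exact dichotomy hF hC hP (by omega) hi hiN
  push Not at hsg
  obtain ⟨x0, hx0⟩ : ∃ x : A, x ≠ 0 := by
    haveI : Nontrivial A := Finite.one_lt_card_iff_nontrivial.mp (by omega)
    exact _root_.exists_ne 0
  obtain ⟨t0, ht0⟩ := hG.lift x0 hx0
  obtain ⟨T, hT⟩ : ∃ T, T = pr F V t0 := ⟨_, rfl⟩
  have hTT : T * T ∈ G := by rw [hT, ht0.sq_pr]; exact hG.le (Φ.e_mem _)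
  have hTi : T⁻¹ = T * Φ.e x0 := by
    rw [inv_eq_iff_mul_eq_one, ← mul_assoc, hT, ht0.sq_pr, Φ.e_sq]
  have hpair : ∀ z z', z ≠ 0 → z' ≠ 0 → ∀ t t', Φ.Tz z t → Φ.Tz z' t' →
      pr F V t * pr F V t' ∈ Data.stable G T := by
    intro z z' hz hz' t t' ht ht'
    refine Data.mem_stable.mpr ⟨hG.pair z z' hz hz' t t' ht ht', ?_⟩
    rw [hTi, show T * (pr F V t * pr F V t') * (T * Φ.e x0) = (T * pr F V t) * (pr F V t' * T) * Φ.e x0 by group, hT]
    exact G.mul_mem (G.mul_mem (hG.pair x0 z hx0 hz t0 t ht0 ht) (hG.pair z' x0 hz' hx0 t' t0 ht' ht0))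
      (hG.le (Φ.e_mem _))
  have hE : Φ.E ≤ Data.stable G T := by
    rintro _ ⟨a, rfl⟩
    exact Data.mem_stable.mpr ⟨hG.le (Φ.e_mem a), by rw [hT, ht0.acts a]; exact hG.le (Φ.e_mem _)⟩
  have hF : Φ.Full (Data.widen G T hTT) := ⟨fun x hx => Data.mem_widen.mpr (Or.inl (hE hx)), fun z hz => by
    obtain ⟨t, ht⟩ := hG.lift z hz
    exact ⟨t, ht, Data.mem_widen.mpr (Or.inr (by subst hT; exact hpair z x0 hz hx0 t t0 ht ht0))⟩⟩
  have hPW : B.Pres (Data.widen G T hTT) := by
    intro g hg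
    rcases Data.mem_widen.mp hg with hg | hg
    · exact hP g (Data.mem_stable.mp hg).1
    · have h' := (Data.mem_stable.mp hg).1
      obtain ⟨μ, hμ, hμv⟩ := hP (g * t0) (by rw [map_mul, ← hT]; exact h')
      obtain ⟨μ0, hμ0, hμ0v⟩ := hPt x0 t0 ht0
      refine ⟨μ / μ0, div_ne_zero hμ hμ0, fun v w => ?_⟩
      obtain ⟨v', rfl⟩ := t0.surjective v
      obtain ⟨w', rfl⟩ := t0.surjective w
      rw [hμ0v, ← mul_assoc, div_mul_cancel₀ _ hμ0, ← hμv]
      rfl
  rcases dichotomy hF hC hPW (by omega) hi hiN with hN | hbig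
  · left
    have hc : Φ.CentLe G := by
      intro x hx g hg hgx
      obtain ⟨t, ht⟩ := hG.lift x hx
      have key : ∀ k : V ≃ₗ[F] V, pr F V k ∈ G → (∀ v, k (Φ.u x v) = Φ.u x (k v)) → pr F V k ∈ Φ.N := by
        intro k hk hkx
        refine hN (Data.mem_widen.mpr (Or.inl (Data.mem_stable.mpr ⟨hk, ?_⟩)))
        have hcomm : pr F V t * pr F V k = pr F V k * pr F V t := by
          obtain ⟨ζ, -, htv⟩ := ht
          rw [← map_mul, ← map_mul, pr_eq_pr]
          exact ⟨1, fun v => by rw [one_smul, LinearEquiv.mul_apply, LinearEquiv.mul_apply, htv, htv, map_add, map_smul, hkx]⟩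
        obtain ⟨P, hP'⟩ : ∃ P, P = T * (pr F V t)⁻¹ := ⟨_, rfl⟩
        have hPG : P ∈ G := by
          rw [hP', show (pr F V t)⁻¹ = pr F V t * Φ.e x by
            rw [inv_eq_iff_mul_eq_one, ← mul_assoc, ht.sq_pr, Φ.e_sq], ← mul_assoc, hT]
          exact G.mul_mem (hG.pair x0 x hx0 hx t0 t ht0 ht) (hG.le (Φ.e_mem _))
        have e : T * pr F V k * T⁻¹ = P * pr F V k * P⁻¹ := by
          calc T * pr F V k * T⁻¹ = P * (pr F V t * pr F V k * (pr F V t)⁻¹) * P⁻¹ := by rw [hP']; group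
            _ = P * pr F V k * P⁻¹ := by rw [hcomm, mul_inv_cancel_right]
        rw [e]
        exact G.mul_mem (G.mul_mem hPG hk) (G.inv_mem hPG)
      obtain ⟨k, rfl⟩ := pr_surjective g
      obtain ⟨ε, hε, he⟩ := Φ.exists_sign hgx
      rcases hε with rfl | rfl
      · exact key k hg fun v => by rw [he, one_smul]
      · obtain ⟨z, hz⟩ := Φ.nd x hx
        have h1 := key (Φ.u z * k) (by rw [map_mul]; exact G.mul_mem (hG.le (Φ.e_mem z)) hg) fun v => by
          rw [LinearEquiv.mul_apply, LinearEquiv.mul_apply, he, neg_one_smul, map_neg, Φ.comm z x, Φ.sg_symm x z, hz,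
            neg_one_smul, neg_neg]
        rw [map_mul] at h1
        have h2 := Φ.N.mul_mem (Φ.N.inv_mem (Φ.E_le_N (Φ.e_mem z))) h1
        rwa [Data.e, inv_mul_cancel_left] at h2
    exact Data.finish_pairs hG (Data.fuses_sixteen hG hsg hc hA) hc (by omega)
  · right
    intro g a φ hg hφ hgi
    have hφ2 : ((2 : F)⁻¹ • φ) a = 0 := by rw [LinearMap.smul_apply, hφ, smul_zero]
    have hm := hbig (LinearEquiv.transvection hφ2) a ((2 : F)⁻¹ • φ) (fun v => rfl) hφ2 (hhalf g a φ hg hφ hgi _ fun v => rfl)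
    have e : g = LinearEquiv.transvection hφ2 * LinearEquiv.transvection hφ2 := LinearEquiv.ext fun v => by
      rw [hg]
      show v + φ v • a = (v + ((2 : F)⁻¹ • φ) v • a) + ((2 : F)⁻¹ • φ) (v + ((2 : F)⁻¹ • φ) v • a) • a
      rw [map_add, map_smul, hφ2, smul_zero, add_zero, LinearMap.smul_apply, smul_eq_mul, add_assoc, ← add_smul,
        ← two_mul, mul_inv_cancel_left₀ Φ.two]
    rw [e, map_mul]
    exact Data.sq_mem_of_widen hm

/-- The dichotomy from pairs over a prime field without form. -/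
theorem dichotomy_pairs [Finite F] (hG : Data.Pairs Φ G) (hC : B.Compat Φ) (hB : B.IsZero) (hA : Nat.card A = 16)
    {i : F} (hi : i * i = -1) : G ≤ Φ.N ∨ B.Big G :=
  dichotomy_pairs_of hG hC hA hi (fun hW => by
    obtain ⟨c, hc⟩ := hW.2.1
    obtain ⟨k, rfl⟩ := hB.2 c
    exact absurd (map_natCast _ _) hc)
    (fun g _ => ⟨1, one_ne_zero, fun v w => by rw [hB.1, hB.1, mul_zero]⟩)
    (fun _ _ _ => ⟨1, one_ne_zero, fun v w => by rw [hB.1, hB.1, mul_zero]⟩)
    fun _ _ _ _ _ _ g' _ => isom_of_zero B hB g'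

end Geom

end Cfsg.Agent.Classical.Frame
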