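/-
The normalisers of symplectic-type 2-groups in the four-dimensional special linear group over a prime field are
maximal.
-/
import Cfsg.Agent.Lib.Classical.Frame.EightMax
import Cfsg.Agent.Lib.Classical.Frame.PairDich

set_option autoImplicit false
set_option linter.unusedSectionVars false

namespace Cfsg.Agent.Classical.Frame

open Module Matrix Cfsg.Geo

universe u

variable {F : Type u} [Field F] [Fintype F]
  {R : Subgroup (GL (Fin 4) F)} {A : Type u} [AddCommGroup A] [Finite A] {Φ : Data F (Fin 4 → F) A} {r : A → R}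

theorem OfGroup.card_sixteen (h : OfGroup R Φ r) : Nat.card A = 16 := by
  rw [← Φ.dim, Module.finrank_fintype_fun_eq_card, Fintype.card_fin]; norm_num

theorem OfGroup.exists_lift (h : OfGroup R Φ r) {i : F} (hi : i * i = -1) {z : A} :
    ∃ t, Φ.Tz z t := by
  obtain ⟨ζ, hζ⟩ : ∃ ζ : F, ∀ v, ζ • Φ.u z (ζ • Φ.u z v) = -v := by
    obtain ⟨d, hd, hdv⟩ := h.sq z
    rcases hd with rfl | rfl
    · exact ⟨i, fun v => by rw [map_smul, hdv, one_smul, smul_smul, hi, neg_one_smul]⟩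
    · exact ⟨1, fun v => by rw [one_smul, one_smul, hdv, neg_one_smul]⟩
  have hmul : ∀ v, (1 + ζ • Φ.m z : End F (Fin 4 → F)) ((1 - ζ • Φ.m z : End F (Fin 4 → F)) v) = (2 : F) • v := by
    intro v
    show (v - ζ • Φ.u z v) + ζ • Φ.u z (v - ζ • Φ.u z v) = _
    rw [map_sub, smul_sub, hζ]
    module
  refine ⟨LinearEquiv.ofBijective (1 + ζ • Φ.m z : End F (Fin 4 → F)) ⟨?_, ?_⟩, ζ, hζ, fun v => rfl⟩
  · refine LinearMap.injective_iff_surjective.mpr fun v => ?_
    exact ⟨(1 - ζ • Φ.m z : End F (Fin 4 → F)) ((2 : F)⁻¹ • v), by rw [hmul, smul_inv_smul₀ Φ.two]⟩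
  · intro v
    exact ⟨(1 - ζ • Φ.m z : End F (Fin 4 → F)) ((2 : F)⁻¹ • v), by rw [hmul, smul_inv_smul₀ Φ.two]⟩

/-- The determinant of a lifted transvection. -/
theorem OfGroup.det_lift (h : OfGroup R Φ r) {i : F} (hi : i * i = -1) {z : A} (hz : z ≠ 0)
    {t : (Fin 4 → F) ≃ₗ[F] (Fin 4 → F)} (ht : Φ.Tz z t) : LinearMap.det t.toLinearMap = 4 := by
  obtain ⟨ζ, hζ0, hsq, htv⟩ := ht.apply_sq
  obtain ⟨s, hsd⟩ : ∃ s, s = i / ζ := ⟨_, rfl⟩
  have hζs : ζ * s = i := by rw [hsd, mul_div_cancel₀ _ hζ0]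
  have hs0 : s ≠ 0 := fun e => by rw [e, mul_zero] at hζs; simp [← hζs] at hi
  have hs : ∀ v, Φ.u z (Φ.u z v) = (s * s) • v := fun v => by
    rw [hsq]
    congr 1
    rw [hsd, div_mul_div_comm, hi]
    field_simp
  have hs' : ∀ v, Φ.u z (Φ.u z v) = (-s * -s) • v := fun v => by rw [neg_mul_neg]; exact hs v
  obtain ⟨y, hy⟩ := Φ.nd z hz
  have hc : IsCompl (Φ.eig z s) (Φ.eig z (-s)) := by
    refine ⟨Submodule.disjoint_def.mpr fun v h1 h2 => ?_, codisjoint_iff.mpr ?_⟩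
    · rw [Φ.mem_eig] at h1 h2
      have h3 : (2 * s) • v = 0 := by linear_combination (norm := module) h2 - h1
      exact (smul_eq_zero.mp h3).resolve_left (mul_ne_zero Φ.two hs0)
    · refine Submodule.eq_top_iff'.mpr fun v => ?_
      obtain ⟨a, ha, b, hb, e⟩ := Geom.decomp hs0 hs v
      exact Submodule.mem_sup.mpr ⟨a, ha, b, hb, e.symm⟩
  let e := Submodule.prodEquivOfIsCompl _ _ hc
  have he : t.toLinearMap = e.toLinearMap ∘ₗ LinearMap.prodMap ((1 + i) • (LinearMap.id : Φ.eig z s →ₗ[F] Φ.eig z s))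
      ((1 - i) • (LinearMap.id : Φ.eig z (-s) →ₗ[F] Φ.eig z (-s))) ∘ₗ e.symm.toLinearMap :=
    LinearMap.ext fun v => by
      obtain ⟨⟨a, b⟩, rfl⟩ := e.surjective v
      simp only [LinearMap.comp_apply, LinearEquiv.coe_coe, e.symm_apply_apply, LinearMap.prodMap_apply,
        LinearMap.smul_apply, LinearMap.id_apply]
      rw [Submodule.coe_prodEquivOfIsCompl', Submodule.coe_prodEquivOfIsCompl', htv, map_add,
        Φ.mem_eig.mp a.2, Φ.mem_eig.mp b.2]
      simp only [SetLike.val_smul]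
      match_scalars <;> first | linear_combination hζs | linear_combination -hζs
  rw [he, LinearMap.det_conj, LinearMap.det_prodMap, LinearMap.det_smul, LinearMap.det_id, LinearMap.det_smul,
    LinearMap.det_id, mul_one, mul_one]
  have h1 := Data.finrank_eig hy hs0 hs
  have h2 := Data.finrank_eig hy (neg_ne_zero.mpr hs0) hs'
  rw [Module.finrank_fintype_fun_eq_card, Fintype.card_fin] at h1 h2
  rw [show finrank F (Φ.eig z s) = 2 by omega, show finrank F (Φ.eig z (-s)) = 2 by omega]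
  linear_combination (i * i - 3) * hi

theorem OfGroup.pairs (h : OfGroup R Φ r) {i : F} (hi : i * i = -1) {M : Subgroup (GL (Fin 4) F)}
    (hle : subgroupNormalizer R ⊓ specialLinear (Fin 4) F ≤ M) : Data.Pairs Φ (imgG M) := by
  haveI : Nonempty (Fin 4) := ⟨0⟩
  have hpair : ∀ z z', z ≠ 0 → z' ≠ 0 → ∀ t t', Φ.Tz z t → Φ.Tz z' t' →
      pr F (Fin 4 → F) t * pr F (Fin 4 → F) t' ∈ imgG M := by
    intro z z' hz hz' t t' ht ht'
    obtain ⟨S, hS⟩ := toV_surjective (F := F)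
      ((LinearEquiv.smulOfUnit (Units.mk0 ((2 : F)⁻¹) (inv_ne_zero Φ.two))) * (t * t'))
    have hSv : ∀ v, toV (Fin 4) F S v = (2 : F)⁻¹ • t (t' v) := fun v => by rw [hS]; rfl
    have e : pr F (Fin 4 → F) (toV (Fin 4) F S) = pr F (Fin 4 → F) t * pr F (Fin 4 → F) t' := by
      rw [← map_mul, pr_eq_pr]
      exact ⟨2, fun v => by rw [hSv, smul_inv_smul₀ Φ.two]; rfl⟩
    rw [← e]
    refine ⟨_, ⟨S, hle ⟨?_, ?_⟩, rfl⟩, rfl⟩
    · refine h.le_normalizer (M := Subgroup.zpowers S) ?_ (Subgroup.mem_zpowers S)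
      rw [imgG, MonoidHom.map_zpowers, MonoidHom.map_zpowers, Subgroup.zpowers_le, e]
      exact (ht.acts.mul ht'.acts).mem_N
    · show S ∈ specialLinear (Fin 4) F
      rw [mem_specialLinear_iff, ← det_toV,
        show (toV (Fin 4) F S).toLinearMap = (2 : F)⁻¹ • (t.toLinearMap ∘ₗ t'.toLinearMap) from
          LinearMap.ext fun v => hSv v, LinearMap.det_smul, Module.finrank_fintype_fun_eq_card, Fintype.card_fin,
        LinearMap.det_comp, h.det_lift hi hz ht, h.det_lift hi hz' ht']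
      have := Φ.two
      field_simp
      norm_num
  refine ⟨?_, fun z _ => h.exists_lift hi, hpair⟩
  rintro _ ⟨a, rfl⟩
  rcases eq_or_ne a 0 with rfl | ha
  · rw [Φ.e_zero]; exact one_mem _
  · obtain ⟨t, ht⟩ := h.exists_lift hi (z := a)
    rw [← ht.sq_pr]
    exact hpair a a ha ha t t ht ht

/-- The normaliser misses some transvection. -/
theorem OfGroup.not_all (h : OfGroup R Φ r) (hr : Φ.Roots)
    (hall : specialLinear (Fin 4) F ≤ subgroupNormalizer R) : False := by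
  haveI : Nonempty (Fin 4) := ⟨0⟩
  obtain ⟨x, hx⟩ : ∃ x : A, x ≠ 0 := by
    haveI : Nontrivial A := Finite.one_lt_card_iff_nontrivial.mp (by rw [h.card_sixteen]; norm_num)
    exact _root_.exists_ne 0
  obtain ⟨z, hxz⟩ := Φ.nd x hx
  obtain ⟨s, hs0, hs⟩ := hr x
  have hdim := Data.finrank_eig hxz hs0 hs
  rw [Module.finrank_fintype_fun_eq_card, Fintype.card_fin] at hdim
  obtain ⟨bs⟩ : Nonempty (Basis (Fin 2) F (Φ.eig x s)) :=
    ⟨Module.finBasisOfFinrankEq F (Φ.eig x s) (by omega)⟩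
  obtain ⟨φ, hφ⟩ : ∃ φ : (Fin 4 → F) →ₗ[F] F, φ = (bs.coord 1).comp ((Geom.proj Φ x s).codRestrict (Φ.eig x s)
      fun v => Φ.mem_eig.mpr (by
        show Φ.u x ((2 * s)⁻¹ • (Φ.u x v + s • v)) = s • (2 * s)⁻¹ • (Φ.u x v + s • v)
        rw [map_smul, map_add, map_smul, hs]
        module)) := ⟨_, rfl⟩
  have hφW : ∀ w : Φ.eig x s, φ w = bs.coord 1 w := fun w => by
    rw [hφ, LinearMap.comp_apply]
    congr 1
    exact Subtype.ext (Geom.proj_self hs0 w.2)
  have hφm : ∀ v ∈ Φ.eig x (-s), φ v = 0 := fun v hv => by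
    rw [hφ, LinearMap.comp_apply]
    refine (congrArg (bs.coord 1) (Subtype.ext ?_)).trans (map_zero _)
    exact Geom.proj_other hv
  obtain ⟨a, ha⟩ : ∃ a : Fin 4 → F, a = bs 0 := ⟨_, rfl⟩
  obtain ⟨v0, hv0⟩ : ∃ v0 : Fin 4 → F, v0 = bs 1 := ⟨_, rfl⟩
  have hφa : φ a = 0 := by rw [ha, hφW]; simp
  have hφv : φ v0 = 1 := by rw [hv0, hφW]; simp
  obtain ⟨T, hT⟩ := toV_surjective (F := F) (LinearEquiv.transvection hφa)
  have hTv : ∀ v, toV (Fin 4) F T v = v + φ v • a := fun v => by rw [hT]; rfl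
  have hTS : T ∈ specialLinear (Fin 4) F := by
    rw [mem_specialLinear_iff, ← det_toV, hT]
    have e := congrArg Units.val (LinearEquiv.transvection.det_eq_one hφa)
    rw [LinearEquiv.coe_det, Units.val_one] at e
    exact e
  have hTN := hall hTS
  have hRx : (r z : GL (Fin 4) F) ∈ R := (r z).2
  obtain ⟨b, c, hb⟩ := h.cover (T * r z * T⁻¹ * (r z : GL (Fin 4) F)⁻¹)
    (R.mul_mem ((Subgroup.mem_normalizer_iff.mp hTN (r z : GL (Fin 4) F)).mp hRx) (R.inv_mem hRx))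
  have hplus : ∀ w ∈ Φ.eig x s, toV (Fin 4) F T w = c • Φ.u b w := fun w hw => by
    rw [← hb, map_mul, map_mul, map_mul, map_inv, map_inv, ← h.eq]
    simp only [LinearEquiv.mul_apply]
    have hm : (Φ.u z)⁻¹ w ∈ Φ.eig x (-s) := by
      rw [Φ.mem_eig] at hw ⊢
      refine (Φ.u z).injective ?_
      rw [map_smul, Φ.comm z x, Φ.sg_symm x z, hxz, show Φ.u z ((Φ.u z)⁻¹ w) = w from (Φ.u z).apply_symm_apply w, hw]
      module
    have hfix : (toV (Fin 4) F T)⁻¹ ((Φ.u z)⁻¹ w) = (Φ.u z)⁻¹ w := (toV (Fin 4) F T).injective (by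
      rw [show toV (Fin 4) F T ((toV (Fin 4) F T)⁻¹ _) = _ from (toV (Fin 4) F T).apply_symm_apply _, hTv,
        hφm _ hm, zero_smul, add_zero])
    rw [hfix, show Φ.u z ((Φ.u z)⁻¹ w) = w from (Φ.u z).apply_symm_apply w]
  have e0 := hplus a (ha ▸ (bs 0).2)
  have e1 := hplus v0 (hv0 ▸ (bs 1).2)
  rw [hTv, hφa, zero_smul, add_zero] at e0
  rw [hTv, hφv, one_smul] at e1
  obtain ⟨d, -, hd⟩ := Φ.sq b
  have e2 : (c * c * d) • v0 = v0 + (2 : F) • a := by
    have h1 : c • Φ.u b (c • Φ.u b v0) = v0 + (2 : F) • a := by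
      rw [← e1, map_add, smul_add, ← e0, ← e1]
      module
    rwa [map_smul, hd, smul_smul, smul_smul] at h1
  have e3 := congrArg φ e2
  rw [map_add, map_smul, map_smul, hφa, hφv, smul_eq_mul, smul_eq_mul, mul_one, mul_zero, add_zero] at e3
  rw [e3, one_smul] at e2
  have e5 : (2 : F) • a = 0 := by linear_combination (norm := module) -e2
  exact bs.ne_zero 0 (Subtype.ext (ha ▸ (smul_eq_zero.mp e5).resolve_left Φ.two))

omit r Φ in
/-- Dimension four, a prime field. -/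
theorem isMaximal_sl_four {p : ℕ} (hp : p.Prime) (hc : Fintype.card F = p) (h4 : p % 4 = 1)
    (hR : IsLinearSymplecticTypeData 2 R) :
    IsMaximalIn (specialLinear (Fin 4) F) (subgroupNormalizer R ⊓ specialLinear (Fin 4) F) := by
  haveI : Nonempty (Fin 4) := ⟨0⟩
  have h2 : (2 : F) ≠ 0 := two_ne_zero_of_odd_card (by rw [hc]; exact Nat.odd_iff.mpr (by omega))
  have hcen : Nat.card (Subgroup.center R) = 4 := by
    obtain ⟨q, e, -, -, h | h | h⟩ := hR.field
    · exact absurd h.1 (by decide)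
    · exact h.2.2.1
    · exact absurd h.2.2.1 (by simp)
  obtain ⟨hst, iu, hi⟩ := SType.of h2 hR.symplecticType hR.absIrred hcen
  obtain ⟨A, _, _, Φ, r, heq, hcov⟩ := hst.exists_data
  haveI := Fact.mk hp
  haveI : CharP F p := charP_of_card_pow hp one_ne_zero (by rw [pow_one, hc])
  have h : OfGroup R Φ r := ⟨hst, heq, hcov⟩
  let B : Geom F (Fin 4 → F) :=
    { σ := RingEquiv.refl F
      f := fun _ _ => 0
      add_left := fun _ _ _ => (add_zero 0).symm
      smul_left := fun _ _ _ => (mul_zero _).symm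
      herm := fun _ _ => rfl
      invol := fun _ => rfl
      kind := Or.inl ⟨fun _ _ => rfl, fun c => natCast_of_pow_eq p (by rw [← hc]; exact FiniteField.pow_card c)⟩ }
  have hnH : ¬ B.IsHerm := fun hH => by
    obtain ⟨c, hc⟩ := hH.2.1
    exact hc rfl
  have hZ : B.IsZero := B.cases.resolve_right hnH
  have hC : B.Compat Φ := fun a => ⟨B.isom_of_zero hZ _, fun hH => absurd hH hnH⟩
  have hr : Φ.Roots := fun a => by
    rcases eq_or_ne a 0 with rfl | ha
    · obtain ⟨c0, hc0, hu0⟩ := Φ.u_zero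
      exact ⟨c0, hc0, fun v => by rw [hu0, hu0, smul_smul]⟩
    · obtain ⟨t, ht⟩ := h.exists_lift hi (z := a)
      obtain ⟨ζ, hζ, hsq, -⟩ := ht.apply_sq
      refine ⟨(iu : F) * ζ⁻¹, mul_ne_zero iu.ne_zero (inv_ne_zero hζ), fun v => ?_⟩
      rw [hsq, mul_mul_mul_comm, hi, neg_one_mul, mul_inv]
  refine ⟨lt_of_le_not_ge inf_le_right fun e => h.not_all hr (e.trans inf_le_left), fun M hle hM => ?_⟩
  rcases Geom.dichotomy_pairs (h.pairs hi hle) hC hZ h.card_sixteen hi with hN | hBig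
  · exact Or.inl (le_antisymm (le_inf (h.le_normalizer hN) hM) hle)
  · refine Or.inr (le_antisymm hM ?_)
    refine (specialLinear_le_iff M).mpr fun j k hjk c => mem_of_img hle hM (transGL_mem hjk c) ?_
    refine hBig _ (Pi.single j 1) (c • LinearMap.proj k) (fun v => ?_) ?_ (B.isom_of_zero hZ _)
    · rw [toV_apply, transGL_mulVec, LinearMap.smul_apply, LinearMap.proj_apply, ← Pi.single_smul, smul_eq_mul,
        smul_eq_mul, mul_one]
    · simp [hjk.symm]

end Cfsg.Agent.Classical.Frame
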