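/-
The normalisers of symplectic-type 2-groups in the four-dimensional special unitary group over the square of a
prime `p ≡ 3 mod 4` are maximal.
-/
import Cfsg.Agent.Lib.Classical.Frame.FourMax
import Cfsg.Agent.Lib.Classical.UnitaryOvergroup

set_option autoImplicit false
set_option linter.unusedSectionVars false

namespace Cfsg.Agent.Classical.Frame

open Module Matrix Cfsg.Geo

universe u

variable {F : Type u} [Field F] [Fintype F]
  {R : Subgroup (GL (Fin 4) F)} {A : Type u} [AddCommGroup A] [Finite A] {Φ : Data F (Fin 4 → F) A} {r : A → R}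

/-- Pairs of lifts from the normaliser inside a group containing the relevant products. -/
theorem OfGroup.pairs_in (h : OfGroup R Φ r) {i : F} (hi : i * i = -1) {S M : Subgroup (GL (Fin 4) F)}
    (hle : subgroupNormalizer R ⊓ S ≤ M)
    (hS : ∀ z z', z ≠ 0 → z' ≠ 0 → ∀ t t', Φ.Tz z t → Φ.Tz z' t' → ∀ T : GL (Fin 4) F,
      (∀ v, toV (Fin 4) F T v = (2 : F)⁻¹ • t (t' v)) → T ∈ S) : Data.Pairs Φ (imgG M) := by
  haveI : Nonempty (Fin 4) := ⟨0⟩
  have hpair : ∀ z z', z ≠ 0 → z' ≠ 0 → ∀ t t', Φ.Tz z t → Φ.Tz z' t' →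
      pr F (Fin 4 → F) t * pr F (Fin 4 → F) t' ∈ imgG M := by
    intro z z' hz hz' t t' ht ht'
    obtain ⟨T, hT⟩ := toV_surjective (F := F)
      ((LinearEquiv.smulOfUnit (Units.mk0 ((2 : F)⁻¹) (inv_ne_zero Φ.two))) * (t * t'))
    have hTv : ∀ v, toV (Fin 4) F T v = (2 : F)⁻¹ • t (t' v) := fun v => by rw [hT]; rfl
    have e : pr F (Fin 4 → F) (toV (Fin 4) F T) = pr F (Fin 4 → F) t * pr F (Fin 4 → F) t' := by
      rw [← map_mul, pr_eq_pr]
      exact ⟨2, fun v => by rw [hTv, smul_inv_smul₀ Φ.two]; rfl⟩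
    rw [← e]
    refine ⟨_, ⟨T, hle ⟨?_, hS z z' hz hz' t t' ht ht' T hTv⟩, rfl⟩, rfl⟩
    refine h.le_normalizer (M := Subgroup.zpowers T) ?_ (Subgroup.mem_zpowers T)
    rw [imgG, MonoidHom.map_zpowers, MonoidHom.map_zpowers, Subgroup.zpowers_le, e]
    exact (ht.acts.mul ht'.acts).mem_N
  refine ⟨?_, fun z _ => h.exists_lift hi, hpair⟩
  rintro _ ⟨a, rfl⟩
  rcases eq_or_ne a 0 with rfl | ha
  · rw [Φ.e_zero]; exact one_mem _
  · obtain ⟨t, ht⟩ := h.exists_lift hi (z := a)
    rw [← ht.sq_pr]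
    exact hpair a a ha ha t t ht ht

/-- A transvection inside one eigenspace does not normalise the group. -/
theorem OfGroup.not_normalizes_four (h : OfGroup R Φ r) {x z : A} (hxz : Φ.sg x z = -1) {s : F} {T : GL (Fin 4) F}
    {a v0 : Fin 4 → F} {φ : (Fin 4 → F) →ₗ[F] F} (hTv : ∀ v, toV (Fin 4) F T v = v + φ v • a) (ha0 : a ≠ 0)
    (ha : a ∈ Φ.eig x s) (hv0 : v0 ∈ Φ.eig x s) (hφa : φ a = 0) (hφv : φ v0 = 1)
    (hφm : ∀ v ∈ Φ.eig x (-s), φ v = 0) : T ∉ subgroupNormalizer R := by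
  intro hTN
  have hRx : (r z : GL (Fin 4) F) ∈ R := (r z).2
  obtain ⟨b, c, hb⟩ := h.cover (T * r z * T⁻¹ * (r z : GL (Fin 4) F)⁻¹)
    (R.mul_mem ((Subgroup.mem_normalizer_iff.mp hTN (r z : GL (Fin 4) F)).mp hRx) (R.inv_mem hRx))
  have hplus : ∀ w ∈ Φ.eig x s, toV (Fin 4) F T w = c • Φ.u b w := fun w hw => by
    rw [← hb, map_mul, map_mul, map_mul, map_inv, map_inv, ← h.eq]
    simp only [LinearEquiv.mul_apply]
    have hm : (Φ.u z)⁻¹ w ∈ Φ.eig x (-s) := by
      rw [Φ.mem_eig] at hw ⊢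
      refine (Φ.u z).injective ?_
      rw [map_smul, Φ.comm z x, Φ.sg_symm x z, hxz, show Φ.u z ((Φ.u z)⁻¹ w) = w from (Φ.u z).apply_symm_apply w, hw]
      module
    have hfix : (toV (Fin 4) F T)⁻¹ ((Φ.u z)⁻¹ w) = (Φ.u z)⁻¹ w := (toV (Fin 4) F T).injective (by
      rw [show toV (Fin 4) F T ((toV (Fin 4) F T)⁻¹ _) = _ from (toV (Fin 4) F T).apply_symm_apply _, hTv,
        hφm _ hm, zero_smul, add_zero])
    rw [hfix, show Φ.u z ((Φ.u z)⁻¹ w) = w from (Φ.u z).apply_symm_apply w]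
  have e0 := hplus a ha
  have e1 := hplus v0 hv0
  rw [hTv, hφa, zero_smul, add_zero] at e0
  rw [hTv, hφv, one_smul] at e1
  obtain ⟨d, -, hd⟩ := Φ.sq b
  have e2 : (c * c * d) • v0 = v0 + (2 : F) • a := by
    have h1 : c • Φ.u b (c • Φ.u b v0) = v0 + (2 : F) • a := by
      rw [← e1, map_add, smul_add, ← e0, ← e1]
      module
    rwa [map_smul, hd, smul_smul, smul_smul] at h1
  have e3 := congrArg φ e2
  rw [map_add, map_smul, map_smul, hφa, hφv, smul_eq_mul, smul_eq_mul, mul_one, mul_zero, add_zero] at e3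
  rw [e3, one_smul] at e2
  have e5 : (2 : F) • a = 0 := by linear_combination (norm := module) -e2
  exact ha0 ((smul_eq_zero.mp e5).resolve_left Φ.two)

omit r Φ in
/-- Dimension four, the square of a prime `p ≡ 3 mod 4`. -/
theorem isMaximal_su_four {p : ℕ} (hp : p.Prime) (hF : Fintype.card F = p ^ 2) (h4 : p % 4 = 3)
    (hR : IsSymplecticTypeGroup 2 R) (hirr : ActsAbsolutelyIrreducibly (matrixSet R)) (hU : R ≤ Cfsg.GU 4 F p)
    (hcen : Nat.card (Subgroup.center R) = 4) :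
    IsMaximalIn (Cfsg.GU 4 F p ⊓ specialLinear (Fin 4) F)
      (subgroupNormalizer R ⊓ (Cfsg.GU 4 F p ⊓ specialLinear (Fin 4) F)) := by
  haveI : Nonempty (Fin 4) := ⟨0⟩
  obtain ⟨-, -, σ, -, -, -, -, hσ⟩ := exists_usigma hF
  have h2 : (2 : F) ≠ 0 := two_ne_zero_of_odd_card (by rw [hF]; exact (Nat.odd_iff.mpr (by omega)).pow)
  obtain ⟨hst, iu, hi⟩ := SType.of h2 hR hirr hcen
  obtain ⟨A, _, _, Φ, r, heq, hcov⟩ := hst.exists_data
  have h : OfGroup R Φ r := ⟨hst, heq, hcov⟩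
  haveI := Fact.mk hp
  haveI : CharP F p := charP_of_card_pow hp two_ne_zero hF
  let B : Geom F (Fin 4 → F) :=
    { σ := σ
      f := hermForm 4 F p
      add_left := hσ.isUnitaryForm.add_left
      smul_left := hσ.isUnitaryForm.smul_left
      herm := fun v w => hσ.isUnitaryForm.herm w v
      invol := hσ.involutive
      kind := Or.inr ⟨fun v hv => by
          by_contra hv0
          obtain ⟨w, hw⟩ := (hσ.isUnitaryForm.nondegenerate v hv0).1
          exact hw (by rw [hσ.isUnitaryForm.herm w v, hv w, map_zero]),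
        by
          by_contra hh
          push Not at hh
          exact hσ.ne_refl (RingEquiv.ext hh),
        fun c hc => natCast_of_pow_eq p (by rw [← hσ.apply_eq]; exact hc),
        fun t ht => by
          rcases eq_or_ne t 0 with rfl | ht0
          · exact ⟨0, zero_mul _⟩
          · obtain ⟨x, -, hx⟩ := hσ.norm_surjective ht0 ht
            exact ⟨x, hx⟩⟩ }
  have hB : B.IsHerm := B.cases.resolve_left fun hz => by
    obtain ⟨w, hw⟩ := ((hσ.isUnitaryForm (n := 4)).nondegenerate (Pi.single 0 (1 : F))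
      (fun e => by simpa using congrFun e 0)).1
    exact hw (hz.1 _ _)
  have hisom : ∀ g ∈ Cfsg.GU 4 F p, B.Isom (toV (Fin 4) F g) := fun g hg v w => mem_GU_iff.mp hg v w
  have hNi : (iu : F) * σ iu = 1 := by
    have h4i : iu ^ 4 = 1 := Units.ext (by
      rw [Units.val_pow_eq_pow_val, Units.val_one]; linear_combination ((iu : F) * iu - 1) * hi)
    obtain ⟨v, hv⟩ := hB.exists_aniso (v := (Pi.single 0 1 : Fin 4 → F)) fun e => by simpa using congrFun e 0
    have e := hisom _ (hU (hst.roots iu h4i)) v v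
    rw [scalarGL_apply, B.smul_left, B.smul_right] at e
    exact mul_right_cancel₀ hv (by rw [one_mul]; linear_combination e)
  have hiso_u : ∀ a, B.Isom (Φ.u a) := fun a => by rw [heq]; exact hisom _ (hU (r a).2)
  have hroot : ∀ a, ∀ s : F, (∀ v, Φ.u a (Φ.u a v) = (s * s) • v) → s * σ s = 1 := fun a s hs => by
    obtain ⟨d, hd, hdv⟩ := h.sq a
    obtain ⟨v, hv⟩ := Φ.exists_ne
    have e : s * s = d := smul_left_injective F hv (show (s * s) • v = d • v by rw [← hs, hdv])
    rcases hd with rfl | rfl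
    · rcases mul_self_eq_one_iff.mp e with rfl | rfl <;> simp
    · rcases mul_self_eq_mul_self_iff.mp (e.trans hi.symm) with rfl | rfl
      · exact hNi
      · simpa using hNi
  have hC : B.Compat Φ := fun a => ⟨hiso_u a, fun _ => hroot a⟩
  -- a lift doubles the form
  have htz : ∀ z t, Φ.Tz z t → ∀ v w, B.f (t v) (t w) = 2 * B.f v w := by
    rintro z t ⟨ζ, hζ, htv⟩ v w
    obtain ⟨d, hd, hdv⟩ := h.sq z
    obtain ⟨x, hx⟩ := Φ.exists_ne
    have hζd : ζ * ζ * d = -1 := smul_left_injective F hx (show (ζ * ζ * d) • x = (-1 : F) • x by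
      rw [neg_one_smul, ← hζ x, map_smul, hdv, smul_smul, smul_smul])
    have hd0 : d ≠ 0 := fun e => by rw [e, mul_zero] at hζd; simp at hζd
    have hN : ζ * σ ζ = 1 := by
      have e : ζ * ζ = -d⁻¹ := by field_simp; linear_combination hζd
      rcases hd with rfl | rfl
      · rcases mul_self_eq_mul_self_iff.mp (show ζ * ζ = (iu : F) * iu by rw [e, hi, inv_one]) with rfl | rfl
        · exact hNi
        · simpa using hNi
      · rcases mul_self_eq_one_iff.mp (show ζ * ζ = 1 by rw [e]; norm_num) with rfl | rfl <;> simp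
    have h1 : B.f (Φ.u z v) w = d * B.f v (Φ.u z w) := by
      have e := hiso_u z (Φ.u z v) w
      rw [hdv, B.smul_left] at e
      linear_combination -e
    have h3 : σ ζ + ζ * d = 0 := by
      refine (mul_eq_zero.mp (show ζ * (σ ζ + ζ * d) = 0 by linear_combination hN + hζd)).resolve_left fun e => ?_
      rw [e, zero_mul] at hN
      exact zero_ne_one hN
    rw [htv, htv, B.add_left, B.add_right, B.add_right, B.smul_left, B.smul_left, B.smul_right, B.smul_right,
      hiso_u z v w, h1]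
    change _ + σ ζ * B.f v (Φ.u z w) + (ζ * (d * B.f v (Φ.u z w)) + ζ * (σ ζ * B.f v w)) = 2 * B.f v w
    linear_combination B.f v w * hN + B.f v (Φ.u z w) * h3
  refine ⟨lt_of_le_not_ge inf_le_right fun e => ?_, fun M hle hM => ?_⟩
  · -- a transvection inside an eigenspace
    obtain ⟨x, hx⟩ : ∃ x : A, x ≠ 0 := by
      haveI : Nontrivial A := Finite.one_lt_card_iff_nontrivial.mp (by rw [h.card_sixteen]; norm_num)
      exact _root_.exists_ne 0
    obtain ⟨z, hxz⟩ := Φ.nd x hx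
    obtain ⟨s, hs0, hs⟩ : ∃ s : F, s ≠ 0 ∧ ∀ v, Φ.u x (Φ.u x v) = (s * s) • v := by
      obtain ⟨d, hd, hdv⟩ := h.sq x
      rcases hd with rfl | rfl
      · exact ⟨1, one_ne_zero, fun v => by rw [hdv, mul_one]⟩
      · exact ⟨iu, iu.ne_zero, fun v => by rw [hdv, hi]⟩
    have hdim := Data.finrank_eig hxz hs0 hs
    rw [Module.finrank_fintype_fun_eq_card, Fintype.card_fin] at hdim
    obtain ⟨a, w, ha, haa, -, haw⟩ := Geom.exists_hyperbolic (Geom.onEig_herm hB hC x hs0 hs) h2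
      (show 2 ≤ finrank F (Φ.eig x s) by omega) 1
    replace haa : B.f (a : Fin 4 → F) a = 0 := haa
    replace haw : B.f (a : Fin 4 → F) w = 1 := haw
    obtain ⟨c, hc0, hc⟩ := hσ.exists_skew
    obtain ⟨T, hT, hTv⟩ := hσ.exists_transvection (v := (a : Fin 4 → F)) haa hc
    let φ : (Fin 4 → F) →ₗ[F] F :=
      { toFun := fun y => c * B.f y a
        map_add' := fun y y' => by rw [B.add_left]; ring
        map_smul' := fun e y => by rw [B.smul_left, RingHom.id_apply, smul_eq_mul]; ring }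
    refine h.not_normalizes_four hxz (T := T) (φ := φ) (a := (a : Fin 4 → F))
      (v0 := c⁻¹ • (w : Fin 4 → F)) hTv (fun e0 => ha (Subtype.ext e0)) a.2 (Submodule.smul_mem _ _ w.2)
      (show c * B.f (a : Fin 4 → F) a = 0 by rw [haa, mul_zero]) ?_ (fun v hv => ?_) (e hT).1
    · show c * B.f (c⁻¹ • (w : Fin 4 → F)) a = 1
      rw [B.smul_left, B.herm (a : Fin 4 → F) w, haw, map_one, mul_one, mul_inv_cancel₀ hc0]
    · show c * B.f v a = 0
      have e2 := hB.eig_orth hC hs (Φ.mem_eig.mp a.2) (Φ.mem_eig.mp hv)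
      rw [B.herm (a : Fin 4 → F) v, e2, map_zero, mul_zero]
  have hP : B.Pres (imgG M) := by
    intro g hg
    obtain ⟨_, ⟨m, hm, rfl⟩, e⟩ := hg
    obtain ⟨c, hc⟩ := pr_eq_pr.mp e
    have hc0 : c ≠ 0 := by
      rintro rfl
      have := g.map_eq_zero_iff.mp (show g (Pi.single 0 (1 : F)) = 0 by rw [hc, zero_smul])
      simpa using congrFun this 0
    refine ⟨c * B.σ c, mul_ne_zero hc0 ((map_ne_zero B.σ).mpr hc0), fun v w => ?_⟩
    rw [hc, hc, B.smul_left, B.smul_right, hisom m (hM hm).1 v w, mul_assoc]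
  have hS : ∀ z z', z ≠ 0 → z' ≠ 0 → ∀ t t', Φ.Tz z t → Φ.Tz z' t' → ∀ T : GL (Fin 4) F,
      (∀ v, toV (Fin 4) F T v = (2 : F)⁻¹ • t (t' v)) → T ∈ Cfsg.GU 4 F p ⊓ specialLinear (Fin 4) F := by
    intro z z' hz hz' t t' ht ht' T hTv
    refine ⟨mem_GU_iff.mpr fun v w => ?_, ?_⟩
    · show B.f (toV (Fin 4) F T v) (toV (Fin 4) F T w) = B.f v w
      rw [hTv, hTv, B.smul_left, B.smul_right, htz z t ht, htz z' t' ht']
      show (2 : F)⁻¹ * (σ (2 : F)⁻¹ * _) = _
      rw [map_inv₀, map_ofNat]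
      field_simp
    · show T ∈ specialLinear (Fin 4) F
      rw [mem_specialLinear_iff, ← det_toV,
        show (toV (Fin 4) F T).toLinearMap = (2 : F)⁻¹ • (t.toLinearMap ∘ₗ t'.toLinearMap) from
          LinearMap.ext fun v => hTv v, LinearMap.det_smul, Module.finrank_fintype_fun_eq_card, Fintype.card_fin,
        LinearMap.det_comp, h.det_lift hi hz ht, h.det_lift hi hz' ht']
      have := Φ.two
      field_simp
      norm_num
  have hhalf : ∀ (g : (Fin 4 → F) ≃ₗ[F] (Fin 4 → F)) (a : Fin 4 → F) (φ : (Fin 4 → F) →ₗ[F] F),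
      (∀ v, g v = v + φ v • a) → φ a = 0 → B.Isom g →
      ∀ g' : (Fin 4 → F) ≃ₗ[F] (Fin 4 → F), (∀ v, g' v = v + ((2 : F)⁻¹ • φ) v • a) → B.Isom g' := by
    intro g a φ hg hφ hgi g' hg'
    by_cases hz : φ = 0 ∨ a = 0
    · intro v w
      have e : ∀ y, g' y = y := fun y => by rw [hg']; rcases hz with rfl | rfl <;> simp
      rw [e, e]
    push Not at hz
    obtain ⟨haa, t, ht, hφt⟩ := hB.shape hg hφ hgi hz.1 hz.2
    refine B.isom_trans (t := (2 : F)⁻¹ * t) (fun v => ?_) haa (by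
      rw [map_mul, map_inv₀, map_ofNat, ← mul_add, ht, mul_zero])
    rw [hg', LinearMap.smul_apply, hφt, smul_eq_mul, mul_assoc]
  rcases Geom.dichotomy_pairs_of (h.pairs_in hi hle hS) hC h.card_sixteen hi (fun _ => hNi) hP
      (fun z t ht => ⟨2, Φ.two, htz z t ht⟩) hhalf with hN | hBig
  · exact Or.inl (le_antisymm (le_inf (h.le_normalizer hN) hM) hle)
  · refine Or.inr (le_antisymm hM (UOver.suGL_le (K := M) hσ (by norm_num) fun v c hv hc g hg => ?_))
    refine mem_of_img hle hM (UOver.tv_mem hσ hv hc hg) ?_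
    refine hBig _ v { toFun := fun x => c * B.f x v
                      map_add' := fun x y => by rw [B.add_left]; ring
                      map_smul' := fun e x => by rw [B.smul_left, RingHom.id_apply, smul_eq_mul]; ring } hg ?_
      (hisom g (UOver.tv_mem hσ hv hc hg).1)
    show c * B.f v v = 0
    rw [show B.f v v = 0 from hv, mul_zero]

end Cfsg.Agent.Classical.Frame
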